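import Groth.Agent.StackCount.FrobPts

/-!
# Models over finite subfields of objects of `[X/G]` (helper34)
-/

set_option autoImplicit false
set_option backward.isDefEq.respectTransparency false
set_option backward.isDefEq.respectTransparency.types false

universe u

open CategoryTheory CategoryTheory.Limits MonoidalCategory CartesianMonoidalCategory MonObj GrpObj AlgebraicGeometry

noncomputable section

namespace Groth.StackCount

theorem hasModel_iff (k : Type u) [Field k] [Finite k]
    (G : Over (Spec (CommRingCat.of k))) [GrpObj G] [Smooth G.hom] [IsAffineHom G.hom]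
    (X : Over (Spec (CommRingCat.of k))) [LocallyOfFiniteType X.hom] [QuasiCompact X.hom]
    [IsReduced X.left] (aX : AlgGrp.Action G X)
    (k' : IntermediateField k (AlgebraicClosure k)) [FiniteDimensional k k']
    (j : (Over.mk (Spec.map (CommRingCat.ofHom (algebraMap k (AlgebraicClosure k)))) : Over (Spec (CommRingCat.of k))) ⟶ (Over.mk (Spec.map (CommRingCat.ofHom (algebraMap k k'))) : Over (Spec (CommRingCat.of k))))
    (hj : j.left = Spec.map (CommRingCat.ofHom (algebraMap k' (AlgebraicClosure k))))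
    (A : (AlgSt.QuotObj.forget Scheme.etalePrecoverage G aX).Fiber (Over.mk (Spec.map (CommRingCat.ofHom (algebraMap k (AlgebraicClosure k)))) : Over (Spec (CommRingCat.of k)))) (t : (Over.mk (Spec.map (CommRingCat.ofHom (algebraMap k (AlgebraicClosure k)))) : Over (Spec (CommRingCat.of k))) ⟶ A.1.P) (ht : t ≫ A.1.π = eqToHom A.2.symm) :
    (∃ (B : AlgSt.QuotObj Scheme.etalePrecoverage G aX) (hB : B.base = (Over.mk (Spec.map (CommRingCat.ofHom (algebraMap k k'))) : Over (Spec (CommRingCat.of k))))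
        (h : A.1 ⟶ B), h.base = eqToHom A.2 ≫ j ≫ eqToHom hB.symm) ↔
    (∀ (σ : AlgebraicClosure k ≃ₐ[k'] AlgebraicClosure k) (s : (Over.mk (Spec.map (CommRingCat.ofHom (algebraMap k (AlgebraicClosure k)))) : Over (Spec (CommRingCat.of k))) ⟶ (Over.mk (Spec.map (CommRingCat.ofHom (algebraMap k (AlgebraicClosure k)))) : Over (Spec (CommRingCat.of k)))),
        s.left = Spec.map (CommRingCat.ofHom σ.toRingEquiv.toRingHom) →
        ∃ g : (Over.mk (Spec.map (CommRingCat.ofHom (algebraMap k (AlgebraicClosure k)))) : Over (Spec (CommRingCat.of k))) ⟶ G,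
          CartesianMonoidalCategory.lift g (t ≫ A.1.φ) ≫ aX.act = s ≫ t ≫ A.1.φ) := by
  classical
  have : LocallyOfFiniteType G.hom := inferInstance
  let kb := AlgebraicClosure k
  have : IsGalois k' (AlgebraicClosure k) := ⟨⟩
  let T' := SGA7.pt (K := k) k'
  have hj' : j = toBase k k' (AlgebraicClosure k) := Over.OverMorphism.ext hj
  have hs : ∀ (σ : AlgebraicClosure k ≃ₐ[k'] AlgebraicClosure k) s, s.left = Spec.map (CommRingCat.ofHom σ.toRingEquiv.toRingHom) →
      s = gs k σ := fun σ s h => Over.OverMorphism.ext h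
  let x := t ≫ A.1.φ
  constructor
  · rintro ⟨B, hB, h, hb⟩ σ s hσ
    obtain rfl := hs σ s hσ
    let Bf : (AlgSt.QuotSt Scheme.etalePrecoverage G aX).p.Fiber (SGA7.pt (K := k) k') := ⟨B, hB⟩
    have hu : (t ≫ h.top) ≫ fπ Bf = toBase k k' (AlgebraicClosure k) := by
      show (t ≫ h.top) ≫ B.π ≫ eqToHom hB = _
      rw [Category.assoc, ← Category.assoc h.top, h.cart.w, hb, ← hj']
      simp only [Category.assoc, reassoc_of% ht, eqToHom_trans, eqToHom_trans_assoc, eqToHom_refl,
        Category.id_comp, Category.comp_id]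
    let s := KPoint.mk' (A := Bf) (t ≫ h.top) hu
    refine ⟨s.a σ, ?_⟩
    have e := congrArg (· ≫ B.φ) (s.ha σ)
    simp only [Category.assoc] at e
    rw [show Bf.1.act.act ≫ B.φ = (G ◁ B.φ) ≫ aX.act from B.eqv, lift_whiskerLeft_assoc] at e
    simp only [s, KPoint.mk', Category.assoc, h.wφ] at e
    exact e
  · intro hfix
    have : Finite k' := Module.finite_of_finite k
    have := Fintype.ofFinite k'
    let Γ := SGA7.pt (K := k) (AlgebraicClosure k) ⟶ G
    let _ := galGrpAction (k := k) k' (AlgebraicClosure k) G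
    let π := FiniteField.frobeniusAlgEquivOfAlgebraic k' (AlgebraicClosure k)
    have hπ : ∀ y : AlgebraicClosure k, π y = y ^ Nat.card k' := fun y => by
      rw [Nat.card_eq_fintype_card]; rfl
    obtain ⟨g, hg⟩ := hfix π (gs k π) rfl
    obtain ⟨z, hz⟩ := FrobGen.exists_cocycle hπ (A := Γ) (fun a => isOpen_fix a) (fun a => exists_finite_stable a) g⁻¹
    let a : (AlgebraicClosure k ≃ₐ[k'] AlgebraicClosure k) → Γ := fun σ => (z.1.1 σ)⁻¹
    have hlc : IsLocallyConstant a := z.2.comp fun g => g⁻¹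
    have hco : ∀ σ τ, a (σ * τ) = (gs k σ ≫ a τ) * a σ := fun σ τ => by
      show (z.1.1 (σ * τ))⁻¹ = (σ • (z.1.1 τ)⁻¹) * (z.1.1 σ)⁻¹
      rw [z.1.2 σ τ, _root_.mul_inv_rev, smul_inv']
    have ha1 : a 1 = 1 := by
      have := hco 1 1
      rwa [_root_.mul_one, gs_one, Category.id_comp, left_eq_mul] at this
    have hmul : ∀ σ τ, lift (a σ) x ≫ aX.act = gs k σ ≫ x → lift (a τ) x ≫ aX.act = gs k τ ≫ x →
        lift (a (σ * τ)) x ≫ aX.act = gs k (σ * τ) ≫ x := fun σ τ h₁ h₂ => by
      rw [hco, Groth.AlgGrp2.lift_mul_act, h₁, gs_mul, Category.assoc, ← h₂, comp_lift_assoc]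
    have hπa : lift (a π) x ≫ aX.act = gs k π ≫ x := by
      have : a π = g := by simp only [a, hz]; exact inv_inv _
      rw [this]; exact hg
    have hpow : ∀ i : ℕ, lift (a (π ^ i)) x ≫ aX.act = gs k (π ^ i) ≫ x := by
      intro i
      induction i with
      | zero => rw [pow_zero, ha1, gs_one, Category.id_comp, Groth.AlgGrp2.lift_one_act]
      | succ i ih => rw [pow_succ]; exact hmul _ _ ih hπa
    obtain ⟨S₁, hS₁⟩ := exists_level_of_isLocallyConstant hlc
    obtain ⟨S₂, hS₂⟩ := exists_finset_level (k' := k') x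
    obtain ⟨E, _, _, _, hSE⟩ := exists_galois_level (k' := k') (S₁ ∪ S₂)
    simp only [Finset.coe_union, Set.union_subset_iff] at hSE
    obtain ⟨xE, hxE⟩ := hS₂ E hSE.2
    have hall : ∀ σ, lift (a σ) x ≫ aX.act = gs k σ ≫ x := fun σ => by
      obtain ⟨i, hi⟩ := FrobGen.exists_pow_agree hπ E σ
      have hτ := (IntermediateField.mem_fixingSubgroup_iff _ _).1 hi
      rw [← mul_inv_cancel_left (π ^ i) σ]
      refine hmul _ _ (hpow i) ?_
      rw [hS₁ _ fun y hy => hτ y (hSE.1 hy), ha1, Groth.AlgGrp2.lift_one_act, ← hxE, ← Category.assoc, gs_jot,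
        show ((π ^ i)⁻¹ * σ).restrictNormal E = 1 from AlgEquiv.ext fun y => Subtype.ext
          ((((π ^ i)⁻¹ * σ).restrictNormal_commutes E y).trans (hτ y y.2)), gs_one, Category.comp_id]
    obtain ⟨B, s, -, hsx⟩ := exists_obj_kb (fun E hd hg => singleton_mem_etale E hd hg) a hlc hco x hall
    obtain ⟨i⟩ := Groth.StkGerb.QuotFin.nonempty_iso_trivObj A t ht
    let h' : (Groth.StkGerb.QuotFin.trivObj Scheme.etalePrecoverage aX x).1 ⟶ B.1 :=
      { base := s.pt ≫ B.1.π
        top := (G ◁ s.pt) ≫ B.1.act.act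
        eqv := by
          exact ((AlgSt.quotMap Scheme.etalePrecoverage G B.1.act).obj ⟨_, ⟨s.pt⟩⟩).eqv
        cart := (AlgSt.isPullback_whiskerLeft (G := G) s.pt).paste_horiz B.1.cart
        wφ := by
          show ((G ◁ s.pt) ≫ B.1.act.act) ≫ B.1.φ = (G ◁ x) ≫ aX.act
          rw [Category.assoc, B.1.eqv, ← MonoidalCategory.whiskerLeft_comp_assoc, hsx] }
    refine ⟨B.1, B.2, i.inv.1 ≫ h', ?_⟩
    have hib : i.inv.1.base = eqToHom A.2 := by
      have := i.inv.2
      exact (IsHomLift.fac' (AlgSt.QuotSt Scheme.etalePrecoverage G aX).p (𝟙 (SGA7.pt (K := k) (AlgebraicClosure k))) i.inv.1).trans (by simp)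
    show i.inv.1.base ≫ s.pt ≫ B.1.π = _
    rw [hib, ← cancel_mono (eqToHom B.2)]
    simp only [Category.assoc, eqToHom_trans, eqToHom_refl, Category.comp_id]
    rw [hj']
    exact congrArg (eqToHom A.2 ≫ ·) s.pt_π

end Groth.StackCount
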