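import Groth.Agent.StackCount.FrobPts
import Groth.Prelude.Def_NonAbH2

/-!
# Torsors over a field as objects of `BG` (helper34)
-/

set_option autoImplicit false
set_option backward.isDefEq.respectTransparency false
set_option backward.isDefEq.respectTransparency.types false

universe u

open CategoryTheory CategoryTheory.Limits MonoidalCategory CartesianMonoidalCategory MonObj GrpObj AlgebraicGeometry
open AlgSt

noncomputable section

namespace Groth.StackCount

variable {k : Type u} [Field k] {G : Over (Spec (CommRingCat.of k))} [GrpObj G]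

def isTerminal_ptSelf : IsTerminal (SGA7.pt (K := k) k) :=
  Over.mkIdTerminal.ofIso (Over.isoMk (Iso.refl _) (by
    show 𝟙 _ ≫ Spec.map (CommRingCat.ofHom (algebraMap k k)) = 𝟙 _
    rw [Category.id_comp]
    exact Spec.map_id (CommRingCat.of k)))

variable {K : Precoverage Scheme.{u}}

/-- A torsor over `k` as an object of `BG` over `Spec k`. -/
def toObj (P : NonAbH1.TorsorSch G K) : (BG K G).p.Fiber (SGA7.pt (K := k) k) :=
  ⟨{ base := SGA7.pt (K := k) k
     P := P.X
     act := P.act
     π := isTerminal_ptSelf.from P.X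
     cart := by
       have : IsIso (lift P.act.act (snd G P.X)) := P.isTorsor.1
       refine (IsPullback.of_is_product (C := Over (Spec (CommRingCat.of k)))
         (tensorProductIsBinaryProduct P.X P.X) isTerminal_ptSelf).of_iso
         (asIso (lift P.act.act (snd G P.X))).symm (Iso.refl _) (Iso.refl _) (Iso.refl _) ?_ ?_ ?_ ?_
       · show fst P.X P.X ≫ 𝟙 _ = inv (lift P.act.act (snd G P.X)) ≫ P.act.act
         rw [IsIso.eq_inv_comp, Category.comp_id, lift_fst]
       · show snd P.X P.X ≫ 𝟙 _ = inv (lift P.act.act (snd G P.X)) ≫ snd G P.X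
         rw [IsIso.eq_inv_comp, Category.comp_id, lift_snd]
       · exact isTerminal_ptSelf.hom_ext _ _
       · exact isTerminal_ptSelf.hom_ext _ _
     loc := by
       have h : (Over.mk (isTerminal_ptSelf.from P.X).left : Over (Spec (CommRingCat.of k))) = Over.mk P.X.hom := by
         have e := Over.w (isTerminal_ptSelf.from P.X)
         have e' : (SGA7.pt (K := k) k).hom = 𝟙 _ := Spec.map_id (CommRingCat.of k)
         rw [e'] at e
         exact congrArg Over.mk ((Category.comp_id _).symm.trans e)
       show NonAbH1.IsLocallyTrivialFor K (Over.mk (isTerminal_ptSelf.from P.X).left : Over (Spec (CommRingCat.of k)))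
       rw [h]
       exact P.isTorsor.2
     φ := toUnit _
     eqv := toUnit_unique _ _ }, rfl⟩

/-- An object of `BG` over `Spec k` as a torsor. -/
def ofObj (A : (BG K G).p.Fiber (SGA7.pt (K := k) k)) : NonAbH1.TorsorSch G K where
  X := A.1.P
  act := A.1.act
  isTorsor := by
    obtain ⟨A, hA⟩ := A
    obtain ⟨B, P, act, π, cart, loc, φ, eqv⟩ := A
    change B = SGA7.pt (K := k) k at hA
    subst hA
    refine ⟨⟨cart.lift (fst P P) (snd P P) (isTerminal_ptSelf.hom_ext _ _), ?_, ?_⟩, ?_⟩
    · refine cart.hom_ext ?_ ?_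
      · rw [Category.assoc, cart.lift_fst, lift_fst, Category.id_comp]
      · rw [Category.assoc, cart.lift_snd, lift_snd, Category.id_comp]
    · apply CartesianMonoidalCategory.hom_ext
      · rw [Category.assoc, lift_fst, cart.lift_fst, Category.id_comp]
      · rw [Category.assoc, lift_snd, cart.lift_snd, Category.id_comp]
    · have e := Over.w π
      have e' : (SGA7.pt (K := k) k).hom = 𝟙 _ := Spec.map_id (CommRingCat.of k)
      rw [e'] at e
      have h : (Over.mk π.left : Over (Spec (CommRingCat.of k))) = Over.mk P.hom :=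
        congrArg Over.mk ((Category.comp_id _).symm.trans e)
      have loc' : NonAbH1.IsLocallyTrivialFor K (Over.mk π.left : Over (Spec (CommRingCat.of k))) := loc
      rw [h] at loc'
      exact loc'

theorem toObj_ofObj (A : (BG K G).p.Fiber (SGA7.pt (K := k) k)) : Nonempty (toObj (ofObj A) ≅ A) :=
  ⟨Groth.StkGerb.QuotFin.fibIso (Iso.refl _) (by simp [toObj, ofObj])
    (by
      rw [← cancel_mono (eqToHom A.2)]
      exact isTerminal_ptSelf.hom_ext _ _)
    (toUnit_unique _ _)⟩

/-- Morphisms of torsors are morphisms in `BG`. -/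
def homEquivIso (P Q : NonAbH1.TorsorSch G K) : (toObj P ⟶ toObj Q) ≃ NonAbH1.EquivIso P.act Q.act where
  toFun f :=
    have := isIso_fibHom f
    have : IsIso f.1.base := by
      have e : f.1.base = 𝟙 (SGA7.pt (K := k) k) := isTerminal_ptSelf.hom_ext _ _
      rw [e]
      exact IsIso.id _
    have := f.1.cart.isIso_fst_of_isIso
    ⟨asIso f.1.top, f.1.eqv⟩
  invFun e := (Groth.StkGerb.QuotFin.fibIso (A := toObj P) (B := toObj Q) e.iso e.comm
    (isTerminal_ptSelf.hom_ext _ _) (toUnit_unique _ _)).hom
  left_inv f := Subtype.ext (QuotObj.hom_ext (isTerminal_ptSelf.hom_ext _ _) rfl)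
  right_inv e := by
    obtain ⟨i, hi⟩ := e
    dsimp only
    congr 1
    ext
    rfl

variable {kb : Type u} [Field kb] [Algebra k kb] [IsGalois k kb]
  [LocallyOfFiniteType G.hom] [Finite k] [IsAlgClosed kb] [Finite (SGA7.pt (K := k) kb ⟶ G)]

theorem isEssFinite_BG (hlft : ∀ A : (BG K G).p.Fiber (SGA7.pt (K := k) k), LocallyOfFiniteType A.1.P.hom)
    (hpt : ∀ A : (BG K G).p.Fiber (SGA7.pt (K := k) k), Nonempty (KPoint A kb)) :
    StkCnt.IsEssFinite (StkCnt.pts (BG K G) k) := by
  let s := fun A => Classical.choice (hpt A)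
  refine ⟨?_, fun x y => ?_⟩
  · let _ := galGrpAction (k := k) k kb G
    have := Fintype.ofFinite k
    let π := FiniteField.frobeniusAlgEquivOfAlgebraic k kb
    have hπ : ∀ x : kb, π x = x ^ Nat.card k := fun x => by
      rw [Nat.card_eq_fintype_card]; rfl
    refine Finite.of_injective (fun c : StkCnt.IsoCl (StkCnt.pts (BG K G) k) => (s c.out).a π) fun c c' h => ?_
    rw [← Quotient.out_eq c, ← Quotient.out_eq c']
    obtain ⟨e, -⟩ := exists_homEquiv_kb (hlft c.out) (hlft c'.out) (s c.out) (s c'.out)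
    let mk : (A : (BG K G).p.Fiber (SGA7.pt (K := k) k)) → GpH1.OneCocycleLC (kb ≃ₐ[k] kb) (SGA7.pt (K := k) kb ⟶ G) :=
      fun A => ⟨⟨fun σ => ((s A).a σ)⁻¹, fun σ τ => by
        show ((s A).a (σ * τ))⁻¹ = ((s A).a σ)⁻¹ * σ • ((s A).a τ)⁻¹
        rw [(s A).cocycle, _root_.mul_inv_rev, smul_inv']
        rfl⟩, ((s A).isLocallyConstant (hlft A)).comp fun g => g⁻¹⟩
    have heq : ∀ σ, (s c.out).a σ = (s c'.out).a σ := fun σ => inv_injective <|
      congrArg (fun v => v.1.1 σ) (FrobGen.eq_of_apply_frobenius hπ (mk c.out) (mk c'.out)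
        (congrArg (·⁻¹) h))
    have f := e.symm ⟨1, toUnit_unique _ _, fun σ => by simp [heq]⟩
    have := isIso_fibHom f
    exact Quotient.sound ⟨asIso f⟩
  · obtain ⟨e, -⟩ := exists_homEquiv_kb (hlft x) (hlft y) (s x) (s y)
    exact Finite.of_equiv _ e.symm

end Groth.StackCount
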