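import Groth.Agent.StackCount.KbLevel
import Groth.Agent.QuotEt.Compare

/-!
# Geometric points of objects and coverings by finite separable extensions (helper34)
-/

set_option autoImplicit false
set_option backward.isDefEq.respectTransparency false
set_option backward.isDefEq.respectTransparency.types false

universe u

open CategoryTheory CategoryTheory.Limits MonoidalCategory CartesianMonoidalCategory AlgebraicGeometry
open AlgSt

noncomputable section

namespace Groth.StackCount

variable {k : Type u} [Field k] {k' : Type u} [Field k'] [Algebra k k']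
  {G X : Over (Spec (CommRingCat.of k))} [GrpObj G] {aX : AlgGrp.Action G X}

/-- An etale object as an fppf object, in the fibres. -/
def fibToFppf (A : (QuotSt Scheme.etalePrecoverage G aX).p.Fiber (SGA7.pt (K := k) k')) :
    (QuotSt Scheme.fppfPrecoverage G aX).p.Fiber (SGA7.pt (K := k) k') :=
  ⟨Groth.QuotEt.toFppfObj aX A.1, A.2⟩

theorem lft_fppf [Module.Finite k k'] (hG : Smooth G.hom)
    (A : (QuotSt Scheme.fppfPrecoverage G aX).p.Fiber (SGA7.pt (K := k) k')) :
    LocallyOfFiniteType A.1.P.hom := by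
  have := Groth.QuotEt.smooth_π aX hG A.1
  have h₀ : LocallyOfFiniteType (SGA7.pt (K := k) k').hom := by
    show LocallyOfFiniteType (Spec.map (CommRingCat.ofHom (algebraMap k k')))
    rw [HasRingHomProperty.Spec_iff (P := @LocallyOfFiniteType)]
    exact RingHom.Finite.finiteType (RingHom.finite_algebraMap.2 ‹_›)
  have h : (fπ A).left ≫ (SGA7.pt (K := k) k').hom = A.1.P.hom := Over.w (fπ A)
  rw [← h]
  have : LocallyOfFiniteType (fπ A).left := by
    show LocallyOfFiniteType (A.1.π.left ≫ (eqToHom A.2).left)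
    infer_instance
  infer_instance

theorem lft_etale [Module.Finite k k'] (hG : Smooth G.hom)
    (A : (QuotSt Scheme.etalePrecoverage G aX).p.Fiber (SGA7.pt (K := k) k')) :
    LocallyOfFiniteType A.1.P.hom :=
  lft_fppf hG (fibToFppf A)

variable (kb : Type u) [Field kb] [IsAlgClosed kb] [Algebra k kb] [Algebra k' kb] [IsScalarTower k k' kb]

theorem exists_kpt_fppf (A : (QuotSt Scheme.fppfPrecoverage G aX).p.Fiber (SGA7.pt (K := k) k')) :
    Nonempty (KPoint A kb) := by
  obtain ⟨R, hR, hR'⟩ := A.1.loc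
  let ε := (eqToHom A.2 : A.1.base ⟶ SGA7.pt (K := k) k').left
  have : IsIso ε := inferInstanceAs (IsIso ((Over.forget _).map (eqToHom A.2)))
  obtain ⟨S', f, hf, s₀⟩ : ∃ (S' : Scheme.{u}) (f : S' ⟶ A.1.base.left), R f ∧ Nonempty S' := by
    obtain ⟨I₀, Z, g, rfl⟩ := R.exists_eq_ofArrows
    obtain ⟨i, t, -⟩ := ((Scheme.ofArrows_mem_precoverage_iff _).1 hR).1
      ((inv ε : _ ⟶ A.1.base.left) (IsLocalRing.closedPoint k'))
    exact ⟨Z i, g i, ⟨i⟩, ⟨t⟩⟩
  obtain ⟨σ, hσ⟩ := hR' f hf
  replace hσ : σ ≫ A.1.π.left = f := hσ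
  have : LocallyOfFinitePresentation f := (hR.2 hf).2
  let S'' : Over (Spec (CommRingCat.of k')) := Over.mk (f ≫ ε)
  have : Nonempty S''.left := s₀
  have : LocallyOfFiniteType S''.hom := inferInstanceAs (LocallyOfFiniteType (f ≫ ε))
  obtain ⟨p₀⟩ := Groth.StkGerb.QuotFin.exists_algClosed_point S'' kb
  have hp : p₀.left ≫ σ ≫ (fπ A).left = (toBase k k' kb).left := by
    show p₀.left ≫ σ ≫ A.1.π.left ≫ ε = _
    rw [reassoc_of% hσ]
    exact Over.w p₀
  refine ⟨KPoint.mk' (Over.homMk (p₀.left ≫ σ) ?_) (Over.OverMorphism.ext ?_)⟩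
  · rw [← Over.w (fπ A), ← Category.assoc, Category.assoc p₀.left σ, hp]
    exact Over.w (toBase k k' kb)
  · show (p₀.left ≫ σ) ≫ (fπ A).left = _
    rw [Category.assoc, hp]

theorem exists_kpt_etale (A : (QuotSt Scheme.etalePrecoverage G aX).p.Fiber (SGA7.pt (K := k) k')) :
    Nonempty (KPoint A kb) := by
  obtain ⟨s⟩ := exists_kpt_fppf kb (fibToFppf A)
  exact ⟨⟨s.pt, s.pt_π, s.a, s.ha⟩⟩

variable {kb}

omit [IsAlgClosed kb] in
theorem singleton_mem_etale (E : IntermediateField k' kb) (hd : FiniteDimensional k' E) (hg : IsGalois k' E) :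
    Presieve.singleton (toBase k k' E).left ∈ Scheme.etalePrecoverage (SGA7.pt (K := k) k').left := by
  rw [Scheme.etalePrecoverage, Scheme.singleton_mem_precoverage_iff]
  refine ⟨(surjective_toBase (k := k)).surj, ?_⟩
  show Etale (Spec.map (CommRingCat.ofHom (algebraMap k' E)))
  rw [HasRingHomProperty.Spec_iff (P := @Etale)]
  change RingHom.Etale (algebraMap k' E)
  rw [RingHom.etale_algebraMap]
  haveI : Algebra.FormallyEtale k' E := Algebra.FormallyEtale.of_isSeparable k' E
  exact ⟨inferInstance, Algebra.FinitePresentation.of_finiteType.mp inferInstance⟩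

omit [IsAlgClosed kb] in
theorem singleton_mem_fppf (E : IntermediateField k' kb) (hd : FiniteDimensional k' E) (hg : IsGalois k' E) :
    Presieve.singleton (toBase k k' E).left ∈ Scheme.fppfPrecoverage (SGA7.pt (K := k) k').left :=
  Groth.AlgSpBoot.etalePrecoverage_le_fppfPrecoverage _ (singleton_mem_etale E hd hg)

end Groth.StackCount
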