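import Groth.Agent.StackCount.Classify
import Groth.Agent.StackCount.Cover
import Groth.Agent.StackCount.FrobGen

/-!
# Cocycles of geometric points over a finite field and the count of `BG` (helper34)
-/

set_option autoImplicit false
set_option backward.isDefEq.respectTransparency false
set_option backward.isDefEq.respectTransparency.types false

universe u

open CategoryTheory CategoryTheory.Limits MonoidalCategory CartesianMonoidalCategory MonObj GrpObj AlgebraicGeometry
open AlgSt Groth.Agf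

noncomputable section

namespace Groth.StackCount

/-- A group with the twisted conjugation action of an endomorphism. -/
def TwConj {A : Type u} [Group A] (_f : A →* A) : Type u := A

instance {A : Type u} [Group A] (f : A →* A) : MulAction A (TwConj f) where
  smul g b := (f g * (show A from b) * g⁻¹ : A)
  one_smul b := show (f 1 * (show A from b) * 1⁻¹ : A) = b by simp
  mul_smul g g' b := show (f (g * g') * (show A from b) * (g * g')⁻¹ : A) =
      f g * (f g' * (show A from b) * g'⁻¹) * g⁻¹ by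
    rw [map_mul]; group

theorem twConj_smul {A : Type u} [Group A] (f : A →* A) (g : A) (b : TwConj f) :
    g • b = (f g * (show A from b) * g⁻¹ : A) := rfl

variable {k : Type u} [Field k] {k' : Type u} [Field k'] [Algebra k k'] {kb : Type u} [Field kb]
  [Algebra k kb] [Algebra k' kb] [IsScalarTower k k' kb]
  {G : Over (Spec (CommRingCat.of k))} [GrpObj G]

variable (k' kb G) in
/-- The Galois group of `kb/k'` acts on the `kb`-points of a `k`-group. -/
@[instance_reducible] def galGrpAction :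
    MulDistribMulAction (kb ≃ₐ[k'] kb) (SGA7.pt (K := k) kb ⟶ G) where
  smul σ g := gs k σ ≫ g
  one_smul g := show gs k (1 : kb ≃ₐ[k'] kb) ≫ g = g by rw [gs_one, Category.id_comp]
  mul_smul σ τ g := show gs k (σ * τ) ≫ g = gs k σ ≫ gs k τ ≫ g by rw [gs_mul, Category.assoc]
  smul_mul σ g h := show gs k σ ≫ (g * h) = _ from MonObj.comp_mul _ _ _
  smul_one σ := show gs k σ ≫ (1 : SGA7.pt (K := k) kb ⟶ G) = 1 from MonObj.comp_one _

variable [IsGalois k' kb] [LocallyOfFiniteType G.hom]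

theorem isOpen_fix (g : SGA7.pt (K := k) kb ⟶ G) :
    IsOpen {σ : kb ≃ₐ[k'] kb | gs k σ ≫ g = g} := by
  let _ := galGrpAction (k := k) k' kb G
  obtain ⟨S, hS⟩ := exists_finset_level (k' := k') g
  obtain ⟨E, _, _, _, hSE⟩ := exists_galois_level (k' := k') S
  obtain ⟨z, hz⟩ := hS E hSE
  refine Subgroup.isOpen_mono (H₁ := E.fixingSubgroup) (H₂ := MulAction.stabilizer (kb ≃ₐ[k'] kb) g)
    (fun σ hσ => ?_) E.fixingSubgroup_isOpen
  show gs k σ ≫ g = g
  have h1 : σ.restrictNormal E = 1 := AlgEquiv.ext fun x => Subtype.ext <|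
    (σ.restrictNormal_commutes E x).trans ((IntermediateField.mem_fixingSubgroup_iff _ _).1 hσ x x.2)
  rw [← hz, ← Category.assoc, gs_jot, h1, gs_one, Category.comp_id]

theorem exists_finite_stable [Finite k] [Module.Finite k k'] [QuasiCompact G.hom] (g : SGA7.pt (K := k) kb ⟶ G) :
    ∃ H : Subgroup (SGA7.pt (K := k) kb ⟶ G), (H : Set (SGA7.pt (K := k) kb ⟶ G)).Finite ∧ g ∈ H ∧
      ∀ (σ : kb ≃ₐ[k'] kb) (x : SGA7.pt (K := k) kb ⟶ G), x ∈ H → gs k σ ≫ x ∈ H := by
  obtain ⟨S, hS⟩ := exists_finset_level (k' := k') g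
  obtain ⟨E, _, _, _, hSE⟩ := exists_galois_level (k' := k') S
  obtain ⟨z, hz⟩ := hS E hSE
  have : Module.Finite k E := Module.Finite.trans k' E
  have := finite_pts E G
  let f : (SGA7.pt (K := k) E ⟶ G) →* (SGA7.pt (K := k) kb ⟶ G) :=
    MonoidHom.mk' (fun w => jot E ≫ w) fun a b => MonObj.comp_mul _ _ _
  refine ⟨f.range, Set.finite_range _, ⟨z, hz⟩, ?_⟩
  rintro σ _ ⟨w, rfl⟩
  exact ⟨gs k (σ.restrictNormal E) ≫ w, show jot E ≫ _ = gs k σ ≫ jot E ≫ w by
    rw [← Category.assoc, ← gs_jot, Category.assoc]⟩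

omit [IsGalois k' kb] [LocallyOfFiniteType G.hom] [Algebra k' kb] [IsScalarTower k k' kb] [Algebra k k'] in
/-- A finite scheme has finitely many points in a field. -/
theorem finite_pts_of_isFinite [IsFinite G.hom] : Finite (SGA7.pt (K := k) kb ⟶ G) := by
  have : IsAffine G.left := isAffine_of_isAffineHom G.hom
  have : Module.Finite k (Fn G) := by
    have h : G.hom.appTop.hom.Finite := G.hom.finite_appTop
    have h' : (constHom G).Finite :=
      h.comp (RingHom.Finite.of_surjective _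
        (Scheme.ΓSpecIso (CommRingCat.of k)).commRingCatIsoToRingEquiv.symm.surjective)
    exact RingHom.finite_algebraMap.1 h'
  exact Finite.of_injective (evalPt (X := G) (B := kb)) fun g h e => pt_ext e

variable {K : Precoverage Scheme.{u}}

/-- The count of `BG` for a group with finitely many geometric points is `1`. -/
theorem ptCount_BG_eq_one [Finite k] [Module.Finite k k'] [IsAlgClosed kb] [IsAffineHom G.hom]
    [Finite (SGA7.pt (K := k) kb ⟶ G)]
    (hlft : ∀ A : (QuotSt K G (trivAction G)).p.Fiber (SGA7.pt (K := k) k'), LocallyOfFiniteType A.1.P.hom)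
    (hpt : ∀ A : (QuotSt K G (trivAction G)).p.Fiber (SGA7.pt (K := k) k'), Nonempty (KPoint A kb))
    (hK : ∀ E : IntermediateField k' kb, FiniteDimensional k' E → IsGalois k' E →
      Presieve.singleton (toBase k k' E).left ∈ K (SGA7.pt (K := k) k').left)
    (h : StkCnt.IsEssFinite (StkCnt.pts (BG K G) k')) : StkCnt.ptCount (BG K G) k' h = 1 := by
  classical
  have : Finite k' := Module.finite_of_finite k
  have : Algebra.IsAlgebraic k' kb := inferInstance
  let _ := galGrpAction (k := k) k' kb G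
  have := Fintype.ofFinite k'
  let π := FiniteField.frobeniusAlgEquivOfAlgebraic k' kb
  have hπ : ∀ x : kb, π x = x ^ Nat.card k' := fun x => by
    rw [Nat.card_eq_fintype_card]; rfl
  let Γ := SGA7.pt (K := k) kb ⟶ G
  have hcont : ∀ a : Γ, IsOpen {σ : kb ≃ₐ[k'] kb | σ • a = a} := fun a => isOpen_fix a
  have hfin : ∀ a : Γ, ∃ H : Subgroup Γ, (H : Set Γ).Finite ∧ a ∈ H ∧
      ∀ (σ : kb ≃ₐ[k'] kb) (x : Γ), x ∈ H → σ • x ∈ H := fun a => exists_finite_stable a
  -- twisted conjugation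
  let f : Γ →* Γ := MulDistribMulAction.toMonoidHom Γ π
  let Q := TwConj f
  have : Finite Q := ‹Finite Γ›
  have hex : ∀ q : MulAction.orbitRel.Quotient Γ Q, ∃ z : GpH1.OneCocycleLC (kb ≃ₐ[k'] kb) Γ, z.1.1 π = (show Γ from q.out)⁻¹ :=
    fun q => FrobGen.exists_cocycle hπ hcont hfin _
  choose z hz using hex
  let a : MulAction.orbitRel.Quotient Γ Q → (kb ≃ₐ[k'] kb) → Γ := fun q σ => ((z q).1.1 σ)⁻¹
  have haπ : ∀ q, a q π = (show Γ from q.out) := fun q => by simp only [a, hz]; exact inv_inv _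
  have hlc : ∀ q, IsLocallyConstant (a q) := fun q => (z q).2.comp fun g => g⁻¹
  have hco : ∀ q σ τ, a q (σ * τ) = (gs k σ ≫ a q τ) * a q σ := fun q σ τ => by
    show ((z q).1.1 (σ * τ))⁻¹ = (σ • ((z q).1.1 τ)⁻¹) * ((z q).1.1 σ)⁻¹
    rw [(z q).1.2 σ τ, _root_.mul_inv_rev, smul_inv']
  -- relations at the Frobenius extend to the Galois group
  have ext : ∀ (b b' : (kb ≃ₐ[k'] kb) → Γ), IsLocallyConstant b → IsLocallyConstant b' →
      (∀ σ τ, b (σ * τ) = (gs k σ ≫ b τ) * b σ) → (∀ σ τ, b' (σ * τ) = (gs k σ ≫ b' τ) * b' σ) →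
      ∀ g : Γ, (π • g) * b' π = b π * g → ∀ σ, (gs k σ ≫ g) * b' σ = b σ * g := by
    intro b b' hb hb' hcb hcb' g hg σ
    let mkz : ∀ c : (kb ≃ₐ[k'] kb) → Γ, IsLocallyConstant c → (∀ σ τ, c (σ * τ) = (gs k σ ≫ c τ) * c σ) →
        GpH1.OneCocycleLC (kb ≃ₐ[k'] kb) Γ := fun c hc hcc =>
      ⟨⟨fun σ => (c σ)⁻¹, fun σ τ => by
        show (c (σ * τ))⁻¹ = (c σ)⁻¹ * σ • (c τ)⁻¹
        rw [hcc, _root_.mul_inv_rev, smul_inv']
        rfl⟩, hc.comp fun g => g⁻¹⟩
    have hd : ∀ σ τ, (g⁻¹ * (mkz b hb hcb).1.1 (σ * τ) * (σ * τ) • g : Γ) =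
        (g⁻¹ * (mkz b hb hcb).1.1 σ * σ • g) * σ • (g⁻¹ * (mkz b hb hcb).1.1 τ * τ • g) := fun σ τ => by
      simp only [(mkz b hb hcb).1.2 σ τ, smul_mul', smul_inv', mul_smul]
      group
    let w : GpH1.OneCocycleLC (kb ≃ₐ[k'] kb) Γ :=
      ⟨⟨fun σ => g⁻¹ * (mkz b hb hcb).1.1 σ * σ • g, hd⟩,
        ((mkz b hb hcb).2.comp (g⁻¹ * ·)).comp₂ (FrobGen.isLocallyConstant_smul hcont g) (· * ·)⟩
    have e := FrobGen.eq_of_apply_frobenius hπ (mkz b' hb' hcb') w (by
      show (b' π)⁻¹ = g⁻¹ * (b π)⁻¹ * π • g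
      rw [← _root_.mul_inv_rev, ← hg]
      group)
    have e' : (b' σ)⁻¹ = g⁻¹ * (b σ)⁻¹ * σ • g := congrArg (fun v => v.1.1 σ) e
    show (σ • g) * b' σ = b σ * g
    rw [← _root_.inv_inv (b' σ), e']
    group
  have : Fintype (MulAction.orbitRel.Quotient Γ Q) := Fintype.ofFinite _
  have : LocallyOfFiniteType (𝟙_ (Over (Spec (CommRingCat.of k)))).hom :=
    inferInstanceAs (LocallyOfFiniteType (𝟙 (Spec (CommRingCat.of k))))
  have : QuasiCompact (𝟙_ (Over (Spec (CommRingCat.of k)))).hom :=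
    inferInstanceAs (QuasiCompact (𝟙 (Spec (CommRingCat.of k))))
  rw [ptCount_eq (kb := kb) hlft hpt hK a hlc hco ?_ ?_ h]
  · have key := Groth.StkGerb.QuotFin.sum_inv_card_stabilizer Γ Q
    rw [finsum_eq_sum_of_fintype, show Nat.card Q = Nat.card Γ from rfl,
      div_self (Nat.cast_ne_zero.2 (Nat.card_pos (α := Γ)).ne')] at key
    rw [← key]
    refine Finset.sum_congr rfl fun q _ => ?_
    have hX : Nat.card {x : SGA7.pt (K := k) kb ⟶ 𝟙_ (Over (Spec (CommRingCat.of k))) //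
        ∀ σ, lift (a q σ) x ≫ (trivAction G).act = gs k σ ≫ x} = 1 :=
      Nat.card_eq_one_iff_unique.2 ⟨⟨fun x y => Subtype.ext (toUnit_unique _ _)⟩,
        ⟨⟨toUnit _, fun σ => toUnit_unique _ _⟩⟩⟩
    rw [hX, Nat.cast_one, one_div]
    congr 2
    refine Nat.card_congr (Equiv.subtypeEquivRight fun g => ?_)
    rw [MulAction.mem_stabilizer_iff, twConj_smul]
    constructor
    · intro hg
      have := hg π
      rw [haπ] at this
      exact (mul_inv_eq_iff_eq_mul (G := Γ)).2 this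
    · intro hg
      exact ext _ _ (hlc q) (hlc q) (hco q) (hco q) g (by rw [haπ]; exact (mul_inv_eq_iff_eq_mul (G := Γ)).1 hg)
  · intro b hb hcb
    obtain ⟨g, hg⟩ : ∃ g : Γ, g • (Quotient.mk'' (show Q from b π) : MulAction.orbitRel.Quotient Γ Q).out = (show Q from b π) :=
      MulAction.orbitRel_apply.1 (Quotient.eq''.1 (Quotient.out_eq' (Quotient.mk'' (show Q from b π) :
        MulAction.orbitRel.Quotient Γ Q)).symm)
    exact ⟨_, g, ext _ _ hb (hlc _) hcb (hco _) g (by rw [haπ]; exact (mul_inv_eq_iff_eq_mul (G := Γ)).1 hg)⟩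
  · intro c c' g hg
    rw [← Quotient.out_eq' c, ← Quotient.out_eq' c']
    refine Quotient.sound' (MulAction.orbitRel_apply.2 ⟨g, ?_⟩)
    have := hg π
    rw [haπ, haπ] at this
    exact (mul_inv_eq_iff_eq_mul (G := Γ)).2 this

end Groth.StackCount
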