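import Groth.Prelude.Def_StkCnt
import Groth.Agent.StkGerb.QuotFin.MassFormula

/-!
# Counting a category described by families of group actions (helper34)
-/

set_option autoImplicit false

universe w v u u₁ u₂

open CategoryTheory

noncomputable section

namespace Groth.StackCount

/-- A category whose hom sets are transporters of finitely many actions: its point count. -/
theorem count_eq_sum_div {C : Type u} [Category.{v} C] {ι : Type w} [Fintype ι] {H : ι → Type u₁}
    [∀ c, Group (H c)] [∀ c, Finite (H c)] {Y : ι → Type u₂} [∀ c, MulAction (H c) (Y c)]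
    (obj : ∀ c, Y c → C) (hsurj : ∀ x : C, ∃ c y, Nonempty (obj c y ≅ x))
    (hne : ∀ c c' y y', (obj c y ⟶ obj c' y') → c = c')
    (hiso : ∀ (x y : C) (f : x ⟶ y), IsIso f)
    (e : ∀ c (y y' : Y c), (obj c y ⟶ obj c y') ≃ {g : H c // g • y' = y})
    (hfin : ∀ c, Finite (Y c)) (h : StkCnt.IsEssFinite C) :
    StkCnt.count C h = ∑ c, (Nat.card (Y c) : ℚ) / (Nat.card (H c) : ℚ) := by
  classical
  have hrel : ∀ c (y y' : Y c), Nonempty (obj c y ≅ obj c y') ↔ MulAction.orbitRel (H c) (Y c) y y' :=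
    fun c y y' => by
      rw [MulAction.orbitRel_apply]
      constructor
      · rintro ⟨i⟩
        exact ⟨(e c y y' i.hom).1, (e c y y' i.hom).2⟩
      · rintro ⟨g, hg⟩
        have := hiso _ _ ((e c y y').symm ⟨g, hg⟩)
        exact ⟨asIso ((e c y y').symm ⟨g, hg⟩)⟩
  let ψ : (Σ c, MulAction.orbitRel.Quotient (H c) (Y c)) → StkCnt.IsoCl C := fun p =>
    Quotient.liftOn' p.2 (fun y => StkCnt.IsoCl.mk (obj p.1 y))
      fun y y' hy => Quotient.sound ((hrel p.1 y y').2 hy)
  have hψ : Function.Bijective ψ := by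
    constructor
    · rintro ⟨c, q⟩ ⟨c', q'⟩
      induction q using Quotient.inductionOn' with | h y => ?_
      induction q' using Quotient.inductionOn' with | h y' => ?_
      intro hq
      obtain ⟨i⟩ := Quotient.exact hq
      obtain rfl := hne c c' y y' i.hom
      exact congrArg (Sigma.mk c) (Quotient.sound ((hrel c y y').1 ⟨i⟩))
    · rintro ⟨x⟩
      obtain ⟨c, y, hy⟩ := hsurj x
      exact ⟨⟨c, Quotient.mk'' y⟩, Quotient.sound hy⟩
  have : ∀ c, Fintype (MulAction.orbitRel.Quotient (H c) (Y c)) := fun c => Fintype.ofFinite _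
  have : Fintype (StkCnt.IsoCl C) := Fintype.ofBijective ψ hψ
  rw [StkCnt.count_eq_sum h, ← (Equiv.ofBijective ψ hψ).sum_comp, Fintype.sum_sigma]
  refine Finset.sum_congr rfl fun c _ => ?_
  rw [← Groth.StkGerb.QuotFin.sum_inv_card_stabilizer (H c) (Y c), finsum_eq_sum_of_fintype]
  refine Finset.sum_congr rfl fun q _ => ?_
  have hq : ψ ⟨c, q⟩ = StkCnt.IsoCl.mk (obj c q.out) :=
    congrArg (fun q' => ψ ⟨c, q'⟩) (Quotient.out_eq' q).symm
  show (((StkCnt.autCard C (ψ ⟨c, q⟩)) : ℕ) : ℚ)⁻¹ = _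
  rw [hq, StkCnt.autCard_mk]
  congr 2
  let e' : Aut (obj c q.out) ≃ (obj c q.out ⟶ obj c q.out) :=
    { toFun := fun i => i.hom
      invFun := fun f => haveI := hiso _ _ f; asIso f
      left_inv := fun i => Iso.ext rfl
      right_inv := fun f => rfl }
  exact Nat.card_congr (e'.trans (e c _ _))

end Groth.StackCount
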