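import Groth.Agent.StackCount.KbLevel
import Groth.Agent.StackCount.Count

/-!
# Point count of `[X/G](k')` in terms of cocycles (helper34)
-/

set_option autoImplicit false
set_option backward.isDefEq.respectTransparency false
set_option backward.isDefEq.respectTransparency.types false

universe u w

open CategoryTheory CategoryTheory.Limits MonoidalCategory CartesianMonoidalCategory MonObj GrpObj AlgebraicGeometry
open AlgSt Groth.AlgGrp2

noncomputable section

namespace Groth.StackCount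

variable {k : Type u} [Field k] {k' : Type u} [Field k'] [Algebra k k'] {kb : Type u} [Field kb]
  [Algebra k kb] [Algebra k' kb] [IsScalarTower k k' kb] [IsGalois k' kb]
  {G X : Over (Spec (CommRingCat.of k))} [GrpObj G] [LocallyOfFiniteType G.hom] [LocallyOfFiniteType X.hom]

/-- Finiteness of the points of a scheme of finite type over a finite extension field. -/
theorem finite_pts [Finite k] (E : Type u) [Field E] [Algebra k E] [Module.Finite k E]
    (Z : Over (Spec (CommRingCat.of k))) [LocallyOfFiniteType Z.hom] [QuasiCompact Z.hom] :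
    Finite (SGA7.pt (K := k) E ⟶ Z) := by
  have : Finite E := Module.finite_of_finite k
  let b := (SGA7.pt (K := k) E).hom
  let ZE : Over (Spec (CommRingCat.of E)) := Over.mk (pullback.snd Z.hom b)
  have : LocallyOfFiniteType ZE.hom := inferInstanceAs (LocallyOfFiniteType (pullback.snd Z.hom b))
  have : QuasiCompact ZE.hom := inferInstanceAs (QuasiCompact (pullback.snd Z.hom b))
  have := Groth.StkGerb.QuotFin.finite_points ZE
  refine Finite.of_injective (β := Over.mk (𝟙 (Spec (CommRingCat.of E))) ⟶ ZE)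
    (fun x => Over.homMk (pullback.lift x.left (𝟙 _) (by
      rw [Category.id_comp]; exact Over.w x)) (pullback.lift_snd _ _ _)) fun x y h => ?_
  apply Over.OverMorphism.ext
  simpa using congrArg (fun m => CommaMorphism.left m ≫ pullback.fst Z.hom b) h

omit [LocallyOfFiniteType G.hom] [LocallyOfFiniteType X.hom] in
/-- Points fixed by an open subgroup of the Galois group form a finite set. -/
theorem finite_fixed [Finite k] [Module.Finite k k'] (Z : Over (Spec (CommRingCat.of k)))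
    [LocallyOfFiniteType Z.hom] [QuasiCompact Z.hom] (S : Finset kb)
    (P : (SGA7.pt (K := k) kb ⟶ Z) → Prop)
    (hP : ∀ x, P x → ∀ τ : kb ≃ₐ[k'] kb, (∀ s ∈ S, τ s = s) → gs k τ ≫ x = x) :
    Finite {x : SGA7.pt (K := k) kb ⟶ Z // P x} := by
  obtain ⟨E, _, _, _, hSE⟩ := exists_galois_level (k' := k') S
  have : Module.Finite k E := Module.Finite.trans k' E
  have hfix : ∀ x : {x : SGA7.pt (K := k) kb ⟶ Z // P x}, ∃ z : SGA7.pt (K := k) E ⟶ Z, jot E ≫ z = x.1 :=
    fun x => (exists_of_fixed (k' := E) x.1 fun τ => by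
      have h := hP x.1 x.2 (τ.restrictScalars k') fun s hs => τ.commutes ⟨s, hSE hs⟩
      exact h).exists
  choose z hz using hfix
  have := finite_pts E Z
  exact Finite.of_injective z fun x y h => Subtype.ext (by rw [← hz x, ← hz y, h])

variable {K : Precoverage Scheme.{u}} {aX : AlgGrp.Action G X}

omit [IsGalois k' kb] [LocallyOfFiniteType G.hom] [LocallyOfFiniteType X.hom] in
theorem isIso_fibHom {A B : (QuotSt K G aX).p.Fiber (SGA7.pt (K := k) k')} (f : A ⟶ B) : IsIso f := by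
  have hb : f.1.base = eqToHom (A.2.trans B.2.symm) := by
    have := f.2
    exact (IsHomLift.fac' (QuotSt K G aX).p (𝟙 (SGA7.pt (K := k) k')) f.1).trans (by simp)
  have : IsIso f.1.base := by rw [hb]; infer_instance
  have : IsIso f.1.top := f.1.cart.isIso_fst_of_isIso
  have e : f = (Groth.StkGerb.QuotFin.fibIso (asIso f.1.top) f.1.eqv (f.1.cart.w.trans (by rw [hb])) f.1.wφ).hom :=
    Subtype.ext (QuotObj.hom_ext hb rfl)
  rw [e]
  infer_instance

/-- The point count from a system of representatives of the cocycles. -/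
theorem ptCount_eq [Finite k] [Module.Finite k k'] [IsAffineHom G.hom] [QuasiCompact X.hom]
    (hlft : ∀ A : (QuotSt K G aX).p.Fiber (SGA7.pt (K := k) k'), LocallyOfFiniteType A.1.P.hom)
    (hpt : ∀ A : (QuotSt K G aX).p.Fiber (SGA7.pt (K := k) k'), Nonempty (KPoint A kb))
    (hK : ∀ E : IntermediateField k' kb, FiniteDimensional k' E → IsGalois k' E →
      Presieve.singleton (toBase k k' E).left ∈ K (SGA7.pt (K := k) k').left)
    {J : Type w} [Fintype J] (a : J → (kb ≃ₐ[k'] kb) → (SGA7.pt (K := k) kb ⟶ G))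
    (hlc : ∀ c, IsLocallyConstant (a c)) (hco : ∀ c σ τ, a c (σ * τ) = (gs k σ ≫ a c τ) * a c σ)
    (hrep : ∀ b : (kb ≃ₐ[k'] kb) → (SGA7.pt (K := k) kb ⟶ G), IsLocallyConstant b →
      (∀ σ τ, b (σ * τ) = (gs k σ ≫ b τ) * b σ) →
      ∃ c g, ∀ σ, (gs k σ ≫ g) * a c σ = b σ * g)
    (huniq : ∀ c c' g, (∀ σ, (gs k σ ≫ g) * a c' σ = a c σ * g) → c = c')
    (h : StkCnt.IsEssFinite (StkCnt.pts (QuotSt K G aX) k')) :
    StkCnt.ptCount (QuotSt K G aX) k' h = ∑ c,
      (Nat.card {x : SGA7.pt (K := k) kb ⟶ X // ∀ σ, lift (a c σ) x ≫ aX.act = gs k σ ≫ x} : ℚ) /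
        (Nat.card {g : SGA7.pt (K := k) kb ⟶ G // ∀ σ, (gs k σ ≫ g) * a c σ = a c σ * g} : ℚ) := by
  classical
  let Γ := SGA7.pt (K := k) kb ⟶ G
  let H : J → Subgroup Γ := fun c =>
    { carrier := {g | ∀ σ, (gs k σ ≫ g) * a c σ = a c σ * g}
      one_mem' := fun σ => by simp
      mul_mem' := fun {g g'} hg hg' σ => by
        rw [comp_mul, _root_.mul_assoc, hg', ← _root_.mul_assoc, hg, _root_.mul_assoc]
      inv_mem' := fun {g} hg σ => by
        rw [GrpObj.comp_inv, inv_mul_eq_iff_eq_mul, ← _root_.mul_assoc, hg, _root_.mul_inv_cancel_right] }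
  let Y : J → Type u := fun c => {x : SGA7.pt (K := k) kb ⟶ X // ∀ σ, lift (a c σ) x ≫ aX.act = gs k σ ≫ x}
  have hst : ∀ c (g : H c) (x : Y c) (σ : kb ≃ₐ[k'] kb),
      lift (a c σ) (lift g.1 x.1 ≫ aX.act) ≫ aX.act = gs k σ ≫ lift g.1 x.1 ≫ aX.act := fun c g x σ => by
    rw [← lift_mul_act, ← g.2 σ, comp_lift_assoc, ← x.2 σ, ← lift_mul_act]
  let act : ∀ c, MulAction (H c) (Y c) := fun c =>
    { smul := fun g x => ⟨lift g.1 x.1 ≫ aX.act, hst c g x⟩
      one_smul := fun x => Subtype.ext (lift_one_act aX x.1)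
      mul_smul := fun g g' x => Subtype.ext (lift_mul_act aX g.1 g'.1 x.1) }
  have hsm : ∀ c (g : H c) (x : Y c), (g • x).1 = lift g.1 x.1 ≫ aX.act := fun c g x => rfl
  choose S hS using fun c => exists_level_of_isLocallyConstant (hlc c)
  have ha1 : ∀ c, a c 1 = 1 := fun c => by
    have := hco c 1 1
    rwa [_root_.mul_one, gs_one, Category.id_comp, left_eq_mul] at this
  have : ∀ c, Finite (Y c) := fun c => finite_fixed X (S c) _ fun x hx τ hτ => by
    rw [← hx τ, hS c τ hτ, ha1, lift_one_act]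
  have : ∀ c, Finite (H c) := fun c => finite_fixed G (S c) _ fun g hg τ hτ => by
    have := hg τ
    rwa [hS c τ hτ, ha1, _root_.mul_one, _root_.one_mul] at this
  choose A s hsa hsx using fun (c : J) (x : Y c) =>
    exists_obj_kb hK (a c) (hlc c) (hco c) x.1 x.2
  refine count_eq_sum_div (H := fun c => H c) (Y := Y) A (fun B => ?_) (fun c c' y y' f => ?_)
    (fun _ _ f => isIso_fibHom f) (fun c y y' => ?_) (fun c => inferInstance) h
  · obtain ⟨sB⟩ := hpt B
    obtain ⟨c, g, hg⟩ := hrep sB.a (sB.isLocallyConstant (hlft B)) fun σ τ => sB.cocycle σ τ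
    let y₀ := lift g⁻¹ (sB.pt ≫ B.1.φ) ≫ aX.act
    have hy₀ : ∀ σ, lift (a c σ) y₀ ≫ aX.act = gs k σ ≫ y₀ := fun σ => by
      have e : a c σ * g⁻¹ = (gs k σ ≫ g⁻¹) * sB.a σ := by
        rw [GrpObj.comp_inv, eq_inv_mul_iff_mul_eq, ← _root_.mul_assoc, hg, _root_.mul_inv_cancel_right]
      rw [comp_lift_assoc, ← lift_mul_act, e, lift_mul_act, reassoc_of% (sB.ha σ).symm, B.1.eqv,
        lift_whiskerLeft_assoc]
    refine ⟨c, ⟨y₀, hy₀⟩, ?_⟩
    obtain ⟨e, -⟩ := exists_homEquiv_kb (hlft B) (hlft (A c ⟨y₀, hy₀⟩)) sB (s c ⟨y₀, hy₀⟩)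
    let f := e.symm ⟨g, by rw [hsx, ← lift_mul_act, _root_.mul_inv_cancel, lift_one_act],
      fun σ => by rw [hsa]; exact hg σ⟩
    have := isIso_fibHom f
    exact ⟨(asIso f).symm⟩
  · obtain ⟨e, -⟩ := exists_homEquiv_kb (hlft (A c y)) (hlft (A c' y')) (s c y) (s c' y')
    obtain ⟨g₀, h₁, h₂⟩ := e f
    refine huniq c c' g₀ fun σ => ?_
    have := h₂ σ
    rwa [hsa, hsa] at this
  · refine (exists_homEquiv_kb (hlft (A c y)) (hlft (A c y')) (s c y) (s c y')).choose.trans ?_
    refine ⟨fun g => ⟨⟨g.1, fun σ => ?_⟩, Subtype.ext ?_⟩, fun g => ⟨g.1.1, ?_, fun σ => ?_⟩,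
      fun g => rfl, fun g => rfl⟩
    · obtain ⟨g₀, h₁, h₂⟩ := g
      have := h₂ σ
      rwa [hsa, hsa] at this
    · obtain ⟨g₀, h₁, h₂⟩ := g
      rw [hsx, hsx] at h₁
      exact h₁
    · rw [hsx, hsx]
      exact (hsm c _ _).symm.trans (congrArg Subtype.val g.2)
    · rw [hsa, hsa]
      exact g.1.2 σ

end Groth.StackCount
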