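import Groth.Agent.StackCount.Level
import Groth.Agent.Misc10.GalTw.Group

/-!
# Rational points of twisted forms are twisted-fixed geometric points (helper34)
-/

set_option autoImplicit false
set_option backward.isDefEq.respectTransparency false
set_option backward.isDefEq.respectTransparency.types false
set_option synthInstance.maxHeartbeats 200000

universe u

open CategoryTheory CategoryTheory.Limits MonoidalCategory CartesianMonoidalCategory MonObj AlgebraicGeometry
open GalTw Groth.Misc10.GalTw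

noncomputable section

namespace Groth.StackCount

variable {k : Type u} [Field k] {kb : Type u} [Field kb] [Algebra k kb]

theorem gs_eq_smul {X : Over (Spec (CommRingCat.of k))} (σ : kb ≃ₐ[k] kb) (x : SGA7.Pts kb X) :
    gs k σ ≫ x = σ • x := rfl

/-- The point of a section. -/
def undPt {X : Over (Spec (CommRingCat.of k))}
    (u : 𝟙_ (Over (Spec (CommRingCat.of kb))) ⟶ bcK kb X) : SGA7.Pts kb X :=
  Over.homMk (u.left ≫ projX kb X) (by
    have h : u.left ≫ projK kb X = 𝟙 (Spec (CommRingCat.of kb)) := Over.w u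
    show (u.left ≫ pullback.fst _ _) ≫ X.hom = _
    rw [Category.assoc, pullback.condition]
    exact (reassoc_of% h) _)

/-- Sections of the base change are the points. -/
def secEquiv (X : Over (Spec (CommRingCat.of k))) :
    SGA7.Pts kb X ≃ (𝟙_ (Over (Spec (CommRingCat.of kb))) ⟶ bcK kb X) where
  toFun := secOfPt kb
  invFun := undPt
  left_inv x := Over.OverMorphism.ext (pullback.lift_fst _ _ _)
  right_inv u := Over.OverMorphism.ext (pullback.hom_ext (pullback.lift_fst _ _ _)
    ((pullback.lift_snd _ _ _).trans (Over.w u).symm))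

theorem undPt_mul {G : Over (Spec (CommRingCat.of k))} [GrpObj G]
    (u v : 𝟙_ (Over (Spec (CommRingCat.of kb))) ⟶ bcK kb G) : undPt (u * v) = undPt u * undPt v := by
  let m : 𝟙_ (Over (Spec (CommRingCat.of kb))) ⟶ (bcF kb).obj (G ⊗ G) :=
    lift u v ≫ Functor.LaxMonoidal.μ (bcF kb) G G
  have h₁ : m ≫ (bcF kb).map (fst G G) = u := by
    rw [Category.assoc, Functor.Monoidal.μ_fst, lift_fst]
  have h₂ : m ≫ (bcF kb).map (snd G G) = v := by
    rw [Category.assoc, Functor.Monoidal.μ_snd, lift_snd]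
  have huv : u * v = m ≫ (bcF kb).map μ[G] := by
    show lift u v ≫ μ[bcK kb G] = _
    rw [Category.assoc]
    rfl
  have hm : undPt (X := G ⊗ G) m = lift (undPt u) (undPt v) := by
    apply CartesianMonoidalCategory.hom_ext
    · rw [lift_fst, ← h₁]
      apply Over.OverMorphism.ext
      show (m.left ≫ projX kb (G ⊗ G)) ≫ (fst G G).left = (m.left ≫ ((bcF kb).map (fst G G)).left) ≫ projX kb G
      rw [Category.assoc, Category.assoc, bcF_map_left_projX]
    · rw [lift_snd, ← h₂]
      apply Over.OverMorphism.ext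
      show (m.left ≫ projX kb (G ⊗ G)) ≫ (snd G G).left = (m.left ≫ ((bcF kb).map (snd G G)).left) ≫ projX kb G
      rw [Category.assoc, Category.assoc, bcF_map_left_projX]
  rw [huv, Hom.mul_def, ← hm]
  apply Over.OverMorphism.ext
  show (m.left ≫ ((bcF kb).map μ[G]).left) ≫ projX kb G = (m.left ≫ projX kb (G ⊗ G)) ≫ (μ[G]).left
  rw [Category.assoc, Category.assoc, bcF_map_left_projX]

theorem secOfPt_smul {X : Over (Spec (CommRingCat.of k))} (σ : kb ≃ₐ[k] kb) (x : SGA7.Pts kb X) :
    (secOfPt kb (σ • x)).left = specMap kb σ ≫ (secOfPt kb x).left ≫ galMap kb σ⁻¹ X := by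
  apply pullback.hom_ext
  · simp only [secOfPt_left, Category.assoc, galMap_fst, pullback.lift_fst]
    rfl
  · simp only [secOfPt_left, Category.assoc, galMap_snd, pullback.lift_snd, pullback.lift_snd_assoc]
    show 𝟙 (Spec (CommRingCat.of kb)) = specMap kb σ ≫ 𝟙 _ ≫ specMap kb σ⁻¹
    rw [Category.id_comp, ← specMap_mul, mul_inv_cancel, specMap_one]

theorem undPt_innK {G : Over (Spec (CommRingCat.of k))} [GrpObj G] (g x : SGA7.Pts kb G) :
    undPt (secOfPt kb x ≫ innK kb g) = g * x * g⁻¹ := by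
  have hmul : ∀ a b : SGA7.Pts kb G, secOfPt kb (a * b) = secOfPt kb a * secOfPt kb b := fun a b =>
    (secEquiv G).symm.injective (by
      show undPt (secOfPt kb (a * b)) = undPt (secOfPt kb a * secOfPt kb b)
      rw [undPt_mul]
      exact ((secEquiv G).left_inv (a * b)).trans
        (congrArg₂ (· * ·) ((secEquiv G).left_inv a).symm ((secEquiv G).left_inv b).symm))
  let e : SGA7.Pts kb G →* (𝟙_ (Over (Spec (CommRingCat.of kb))) ⟶ bcK kb G) :=
    MonoidHom.mk' (secOfPt kb) hmul
  have he : secOfPt kb x ≫ innK kb g = e (g * x * g⁻¹) := by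
    rw [map_mul, map_mul, map_inv]
    show secOfPt kb x ≫ ((toUnit _ ≫ secOfPt kb g) * 𝟙 (bcK kb G) * (toUnit _ ≫ secOfPt kb g)⁻¹) = _
    rw [MonObj.comp_mul, MonObj.comp_mul, Category.comp_id, GrpObj.comp_inv, ← Category.assoc,
      toUnit_unique (secOfPt kb x ≫ toUnit _) (𝟙 _), Category.id_comp]
    rfl
  rw [he]
  exact (secEquiv G).left_inv _

theorem undPt_actK {G X : Over (Spec (CommRingCat.of k))} [GrpObj G] (a : AlgGrp.Action G X)
    (g : SGA7.Pts kb G) (x : SGA7.Pts kb X) :
    undPt (secOfPt kb x ≫ actK kb a g) = lift g x ≫ a.act := by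
  let xp : SGA7.pt (K := k) kb ⟶ X ⊗ SGA7.pt (K := k) kb := lift x (𝟙 _)
  have e : xp ≫ lift (snd X (SGA7.pt (K := k) kb) ≫ g) (fst X (SGA7.pt (K := k) kb)) ≫ a.act =
      lift g x ≫ a.act := by
    simp only [xp, comp_lift_assoc, lift_fst, lift_snd_assoc, Category.id_comp]
  rw [← e]
  apply Over.OverMorphism.ext
  show ((secOfPt kb x).left ≫ pullback.lift _ _ _) ≫ pullback.fst _ _ = xp.left ≫ _
  rw [Category.assoc, pullback.lift_fst]
  congr 1

/-- Transport of geometric points along a trivialisation, with the twisted equivariance. -/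
theorem exists_ptsEquiv {X Y : Over (Spec (CommRingCat.of k))} (φ : bcK kb Y ≅ bcK kb X)
    (c : (kb ≃ₐ[k] kb) → (bcK kb X ⟶ bcK kb X)) (hφ : ∀ σ, (cocycle φ σ).hom = c σ) :
    ∃ Φ : SGA7.Pts kb Y ≃ SGA7.Pts kb X, ∀ σ y, Φ (σ • y) = undPt (secOfPt kb (σ • Φ y) ≫ c σ) := by
  refine ⟨((secEquiv Y).trans ⟨fun u => u ≫ φ.hom, fun u => u ≫ φ.inv, fun u => by simp, fun u => by simp⟩).trans
    (secEquiv X).symm, fun σ y => ?_⟩
  show undPt (secOfPt kb (σ • y) ≫ φ.hom) = undPt (secOfPt kb (σ • undPt (secOfPt kb y ≫ φ.hom)) ≫ c σ)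
  congr 1
  apply Over.OverMorphism.ext
  have h := congrArg CommaMorphism.left ((cocycle_apply_hom φ σ).symm.trans (hφ σ))
  simp only [Over.comp_left, twIso_inv, twHom_left] at h
  show (secOfPt kb (σ • y)).left ≫ φ.hom.left =
    (secOfPt kb (σ • (secEquiv X).symm (secOfPt kb y ≫ φ.hom))).left ≫ (c σ).left
  rw [secOfPt_smul, secOfPt_smul, show (c σ).left = _ from h.symm,
    show secOfPt kb ((secEquiv X).symm (secOfPt kb y ≫ φ.hom)) = secOfPt kb y ≫ φ.hom from
      (secEquiv X).apply_symm_apply _]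
  simp only [Over.comp_left, Category.assoc, galMap_mul_assoc, inv_mul_cancel, galMap_one,
    Category.id_comp, Iso.hom_inv_id_assoc, Over.hom_left_inv_left_assoc]

theorem lft_of_bcK {X Y : Over (Spec (CommRingCat.of k))} [LocallyOfFiniteType X.hom]
    (φ : bcK kb Y ≅ bcK kb X) : LocallyOfFiniteType Y.hom := by
  have h₁ : LocallyOfFiniteType (projK kb X) :=
    inferInstanceAs (LocallyOfFiniteType (pullback.snd X.hom (SGA7.pt (K := k) kb).hom))
  have hY : LocallyOfFiniteType (pullback.snd Y.hom (SGA7.pt (K := k) kb).hom) := by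
    rw [show pullback.snd Y.hom (SGA7.pt (K := k) kb).hom = φ.hom.left ≫ projK kb X from (Over.w φ.hom).symm]
    have : IsIso φ.hom.left := inferInstanceAs (IsIso ((Over.forget _).map φ.hom))
    infer_instance
  have hb : (@Surjective ⊓ @Flat ⊓ @QuasiCompact : MorphismProperty Scheme.{u}) (SGA7.pt (K := k) kb).hom := by
    refine ⟨⟨?_, ?_⟩, ?_⟩
    · show Surjective (Spec.map (CommRingCat.ofHom (algebraMap k kb)))
      infer_instance
    · show Flat (Spec.map (CommRingCat.ofHom (algebraMap k kb)))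
      rw [HasRingHomProperty.Spec_iff (P := @Flat)]
      exact RingHom.flat_algebraMap_iff.2 inferInstance
    · show QuasiCompact (Spec.map (CommRingCat.ofHom (algebraMap k kb)))
      infer_instance
  exact MorphismProperty.of_isPullback_of_descendsAlong (P := @LocallyOfFiniteType)
    (IsPullback.of_hasPullback Y.hom (SGA7.pt (K := k) kb).hom).flip hb hY

variable [IsGalois k kb] {Y : Over (Spec (CommRingCat.of k))} [LocallyOfFiniteType Y.hom]

/-- Rational points are the Galois fixed geometric points. -/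
theorem card_pts_eq_fixed :
    Nat.card (SGA7.Pts k Y) = Nat.card {y : SGA7.Pts kb Y // ∀ σ : kb ≃ₐ[k] kb, σ • y = y} := by
  refine Nat.card_congr (Equiv.ofBijective (fun z => ⟨toBase k k kb ≫ z, fun σ => by
    rw [← gs_eq_smul, ← Category.assoc, gs_toBase]⟩) ⟨fun z z' h => ?_, fun y => ?_⟩)
  · obtain ⟨w, hw, hu⟩ := exists_of_fixed (k' := k) (toBase k k kb ≫ z) fun σ => by
      rw [← Category.assoc, gs_toBase]
    exact (hu z rfl).trans (hu z' (congrArg Subtype.val h).symm).symm
  · obtain ⟨z, hz, -⟩ := exists_of_fixed (k' := k) y.1 fun σ => y.2 σ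
    exact ⟨z, Subtype.ext hz⟩

end Groth.StackCount
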