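import Groth.Agent.StackCount.Lang
import Groth.Agent.StackCount.FrobPts
import Groth.Agent.StackCount.TwistPts
import Groth.Prelude.Def_NonAbH2

/-!
# Frobenius on geometric points: cocycles, fixed points, exact sequences, Lang for normal subgroups
-/

set_option autoImplicit false
set_option backward.isDefEq.respectTransparency false
set_option backward.isDefEq.respectTransparency.types false

universe u

open CategoryTheory CategoryTheory.Limits MonoidalCategory CartesianMonoidalCategory MonObj GrpObj AlgebraicGeometry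

noncomputable section

namespace Groth.StackCount

variable (k : Type u) [Field k] [Finite k] (kb : Type u) [Field kb] [Algebra k kb] [Algebra.IsAlgebraic k kb]

/-- The Frobenius of an algebraic extension of a finite field. -/
def frobAut : kb ≃ₐ[k] kb :=
  let _ := Fintype.ofFinite k
  FiniteField.frobeniusAlgEquivOfAlgebraic k kb

theorem frobAut_apply (x : kb) : frobAut k kb x = x ^ Nat.card k := by
  let := Fintype.ofFinite k
  rw [Nat.card_eq_fintype_card]
  rfl

variable {k kb} [IsGalois k kb] {G : Over (Spec (CommRingCat.of k))} [GrpObj G] [LocallyOfFiniteType G.hom]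
  [QuasiCompact G.hom]

omit [Finite k] [Algebra.IsAlgebraic k kb] [QuasiCompact G.hom] in
theorem pts_cont (a : SGA7.Pts kb G) : IsOpen {σ : kb ≃ₐ[k] kb | σ • a = a} := isOpen_fix a

omit [Algebra.IsAlgebraic k kb] in
theorem pts_finite_stable (a : SGA7.Pts kb G) :
    ∃ H : Subgroup (SGA7.Pts kb G), (H : Set (SGA7.Pts kb G)).Finite ∧ a ∈ H ∧
      ∀ (σ : kb ≃ₐ[k] kb) (x : SGA7.Pts kb G), x ∈ H → σ • x ∈ H := exists_finite_stable a

theorem exists_cocycle_pts [IsAlgClosed kb] (a : SGA7.Pts kb G) :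
    ∃ z : GpH1.OneCocycleLC (kb ≃ₐ[k] kb) (SGA7.Pts kb G), z.1 (frobAut k kb) = a :=
  FrobGen.exists_cocycle (A := SGA7.Pts kb G) (frobAut_apply k kb) (fun a => pts_cont a) (fun a => pts_finite_stable a) a

theorem cocycle_ext [IsAlgClosed kb] {z z' : GpH1.OneCocycleLC (kb ≃ₐ[k] kb) (SGA7.Pts kb G)}
    (h : z.1 (frobAut k kb) = z'.1 (frobAut k kb)) : z = z' :=
  FrobGen.eq_of_apply_frobenius (A := SGA7.Pts kb G) (frobAut_apply k kb) z z' h

theorem cl_eq_iff [IsAlgClosed kb] (z z' : GpH1.OneCocycleLC (kb ≃ₐ[k] kb) (SGA7.Pts kb G)) :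
    z.cl = z'.cl ↔ ∃ g : SGA7.Pts kb G,
      z'.1 (frobAut k kb) = g * z.1 (frobAut k kb) * (frobAut k kb • g)⁻¹ :=
  (FrobGen.main (A := SGA7.Pts kb G) (frobAut_apply k kb) (fun a => pts_cont a) (fun a => pts_finite_stable a)).2 z z'

/-- A point is fixed by a twisted Galois action as soon as it is fixed by the twisted Frobenius. -/
theorem innFixed_iff [IsAlgClosed kb] (z : GpH1.OneCocycleLC (kb ≃ₐ[k] kb) (SGA7.Pts kb G)) (y : SGA7.Pts kb G) :
    (∀ σ : kb ≃ₐ[k] kb, z.1 σ * σ • y * (z.1 σ)⁻¹ = y) ↔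
      z.1 (frobAut k kb) * frobAut k kb • y * (z.1 (frobAut k kb))⁻¹ = y := by
  refine ⟨fun h => h _, fun h σ => ?_⟩
  let w : GpH1.OneCocycleLC (kb ≃ₐ[k] kb) (SGA7.Pts kb G) :=
    ⟨⟨fun σ => y⁻¹ * z.1 σ * σ • y, fun σ τ => by
      show y⁻¹ * z.1 (σ * τ) * (σ * τ) • y = _
      rw [z.1.2 σ τ, smul_mul', smul_mul', smul_inv', mul_smul]
      group⟩, ((z.2.comp (y⁻¹ * ·)).comp₂ (FrobGen.isLocallyConstant_smul (A := SGA7.Pts kb G) (fun a => pts_cont a) y) (· * ·))⟩
  have e : z = w := cocycle_ext (by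
    show z.1 (frobAut k kb) = y⁻¹ * z.1 (frobAut k kb) * frobAut k kb • y
    calc z.1 (frobAut k kb) = y⁻¹ * (z.1 (frobAut k kb) * frobAut k kb • y * (z.1 (frobAut k kb))⁻¹) *
          z.1 (frobAut k kb) := by rw [h]; group
      _ = _ := by group)
  have e' : z.1 σ = y⁻¹ * z.1 σ * σ • y := congrArg (fun v => v.1 σ) e
  calc z.1 σ * σ • y * (z.1 σ)⁻¹ = y * (y⁻¹ * z.1 σ * σ • y) * (z.1 σ)⁻¹ := by group
    _ = y := by rw [← e']; group

section Normal

variable {A B : Over (Spec (CommRingCat.of k))} [GrpObj A] [GrpObj B]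

/-- Lang's theorem for a twisted Frobenius on a smooth connected normal subgroup. -/
theorem exists_lang_normal [Smooth A.hom] [QuasiCompact A.hom] [ConnectedSpace A.left] [IsAlgClosed kb]
    (i : A ⟶ B) [IsMonHom i] [Mono i] (hn : AlgGrp.IsNormalHom i) (b : SGA7.Pts kb B) (a : SGA7.Pts kb A) :
    ∃ x : SGA7.Pts kb A, (x ≫ i) * (b * frobAut k kb • (x ≫ i) * b⁻¹)⁻¹ = a ≫ i := by
  obtain ⟨φ, hφ⟩ := hn (A ⊗ SGA7.pt (K := k) kb) (snd A (SGA7.pt (K := k) kb) ≫ b) (fst A (SGA7.pt (K := k) kb))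
  have hev : ∀ x : SGA7.Pts kb A, (lift x (𝟙 _) ≫ φ) ≫ i = b * (x ≫ i) * b⁻¹ := fun x => by
    rw [Category.assoc, ← hφ, MonObj.comp_mul, MonObj.comp_mul, GrpObj.comp_inv]
    simp only [lift_fst_assoc, lift_snd_assoc, Category.id_comp]
  obtain ⟨x, hx⟩ := Lang.exists_twisted kb (frobAut k kb) (frobAut_apply k kb) φ (fun x y => by
    rw [← cancel_mono i, MonObj.mul_comp _ _ i, hev, hev, hev, MonObj.mul_comp x y i]
    group) a
  refine ⟨x, ?_⟩
  rw [← hx, MonObj.mul_comp _ _ i, GrpObj.inv_comp, hev]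
  congr 3

end Normal

section Exact

variable {A B C : Over (Spec (CommRingCat.of k))} [GrpObj A] [GrpObj B] [GrpObj C] {i : A ⟶ B} {π : B ⟶ C}

omit [Finite k] in
theorem mono_of_isExactSeq {K : Precoverage Scheme.{u}} (hex : NonAbH1.IsExactSeq K i π) : Mono i := by
  obtain ⟨hi, hπ, hc, sq, -⟩ := hex
  refine ⟨fun {T} a a' h => ?_⟩
  have e : lift (1 : T ⟶ B) a = lift 1 a' := sq.hom_ext (by simp) (by
    simp only [comp_lift_assoc, lift_whiskerLeft_assoc]
    rw [h])
  simpa using congrArg (· ≫ snd B A) e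

omit [Finite k] in
theorem exists_factor_of_isExactSeq {K : Precoverage Scheme.{u}} (hex : NonAbH1.IsExactSeq K i π)
    {T : Over (Spec (CommRingCat.of k))} (x : T ⟶ B) (hx : x ≫ π = 1) : ∃ a : T ⟶ A, a ≫ i = x := by
  obtain ⟨hi, hπ, hc, sq, -⟩ := hex
  obtain ⟨l, h₁, h₂⟩ := sq.exists_lift (1 : T ⟶ B) x (by rw [hx, MonObj.one_comp π])
  refine ⟨l ≫ snd B A, ?_⟩
  have e : l = lift 1 (l ≫ snd B A) := CartesianMonoidalCategory.hom_ext _ _ (by simpa using h₁) (by simp)
  rw [e, lift_whiskerLeft_assoc, ← Hom.mul_def, _root_.one_mul] at h₂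
  exact h₂

omit [Finite k] in
theorem comp_eq_one_of_isExactSeq {K : Precoverage Scheme.{u}} (hex : NonAbH1.IsExactSeq K i π)
    {T : Over (Spec (CommRingCat.of k))} (a : T ⟶ A) : (a ≫ i) ≫ π = 1 := by
  rw [Category.assoc, hex.2.2.1, MonObj.comp_one]

omit [Finite k] in
theorem isNormalHom_of_isExactSeq {K : Precoverage Scheme.{u}} (hex : NonAbH1.IsExactSeq K i π) :
    AlgGrp.IsNormalHom i := by
  intro T g n
  have := hex.2.1
  obtain ⟨a, ha⟩ := exists_factor_of_isExactSeq hex (g * (n ≫ i) * g⁻¹) (by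
    rw [MonObj.mul_comp _ _ π, MonObj.mul_comp _ _ π, GrpObj.inv_comp, comp_eq_one_of_isExactSeq hex]
    simp)
  exact ⟨a, ha.symm⟩

omit [Finite k] [IsGalois k kb] in
/-- A morphism with fppf local sections is surjective on geometric points. -/
theorem exists_lift_pt [IsAlgClosed kb] [LocallyOfFiniteType B.hom]
    (hloc : NonAbH1.IsExactSeq Scheme.fppfPrecoverage i π) (c : SGA7.Pts kb C) :
    ∃ b : SGA7.Pts kb B, b ≫ π = c := by
  obtain ⟨-, -, -, -, R, hR, hR'⟩ := hloc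
  obtain ⟨Z, f, hf, z₀, hz⟩ : ∃ (Z : Scheme.{u}) (f : Z ⟶ C.left), R f ∧
      ∃ z : Z, f z = c.left (IsLocalRing.closedPoint kb) := by
    obtain ⟨I₀, Z, g, rfl⟩ := R.exists_eq_ofArrows
    obtain ⟨j, t, ht⟩ := ((Scheme.ofArrows_mem_precoverage_iff _).1 hR).1 (c.left (IsLocalRing.closedPoint kb))
    exact ⟨Z j, g j, ⟨j⟩, t, ht⟩
  obtain ⟨σ, hσ⟩ := hR' f hf
  replace hσ : σ ≫ π.left = f := hσ
  have : LocallyOfFinitePresentation f := (hR.2 hf).2
  let Zb : Over (Spec (CommRingCat.of kb)) := Over.mk (pullback.snd f c.left)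
  have : LocallyOfFiniteType Zb.hom := inferInstanceAs (LocallyOfFiniteType (pullback.snd f c.left))
  have : Nonempty Zb.left := by
    obtain ⟨w, -, -⟩ := Scheme.Pullback.exists_preimage_pullback (f := f) (g := c.left) z₀ (IsLocalRing.closedPoint kb) hz
    exact ⟨w⟩
  obtain ⟨p₀⟩ := Groth.StkGerb.QuotFin.exists_algClosed_point Zb kb
  have hp : p₀.left ≫ pullback.snd f c.left = 𝟙 _ := by
    refine (Over.w p₀).trans ?_
    show Spec.map (CommRingCat.ofHom (algebraMap kb kb)) = _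
    rw [show algebraMap kb kb = RingHom.id kb from rfl, CommRingCat.ofHom_id, Spec.map_id]
    rfl
  have e : (p₀.left ≫ pullback.fst f c.left ≫ σ) ≫ π.left = c.left := by
    rw [Category.assoc, Category.assoc, hσ, pullback.condition, reassoc_of% hp]
  refine ⟨Over.homMk (p₀.left ≫ pullback.fst f c.left ≫ σ) ?_, Over.OverMorphism.ext e⟩
  rw [← Over.w π, ← Category.assoc, e]
  exact Over.w c

end Exact

end Groth.StackCount
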