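import Groth.Agent.StackCount.PairCount

/-!
# The mass of Frobenius pairs as a sum over the Galois stable orbits
-/

set_option autoImplicit false
set_option backward.isDefEq.respectTransparency false
set_option backward.isDefEq.respectTransparency.types false

universe u

open CategoryTheory CategoryTheory.Limits MonoidalCategory CartesianMonoidalCategory MonObj GrpObj AlgebraicGeometry
open AlgSt Groth.AlgGrp2

noncomputable section

namespace Groth.StackCount

variable {k : Type u} [Field k] [Finite k] {kb : Type u} [Field kb] [Algebra k kb] [Algebra.IsAlgebraic k kb]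
  {G : Over (Spec (CommRingCat.of k))} [GrpObj G] {X : Over (Spec (CommRingCat.of k))}
  (aX : AlgGrp.Action G X)

omit [Finite k] [Algebra.IsAlgebraic k kb] in
theorem smul_lift_act (σ : kb ≃ₐ[k] kb) (g : SGA7.Pts kb G) (x : SGA7.Pts kb X) :
    σ • (lift g x ≫ aX.act) = lift (σ • g) (σ • x) ≫ aX.act := by
  show gs k σ ≫ lift g x ≫ aX.act = _
  rw [comp_lift_assoc]
  rfl

omit [Finite k] [Algebra.IsAlgebraic k kb] in
theorem lift_inv_act {g : SGA7.Pts kb G} {x y : SGA7.Pts kb X} (h : lift g x ≫ aX.act = y) :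
    lift g⁻¹ y ≫ aX.act = x := by
  rw [← h, ← lift_mul_act, _root_.inv_mul_cancel, lift_one_act]

variable [IsGalois k kb] [IsAlgClosed kb] [LocallyOfFiniteType X.hom]

/-- The orbit of a point moved within its orbit by the Frobenius is stable under the Galois group. -/
theorem exists_smul_of_frob {a : SGA7.Pts kb G} {x : SGA7.Pts kb X}
    (h : lift a x ≫ aX.act = frobAut k kb • x) (σ : kb ≃ₐ[k] kb) :
    ∃ g : SGA7.Pts kb G, lift g x ≫ aX.act = σ • x := by
  let π₀ := frobAut k kb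
  have hpow : ∀ i : ℕ, ∃ g : SGA7.Pts kb G, lift g x ≫ aX.act = (π₀ ^ i) • x := by
    intro i
    induction i with
    | zero => exact ⟨1, by rw [pow_zero, one_smul, lift_one_act]⟩
    | succ i ih =>
      obtain ⟨g, hg⟩ := ih
      exact ⟨(π₀ • g) * a, by rw [lift_mul_act, h, ← smul_lift_act, hg, ← mul_smul, pow_succ']⟩
  obtain ⟨S, hS⟩ := exists_finset_level (k' := k) x
  obtain ⟨E, _, _, _, hSE⟩ := exists_galois_level (k' := k) S
  obtain ⟨xE, hxE⟩ := hS E hSE
  obtain ⟨i, hi⟩ := FrobGen.exists_pow_agree (frobAut_apply k kb) E σ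
  obtain ⟨g, hg⟩ := hpow i
  refine ⟨g, hg.trans ?_⟩
  have hτ := (IntermediateField.mem_fixingSubgroup_iff _ _).1 hi
  have hfix : ((π₀ ^ i)⁻¹ * σ) • x = x := by
    show gs k ((π₀ ^ i)⁻¹ * σ) ≫ x = x
    rw [← hxE, ← Category.assoc, gs_jot,
      show ((π₀ ^ i)⁻¹ * σ).restrictNormal E = 1 from AlgEquiv.ext fun y => Subtype.ext
        ((((π₀ ^ i)⁻¹ * σ).restrictNormal_commutes E y).trans (hτ y y.2)), gs_one, Category.comp_id]
  conv_lhs => rw [← hfix]
  rw [← mul_smul, mul_inv_cancel_left]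

/-- A type with the trivial action. -/
def Triv (_Γ : Type*) (J : Type) : Type := J

instance {Γ : Type*} [Monoid Γ] {J : Type} : MulAction Γ (Triv Γ J) where
  smul _ j := j
  one_smul _ := rfl
  mul_smul _ _ _ := rfl

/-- The mass of the pairs is the sum over the stable orbits of the masses of twisted conjugation on the
stabilisers. -/
theorem hasMass_pairs_of_orbits {J : Type} [Fintype J] (x : J → SGA7.Pts kb X)
    (hdis : ∀ j j' : J, (∃ g : SGA7.Pts kb G, lift g (x j) ≫ aX.act = x j') → j = j')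
    (hfix : ∀ (j : J) (σ : kb ≃ₐ[k] kb), ∃ g : SGA7.Pts kb G, lift g (σ • x j) ≫ aX.act = x j)
    (hall : ∀ y : SGA7.Pts kb X,
      (∀ σ : kb ≃ₐ[k] kb, ∃ g : SGA7.Pts kb G, lift g (σ • y) ≫ aX.act = y) →
        ∃ (j : J) (g : SGA7.Pts kb G), lift g (x j) ≫ aX.act = y)
    (S : J → Subgroup (SGA7.Pts kb G)) (hS : ∀ j g, g ∈ S j ↔ lift g (x j) ≫ aX.act = x j) (m : J → ℚ)
    (hm : ∀ (j : J) (c : SGA7.Pts kb G) (τ : S j →* S j),
      (∀ s, (τ s).1 = c * frobHom kb G s.1 * c⁻¹) → Mass.HasMass (S j) (TwConj τ) (m j)) :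
    Mass.HasMass (SGA7.Pts kb G) (Pairs kb aX) (∑ j, m j) := by
  classical
  let Γ := SGA7.Pts kb G
  have hidx : ∀ p : Pairs kb aX, ∃ (j : J) (g : Γ), lift g (x j) ≫ aX.act = p.1.2 := fun p =>
    hall _ fun σ => by
      obtain ⟨g, hg⟩ := exists_smul_of_frob aX p.2 σ
      exact ⟨g⁻¹, lift_inv_act aX hg⟩
  choose idx gp hgp using hidx
  let f : Pairs kb aX →[Γ] Triv Γ J := ⟨fun p => idx p, fun h p => hdis _ _ ⟨(gp p)⁻¹ * h⁻¹ * gp (h • p), by
    rw [lift_mul_act, lift_mul_act, hgp, Pairs.smul_snd, ← lift_mul_act aX h⁻¹, _root_.inv_mul_cancel, lift_one_act,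
      lift_inv_act aX (hgp p)]
    rfl⟩⟩
  let qe : MulAction.orbitRel.Quotient Γ (Triv Γ J) ≃ J :=
    { toFun := fun q => Quotient.liftOn' q (fun j => (show J from j)) (fun a b hab => by
        obtain ⟨g, hg⟩ := MulAction.orbitRel_apply.1 hab
        exact hg.symm)
      invFun := fun j => Quotient.mk'' (show Triv Γ J from j)
      left_inv := fun q => by induction q using Quotient.inductionOn' with | h j => rfl
      right_inv := fun _ => rfl }
  have := Finite.of_equiv _ qe.symm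
  suffices key : ∀ j : J, Mass.HasMass (MulAction.stabilizer Γ (show Triv Γ J from j))
      (Mass.Fib f (show Triv Γ J from j)) (m j) by
    have h := Mass.hasMass_of_fibres f (fun q => m q.out) fun q => key q.out
    convert h using 1
    rw [← finsum_eq_sum_of_fintype, ← finsum_comp_equiv qe.symm]
    exact finsum_congr fun j => congrArg m (qe.apply_symm_apply j).symm |>.trans (by
      congr 1
      exact (congrArg qe (Quotient.out_eq' (qe.symm j))).symm)
  intro j
  obtain ⟨g₁, hg₁⟩ := hfix j (frobAut k kb)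
  obtain ⟨g₀, hg₀⟩ : ∃ g₀ : Γ, lift g₀ (x j) ≫ aX.act = frobAut k kb • x j := ⟨g₁⁻¹, lift_inv_act aX hg₁⟩
  have hτS : ∀ s : S j, g₀⁻¹ * frobHom kb G s.1 * g₀⁻¹⁻¹ ∈ S j := fun s => by
    rw [hS, lift_mul_act, lift_mul_act, _root_.inv_inv, hg₀, frobHom_apply, ← smul_lift_act, (hS j s.1).1 s.2,
      lift_inv_act aX hg₀]
  let τ : S j →* S j := MonoidHom.mk' (fun s => ⟨g₀⁻¹ * frobHom kb G s.1 * g₀⁻¹⁻¹, hτS s⟩) fun s t =>
    Subtype.ext (by
      show g₀⁻¹ * frobHom kb G (s.1 * t.1) * g₀⁻¹⁻¹ = _ * _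
      rw [map_mul]
      group)
  have hmem : ∀ t : S j, lift (g₀ * t.1) (x j) ≫ aX.act = frobAut k kb • x j := fun t => by
    rw [lift_mul_act, (hS j t.1).1 t.2, hg₀]
  have hidx' : ∀ (p : Pairs kb aX), p.1.2 = x j → f p = (show Triv Γ J from j) := fun p hp =>
    hdis _ _ ⟨gp p, (hgp p).trans hp⟩
  let e : TwConj τ → Mass.Fib f (show Triv Γ J from j) := fun t =>
    ⟨⟨((show TwConj (frobHom kb G) from g₀ * (show S j from t).1), x j), hmem t⟩, hidx' _ rfl⟩
  let i : S j →* MulAction.stabilizer Γ (show Triv Γ J from j) :=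
    MonoidHom.mk' (fun s => ⟨s.1, rfl⟩) fun _ _ => rfl
  refine (Mass.hasMass_iff_of_equiv e i (fun a b h => Subtype.ext (congrArg (fun z => z.1) h)) (fun s t => ?_)
    (fun p => ?_) (fun t₁ t₂ g hg => ?_)).1 (hm j g₀⁻¹ τ fun _ => rfl)
  · refine Subtype.ext (Pairs.ext aX ?_ ((hS j s.1).1 s.2).symm)
    show g₀ * (g₀⁻¹ * frobHom kb G s.1 * g₀⁻¹⁻¹ * (show S j from t).1 * s.1⁻¹) =
      frobHom kb G s.1 * (g₀ * (show S j from t).1) * s.1⁻¹
    group
  · let h : Γ := gp p.1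
    let p' : Pairs kb aX := h⁻¹ • p.1
    have hp₂ : p'.1.2 = x j := by
      show lift h⁻¹ p.1.1.2 ≫ aX.act = _
      rw [lift_inv_act aX (hgp p.1), show idx p.1 = j from p.2]
    let a : Γ := p'.1.1
    have ha : g₀⁻¹ * a ∈ S j := by
      rw [hS, lift_mul_act]
      have := p'.2
      rw [hp₂] at this
      rw [this, lift_inv_act aX hg₀]
    refine ⟨⟨h, rfl⟩, (⟨g₀⁻¹ * a, ha⟩ : S j), Subtype.ext ?_⟩
    have he : (e (⟨g₀⁻¹ * a, ha⟩ : S j)).1 = p' := Pairs.ext aX (mul_inv_cancel_left g₀ a) hp₂.symm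
    show h • (e _).1 = p.1
    rw [he, smul_inv_smul]
  · have h1 : lift g.1 (x j) ≫ aX.act = x j := congrArg (fun z => z.1.1.2) hg
    refine ⟨⟨g.1, (hS j g.1).2 h1⟩, ?_, rfl⟩
    have h2 : frobHom kb G g.1 * (g₀ * (show S j from t₁).1) * g.1⁻¹ = g₀ * (show S j from t₂).1 :=
      congrArg (fun z => (show Γ from z.1.1.1)) hg
    refine Subtype.ext (mul_left_cancel (a := g₀) (Eq.trans ?_ h2))
    show g₀ * (g₀⁻¹ * frobHom kb G g.1 * g₀⁻¹⁻¹ * (show S j from t₁).1 * g.1⁻¹) = _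
    group

end Groth.StackCount
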