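import Groth.Agent.StackCount.LinSub
import Groth.Agent.StackCount.Orbits
import Groth.Agent.S9777
import Groth.Agent.AlgGrp1.MonoHom

/-!
# Semidirect products with a smooth connected unipotent normal subgroup
-/

set_option autoImplicit false
set_option backward.isDefEq.respectTransparency false
set_option backward.isDefEq.respectTransparency.types false

universe u v w

open CategoryTheory CategoryTheory.Limits MonoidalCategory CartesianMonoidalCategory MonObj GrpObj AlgebraicGeometry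

noncomputable section

namespace Groth.StackCount

namespace Mass

open MulAction

/-- Fibres are finite when there are finitely many orbits above and finite stabilisers below. -/
theorem HasMass.finite_fib {Γ : Type u} [Group Γ] {P : Type v} [MulAction Γ P] {Q : Type w} [MulAction Γ Q]
    {f : P →[Γ] Q} {M : ℚ} (hM : HasMass Γ P M) (q : Q) [Finite (stabilizer Γ q)] : Finite (Fib f q) := by
  have := hM.1
  let Φ : orbitRel.Quotient (stabilizer Γ q) (Fib f q) → orbitRel.Quotient Γ P :=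
    Quotient.map' (fun x : Fib f q => x.1) (fun a b hab => by
      obtain ⟨d, hd⟩ := orbitRel_apply.1 hab
      exact orbitRel_apply.2 ⟨d.1, congrArg Subtype.val hd⟩)
  have hΦ : Function.Injective Φ := by
    rintro ⟨a⟩ ⟨b⟩ hab
    obtain ⟨g, hg : g • b.1 = a.1⟩ := orbitRel_apply.1 (Quotient.eq''.1 hab)
    refine Quotient.sound' (orbitRel_apply.2 ⟨⟨g, ?_⟩, Subtype.ext hg⟩)
    rw [mem_stabilizer_iff]
    conv_lhs => rw [← b.2]
    rw [← map_smul, hg, a.2]
  have := Finite.of_injective Φ hΦ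
  refine Finite.of_surjective
    (fun x : orbitRel.Quotient (stabilizer Γ q) (Fib f q) × stabilizer Γ q => x.2 • x.1.out) fun y => ?_
  obtain ⟨d, hd⟩ := orbitRel_apply.1 (Quotient.eq''.1
    (Quotient.out_eq' (Quotient.mk'' y : orbitRel.Quotient (stabilizer Γ q) (Fib f q))))
  exact ⟨(Quotient.mk'' y, d⁻¹), show d⁻¹ • _ = y by rw [← hd, inv_smul_smul]⟩

/-- Fibres over the points of one orbit have the same cardinality. -/
theorem card_fib_smul {Γ : Type u} [Group Γ] {P : Type v} [MulAction Γ P] {Q : Type w} [MulAction Γ Q]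
    (f : P →[Γ] Q) (g : Γ) {q q' : Q} (h : g • q = q') : Nat.card (Fib f q) = Nat.card (Fib f q') :=
  Nat.card_congr
    { toFun := fun x => ⟨g • x.1, by rw [map_smul, x.2, h]⟩
      invFun := fun y => ⟨g⁻¹ • y.1, by rw [map_smul, y.2, ← h, inv_smul_smul]⟩
      left_inv := fun x => Subtype.ext (inv_smul_smul g x.1)
      right_inv := fun y => Subtype.ext (smul_inv_smul g y.1) }

/-- Masses over the twisted conjugation of a semidirect product. -/
theorem mass_semidirect {Γ Δ : Type u} [Group Γ] [Group Δ] {fΓ : Γ →* Γ} {fΔ : Δ →* Δ} (ψ : Γ →* Δ) (jj : Δ →* Γ)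
    (hψjj : ∀ x, ψ (jj x) = x) (hψ : ∀ x, ψ (fΓ x) = fΔ (ψ x)) (hjj : ∀ x, fΓ (jj x) = jj (fΔ x))
    (hLang : ∀ a : Γ, ∃ v : Γ, ψ v = 1 ∧ fΓ v * a * v⁻¹ = jj (ψ a)) {N : ℕ}
    (hN : ∀ x : Δ, Nat.card {v : Γ // ψ v = 1 ∧ fΓ v * jj x * v⁻¹ = jj x} = N) (hN0 : N ≠ 0)
    {P P' : Type v} [MulAction Γ P] [MulAction Δ P'] (p : P →[Γ] TwConj fΓ) (p' : P' →[Δ] TwConj fΔ)
    (hfib : ∀ x : Δ, Nat.card (Fib p (show TwConj fΓ from jj x)) = Nat.card (Fib p' (show TwConj fΔ from x)))
    (hsΓ : ∀ a : TwConj fΓ, Finite (stabilizer Γ a)) (hsΔ : ∀ a : TwConj fΔ, Finite (stabilizer Δ a))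
    {M M' : ℚ} (hM : HasMass Γ P M) (hM' : HasMass Δ P' M') : M * N = M' := by
  rw [hM.eq_sum_fibres p (fun q => hM.finite_fib q) hsΓ, hM'.eq_sum_fibres p' (fun q => hM'.finite_fib q) hsΔ,
    finsum_mul]
  let Φ : orbitRel.Quotient Γ (TwConj fΓ) → orbitRel.Quotient Δ (TwConj fΔ) :=
    Quotient.map' (fun a => (show TwConj fΔ from ψ (show Γ from a))) (fun a b hab => by
      obtain ⟨g, hg⟩ := orbitRel_apply.1 hab
      refine orbitRel_apply.2 ⟨ψ g, ?_⟩
      show fΔ (ψ g) * ψ (show Γ from b) * (ψ g)⁻¹ = ψ (show Γ from a)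
      rw [← hψ, ← map_inv, ← map_mul, ← map_mul]
      exact congrArg ψ hg)
  have hrel : ∀ a : TwConj fΓ, ∃ g : Γ, g • a = (show TwConj fΓ from jj (ψ (show Γ from a))) := fun a => by
    obtain ⟨v, -, hv⟩ := hLang (show Γ from a)
    exact ⟨v, hv⟩
  have hΦ : Function.Bijective Φ := by
    constructor
    · rintro ⟨a⟩ ⟨b⟩ hab
      obtain ⟨x, hx⟩ := orbitRel_apply.1 (Quotient.eq''.1 hab)
      obtain ⟨g, hg⟩ := hrel a
      obtain ⟨g', hg'⟩ := hrel b
      refine Quotient.sound' (orbitRel_apply.2 ⟨g⁻¹ * jj x * g', ?_⟩)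
      show (g⁻¹ * jj x * g') • b = a
      rw [mul_smul, mul_smul, hg', inv_smul_eq_iff, hg]
      show fΓ (jj x) * jj (ψ (show Γ from b)) * (jj x)⁻¹ = jj (ψ (show Γ from a))
      rw [hjj, ← map_inv, ← map_mul, ← map_mul]
      exact congrArg jj hx
    · rintro ⟨a⟩
      exact ⟨Quotient.mk'' (show TwConj fΓ from jj (show Δ from a)), congrArg Quotient.mk'' (hψjj (show Δ from a))⟩
  rw [← finsum_comp_equiv (Equiv.ofBijective Φ hΦ)]
  refine finsum_congr fun q => ?_
  obtain ⟨g, hg⟩ := hrel q.out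
  let a' : TwConj fΓ := show TwConj fΓ from jj (ψ (show Γ from q.out))
  let x : TwConj fΔ := show TwConj fΔ from ψ (show Γ from q.out)
  have hqx : Φ q = Quotient.mk'' x := by
    conv_lhs => rw [← Quotient.out_eq' q]
    rfl
  obtain ⟨d, hd⟩ := orbitRel_apply.1 (Quotient.eq''.1 ((Quotient.out_eq' (Φ q)).trans hqx))
  rw [Equiv.ofBijective_apply, card_fib_smul p g hg, ← card_fib_smul p' d hd,
    show Nat.card (Fib p a') = Nat.card (Fib p' x) from hfib _]
  have h1 : Nat.card (stabilizer Γ q.out) = Nat.card (stabilizer Γ a') :=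
    Nat.card_congr (stabilizerEquivStabilizerOfOrbitRel (orbitRel_apply.2 ⟨g⁻¹, show g⁻¹ • a' = q.out from inv_smul_eq_iff.2 hg.symm⟩ :
      orbitRel Γ (TwConj fΓ) q.out a')).toEquiv
  have h2 : Nat.card (stabilizer Δ (Φ q).out) = Nat.card (stabilizer Δ x) :=
    Nat.card_congr (stabilizerEquivStabilizerOfOrbitRel (orbitRel_apply.2 ⟨d, hd⟩ :
      orbitRel Δ (TwConj fΔ) (Φ q).out x)).toEquiv
  have h3 : Nat.card (stabilizer Γ a') = Nat.card (stabilizer Δ x) * N := by
    rw [← hN (show Δ from x), ← Nat.card_prod]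
    refine Nat.card_congr
      { toFun := fun v => (⟨ψ v.1, ?_⟩, ⟨(jj (ψ v.1))⁻¹ * v.1, ?_, ?_⟩)
        invFun := fun z => ⟨jj z.1.1 * z.2.1, ?_⟩
        left_inv := fun v => Subtype.ext (mul_inv_cancel_left _ _)
        right_inv := fun z => Prod.ext (Subtype.ext ?_) (Subtype.ext ?_) }
    · show fΔ (ψ v.1) * (show Δ from x) * (ψ v.1)⁻¹ = (show Δ from x)
      have := congrArg ψ (show fΓ v.1 * jj (show Δ from x) * v.1⁻¹ = jj (show Δ from x) from v.2)
      rwa [map_mul, map_mul, map_inv, hψ, hψjj] at this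
    · rw [map_mul, map_inv, hψjj, inv_mul_cancel]
    · have hv : fΓ v.1 * jj (show Δ from x) * v.1⁻¹ = jj (show Δ from x) := v.2
      have h4 : fΔ (ψ v.1) * (show Δ from x) * (ψ v.1)⁻¹ = (show Δ from x) := by
        have := congrArg ψ hv
        rwa [map_mul, map_mul, map_inv, hψ, hψjj] at this
      have h5 : fΓ (jj (ψ v.1)) * jj (show Δ from x) * (jj (ψ v.1))⁻¹ = jj (show Δ from x) := by
        rw [hjj, ← map_inv, ← map_mul, ← map_mul, h4]
      calc fΓ ((jj (ψ v.1))⁻¹ * v.1) * jj (show Δ from x) * ((jj (ψ v.1))⁻¹ * v.1)⁻¹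
          = (fΓ (jj (ψ v.1)))⁻¹ * (fΓ v.1 * jj (show Δ from x) * v.1⁻¹) * jj (ψ v.1) := by
            rw [map_mul, map_inv]; group
        _ = (fΓ (jj (ψ v.1)))⁻¹ * (fΓ (jj (ψ v.1)) * jj (show Δ from x) * (jj (ψ v.1))⁻¹) * jj (ψ v.1) := by
            rw [hv, h5]
        _ = jj (show Δ from x) := by group
    · show fΓ (jj z.1.1 * z.2.1) * jj (show Δ from x) * (jj z.1.1 * z.2.1)⁻¹ = jj (show Δ from x)
      have h4 : fΔ z.1.1 * (show Δ from x) * z.1.1⁻¹ = (show Δ from x) := z.1.2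
      calc fΓ (jj z.1.1 * z.2.1) * jj (show Δ from x) * (jj z.1.1 * z.2.1)⁻¹
          = fΓ (jj z.1.1) * (fΓ z.2.1 * jj (show Δ from x) * z.2.1⁻¹) * (jj z.1.1)⁻¹ := by
            rw [map_mul]; group
        _ = _ := by rw [z.2.2.2, hjj, ← map_inv, ← map_mul, ← map_mul, h4]
    · show ψ (jj z.1.1 * z.2.1) = z.1.1
      rw [map_mul, hψjj, z.2.2.1, _root_.mul_one]
    · show (jj (ψ (jj z.1.1 * z.2.1)))⁻¹ * (jj z.1.1 * z.2.1) = z.2.1
      rw [map_mul ψ, hψjj, z.2.2.1, _root_.mul_one, inv_mul_cancel_left]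
  rw [h1, h2, h3, Nat.cast_mul]
  have : (N : ℚ) ≠ 0 := Nat.cast_ne_zero.2 hN0
  field_simp

end Mass

variable {k : Type u} [Field k] [Finite k] {kb : Type u} [Field kb] [Algebra k kb] [Algebra.IsAlgebraic k kb]
  [IsAlgClosed kb] [IsGalois k kb]

/-- Twisted centralisers of points of affine groups of finite type are finite. -/
theorem finite_stabilizer_twConj {G : Over (Spec (CommRingCat.of k))} [GrpObj G] [IsAffineHom G.hom]
    [LocallyOfFiniteType G.hom] (a : TwConj (frobHom kb G)) :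
    Finite (MulAction.stabilizer (SGA7.Pts kb G) a) := by
  classical
  have : IsAffine G.left := isAffine_of_isAffineHom G.hom
  obtain ⟨n, ρ, hρ, hfr, -⟩ := exists_linRep (kb := kb) G
  obtain ⟨h, hh⟩ := UniTri.exists_lang_GL (k := k) (ρ (show SGA7.Pts kb G from a))⁻¹
  have hc : ρ (show SGA7.Pts kb G from a) = UniTri.frGL k kb n h * h⁻¹ := by
    rw [← _root_.inv_inv (ρ (show SGA7.Pts kb G from a)), hh, _root_.mul_inv_rev, _root_.inv_inv]
  have hF : ∀ x : SGA7.Pts kb G, ρ (frobHom kb G x) = UniTri.frGL k kb n (ρ x) := fun x =>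
    Units.ext (Matrix.ext fun i j => by
      rw [frobHom_apply, hfr, UniTri.frGL_apply, frobAut_apply])
  have key : ∀ g : MulAction.stabilizer (SGA7.Pts kb G) a,
      UniTri.frGL k kb n (h⁻¹ * ρ g.1 * h) = h⁻¹ * ρ g.1 * h := fun g => by
    have hg : ρ (frobHom kb G g.1) * ρ (show SGA7.Pts kb G from a) * (ρ g.1)⁻¹ = ρ (show SGA7.Pts kb G from a) := by
      rw [← map_inv, ← map_mul, ← map_mul]
      exact congrArg ρ g.2
    rw [hF, mul_inv_eq_iff_eq_mul, ← eq_mul_inv_iff_mul_eq, hc] at hg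
    rw [map_mul, map_mul, map_inv, hg]
    group
  have hz : ∀ g : MulAction.stabilizer (SGA7.Pts kb G) a, ∀ i j,
      ∃ b : k, algebraMap k kb b = (h⁻¹ * ρ g.1 * h).1 i j := fun g i j =>
    UniTri.exists_algebraMap_eq (k := k) (by rw [← UniTri.frGL_apply, key])
  choose b hb using hz
  refine Finite.of_injective (fun g i j => b g i j) fun g g' hgg => Subtype.ext (hρ ?_)
  refine mul_left_cancel (a := h⁻¹) (mul_right_cancel (b := h) (Units.ext (Matrix.ext fun i j => ?_)))
  rw [← hb g i j, ← hb g' i j, show b g i j = b g' i j from congrFun (congrFun hgg i) j]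

/-- The dimension of an algebraic scheme is invariant under extension of the field. -/
theorem dim_bcK {k : Type u} [Field k] (K : Type u) [Field K] [Algebra k K]
    (E : Over (Spec (CommRingCat.of k))) [LocallyOfFiniteType E.hom] [QuasiCompact E.hom] :
    topologicalKrullDim ↥(GalTw.bcK K E).left = topologicalKrullDim ↥E.left := by
  let f := (SGA7.pt (K := k) K).hom
  have : Subsingleton ↥(SGA7.pt (K := k) K).left := inferInstanceAs (Subsingleton (Spec (CommRingCat.of K)))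
  have hall : ∀ {X Y : Scheme.{u}} (g : X ⟶ Y) (y : Y), Subsingleton Y →
      topologicalKrullDim ↑(g.fiber y) = topologicalKrullDim X := fun g y _ => by
    have h1 : g ⁻¹' {y} = Set.univ := Set.eq_univ_of_forall fun x => Subsingleton.elim _ _
    exact IsHomeomorph.topologicalKrullDim_eq _
      ((g.fiberHomeo y).trans ((Homeomorph.setCongr h1).trans (Homeomorph.Set.univ _))).isHomeomorph
  have h := Groth.Agent.S9777.result E.hom f (pullback.snd E.hom f) (pullback.fst E.hom f)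
    (IsPullback.of_hasPullback _ _) (IsLocalRing.closedPoint K)
  exact ((hall (pullback.snd E.hom f) _ inferInstance).symm.trans h).trans (hall E.hom _ inferInstance)

section Normal

variable {U G : Over (Spec (CommRingCat.of k))} [GrpObj U] [GrpObj G] [Smooth U.hom] [IsAffineHom U.hom]
  [ConnectedSpace U.left] [Smooth G.hom] [IsAffineHom G.hom] (i : U ⟶ G) [IsMonHom i] [Mono i]

omit [Finite k] [Algebra.IsAlgebraic k kb] [IsAlgClosed kb] [IsGalois k kb] [GrpObj U] [GrpObj G] [Smooth U.hom]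
  [IsAffineHom U.hom] [ConnectedSpace U.left] [Smooth G.hom] [IsAffineHom G.hom] [IsMonHom i] [Mono i] in
theorem secOfPt_comp_map (u : SGA7.Pts kb U) :
    GalTw.secOfPt kb u ≫ (Over.pullback (SGA7.pt (K := k) kb).hom).map i = GalTw.secOfPt kb (u ≫ i) := by
  apply Over.OverMorphism.ext
  apply pullback.hom_ext
  · simp [GalTw.secOfPt_left]
  · simp [GalTw.secOfPt_left]

/-- The number of points of a smooth connected unipotent normal subgroup fixed by a twisted Frobenius. -/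
theorem card_twisted_fix (hn : AlgGrp.IsNormalHom i) (hU : Red.HasNoSubtorus kb (GalTw.bcK kb U)) (d : ℕ)
    (hd : topologicalKrullDim ↥U.left = (d : WithBot ℕ∞)) (b : SGA7.Pts kb G) :
    Nat.card {v : SGA7.Pts kb U // b * frobAut k kb • (v ≫ i) * b⁻¹ = v ≫ i} = Nat.card k ^ d := by
  classical
  let s := (Over.pullback (SGA7.pt (K := k) kb).hom).map i
  have : IsClosedImmersion i.left := Groth.AlgGrp1.isClosedImmersion_of_mono_hom i
  have : IsClosedImmersion s.left := by
    show IsClosedImmersion ((Over.pullback (SGA7.pt (K := k) kb).hom).map i).left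
    have hsq : IsPullback ((Over.pullback (SGA7.pt (K := k) kb).hom).map i).left
        (pullback.fst U.hom (SGA7.pt (K := k) kb).hom) (pullback.fst G.hom (SGA7.pt (K := k) kb).hom) i.left := by
      refine IsPullback.of_right ?_ (by simp) (IsPullback.of_hasPullback G.hom (SGA7.pt (K := k) kb).hom).flip
      have h1 := (IsPullback.of_hasPullback U.hom (SGA7.pt (K := k) kb).hom).flip
      convert h1 using 1 <;> first | exact Over.w i | simp
    exact MorphismProperty.of_isPullback hsq.flip ‹IsClosedImmersion i.left›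
  have hmem : ∀ g : SGA7.Pts kb G, g ∈ subPts s ↔ ∃ u : SGA7.Pts kb U, u ≫ i = g := fun g => by
    rw [mem_subPts]
    constructor
    · rintro ⟨z, hz⟩
      refine ⟨undPt z, (secEquiv G).injective ?_⟩
      show GalTw.secOfPt kb (undPt z ≫ i) = GalTw.secOfPt kb g
      rw [← secOfPt_comp_map, show GalTw.secOfPt kb (undPt z) = z from (secEquiv U).right_inv z, hz]
    · rintro ⟨u, rfl⟩
      exact ⟨GalTw.secOfPt kb u, secOfPt_comp_map i u⟩
  have hst : ∀ x : subPts s, b * frobHom kb G x.1 * b⁻¹ ∈ subPts s := fun x => by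
    obtain ⟨u, hu⟩ := (hmem _).1 x.2
    obtain ⟨n', hn'⟩ := hn _ b (frobAut k kb • u)
    refine (hmem _).2 ⟨n', ?_⟩
    rw [← hn', frobHom_apply, ← hu]
    congr 2
  let τ : subPts s →* subPts s := MonoidHom.mk' (fun x => ⟨b * frobHom kb G x.1 * b⁻¹, hst x⟩) fun x y =>
    Subtype.ext (by
      show b * frobHom kb G (x.1 * y.1) * b⁻¹ = b * frobHom kb G x.1 * b⁻¹ * (b * frobHom kb G y.1 * b⁻¹)
      rw [map_mul]
      group)
  have h := exists_mass_subPts s hU d (by rw [← hd]; exact dim_bcK kb U) b τ fun x => rfl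
  have hone : ∀ t : subPts s, ∃ g : subPts s, τ g * 1 * g⁻¹ = t := fun t => by
    obtain ⟨a, ha⟩ := (hmem _).1 (t⁻¹).2
    obtain ⟨x, hx⟩ := exists_lang_normal i hn b a
    refine ⟨⟨x ≫ i, (hmem _).2 ⟨x, rfl⟩⟩, Subtype.ext ?_⟩
    show b * frobHom kb G (x ≫ i) * b⁻¹ * 1 * (x ≫ i)⁻¹ = t.1
    rw [ha] at hx
    rw [show t.1 = ((t⁻¹ : subPts s).1)⁻¹ from (_root_.inv_inv _).symm, ← hx, frobHom_apply]
    group
  let t₀ : TwConj τ := (show subPts s from 1)
  have hall : ∀ t : TwConj τ, (Quotient.mk'' t : MulAction.orbitRel.Quotient (subPts s) (TwConj τ)) =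
      Quotient.mk'' t₀ := fun t => by
    obtain ⟨g, hg⟩ := hone t
    exact Quotient.sound' (MulAction.orbitRel_apply.2 ⟨g, hg⟩)
  let : Unique (MulAction.orbitRel.Quotient (subPts s) (TwConj τ)) :=
    ⟨⟨Quotient.mk'' t₀⟩, fun q => by rw [← Quotient.out_eq' q]; exact hall _⟩
  have h3 := h.2.2
  rw [finsum_unique, show (default : MulAction.orbitRel.Quotient (subPts s) (TwConj τ)) = Quotient.mk'' t₀ from rfl,
    Mass.card_stabilizer_out, inv_inj] at h3
  rw [show Nat.card k ^ d = Nat.card (MulAction.stabilizer (subPts s) t₀) by exact_mod_cast h3.symm]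
  refine Nat.card_congr (Equiv.ofBijective (fun v => ⟨⟨v.1 ≫ i, (hmem _).2 ⟨v.1, rfl⟩⟩, ?_⟩) ⟨?_, ?_⟩)
  · refine Subtype.ext ?_
    show b * frobHom kb G (v.1 ≫ i) * b⁻¹ * 1 * (v.1 ≫ i)⁻¹ = 1
    rw [_root_.mul_one, frobHom_apply, v.2, mul_inv_cancel]
  · intro v v' hvv
    exact Subtype.ext ((cancel_mono i).1 (congrArg (fun z => z.1.1) hvv))
  · rintro ⟨g, hg⟩
    obtain ⟨u, hu⟩ := (hmem _).1 g.2
    refine ⟨⟨u, ?_⟩, Subtype.ext (Subtype.ext hu)⟩
    have h4 : b * frobHom kb G g.1 * b⁻¹ * 1 * g.1⁻¹ = 1 := congrArg Subtype.val hg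
    rw [_root_.mul_one, mul_inv_eq_one] at h4
    rw [hu]
    exact h4

end Normal

end Groth.StackCount
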