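import Mathlib
import Groth.Agent.StackCount.FrobPts

/-!
# Masses of group actions with finitely many orbits and finite stabilisers
-/

set_option autoImplicit false

noncomputable section

namespace Groth.StackCount.Mass

open MulAction

universe u v w

variable {Γ : Type u} [Group Γ] {P : Type v} [MulAction Γ P]

/-- The action has finitely many orbits, finite stabilisers, and the sum of the inverse orders of the
stabilisers is `m`. -/
def HasMass (Γ : Type u) [Group Γ] (P : Type v) [MulAction Γ P] (m : ℚ) : Prop :=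
  Finite (orbitRel.Quotient Γ P) ∧ (∀ p : P, Finite (stabilizer Γ p)) ∧
    ∑ᶠ ω : orbitRel.Quotient Γ P, (Nat.card (stabilizer Γ ω.out) : ℚ)⁻¹ = m

theorem HasMass.unique {m m' : ℚ} (h : HasMass Γ P m) (h' : HasMass Γ P m') : m = m' := h.2.2.symm.trans h'.2.2

/-- Stabilisers of points of one orbit have the same order. -/
theorem card_stabilizer_out (p : P) :
    Nat.card (stabilizer Γ (Quotient.out (Quotient.mk'' p : orbitRel.Quotient Γ P))) = Nat.card (stabilizer Γ p) :=
  Nat.card_congr (stabilizerEquivStabilizerOfOrbitRel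
    (Quotient.eq''.1 (Quotient.out_eq' (Quotient.mk'' p : orbitRel.Quotient Γ P)))).toEquiv

theorem finite_stabilizer_of_rel {p p' : P} (h : ∃ g : Γ, g • p' = p) [Finite (stabilizer Γ p')] :
    Finite (stabilizer Γ p) :=
  Finite.of_equiv _ (stabilizerEquivStabilizerOfOrbitRel (orbitRel_apply.2 (by
    obtain ⟨g, hg⟩ := h; exact ⟨g, hg⟩) : orbitRel Γ P p p')).symm.toEquiv

theorem finsum_sigma_finite {ι : Type u} {β : ι → Type v} [Finite (Σ i, β i)] (f : (Σ i, β i) → ℚ) :
    ∑ᶠ x, f x = ∑ᶠ i, ∑ᶠ b, f ⟨i, b⟩ := by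
  classical
  have := Fintype.ofFinite (Σ i, β i)
  have hfin : ∀ i, Finite (β i) := fun i =>
    Finite.of_injective (fun b => (⟨i, b⟩ : Σ i, β i)) sigma_mk_injective
  have := fun i => Fintype.ofFinite (β i)
  rw [finsum_eq_sum_of_fintype]
  let S : Finset ι := Finset.univ.image (Sigma.fst : (Σ i, β i) → ι)
  rw [finsum_eq_sum_of_support_subset (s := S) _ (fun i hi => ?_)]
  · simp only [finsum_eq_sum_of_fintype]
    rw [← Finset.sum_sigma S (fun i => (Finset.univ : Finset (β i))) f]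
    refine Finset.sum_congr ?_ fun _ _ => rfl
    ext x
    simpa [S] using ⟨x.2, rfl⟩
  · by_contra hn
    refine hi (finsum_eq_zero_of_forall_eq_zero fun b => absurd ?_ hn)
    exact Finset.mem_coe.2 (Finset.mem_image.2 ⟨⟨i, b⟩, Finset.mem_univ _, rfl⟩)

section Transport

variable {Δ : Type w} [Group Δ] {P' : Type*} [MulAction Δ P'] (e : P' → P) (j : Δ →* Γ)

/-- An equivariant map inducing a bijection on orbits and isomorphisms of stabilisers preserves the mass. -/
theorem hasMass_iff_of_equiv {m : ℚ} (hj : Function.Injective j) (hcomp : ∀ d p, e (d • p) = j d • e p)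
    (hsurj : ∀ p, ∃ (g : Γ) (p' : P'), g • e p' = p)
    (hfull : ∀ p₁ p₂ (g : Γ), g • e p₁ = e p₂ → ∃ d : Δ, d • p₁ = p₂ ∧ j d = g) :
    HasMass Δ P' m ↔ HasMass Γ P m := by
  let Φ : orbitRel.Quotient Δ P' → orbitRel.Quotient Γ P := Quotient.map' e (fun a b hab => by
    obtain ⟨d, hd⟩ := orbitRel_apply.1 hab
    exact orbitRel_apply.2 ⟨j d, by rw [← hd]; exact (hcomp d b).symm⟩)
  have hΦ : Function.Bijective Φ := by
    constructor
    · rintro ⟨a⟩ ⟨b⟩ hab
      obtain ⟨g, hg⟩ := orbitRel_apply.1 (Quotient.eq''.1 hab)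
      obtain ⟨d, hd, -⟩ := hfull b a g hg
      exact Quotient.sound' (orbitRel_apply.2 ⟨d, hd⟩)
    · rintro ⟨p⟩
      obtain ⟨g, p', hg⟩ := hsurj p
      exact ⟨Quotient.mk'' p', (Quotient.sound' (orbitRel_apply.2 ⟨g, hg⟩)).symm⟩
  let st : ∀ p', stabilizer Δ p' ≃ stabilizer Γ (e p') := fun p' =>
    Equiv.ofBijective (fun d => ⟨j d.1, by rw [mem_stabilizer_iff, ← hcomp, d.2]⟩)
      ⟨fun a b hab => Subtype.ext (hj (congrArg Subtype.val hab)), fun g => by
        obtain ⟨d, hd, hjd⟩ := hfull p' p' g.1 g.2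
        exact ⟨⟨d, hd⟩, Subtype.ext hjd⟩⟩
  have hcard : ∀ ω, Nat.card (stabilizer Γ (Φ ω).out) = Nat.card (stabilizer Δ ω.out) := fun ω => by
    conv_lhs => rw [← Quotient.out_eq' ω]
    rw [show Φ (Quotient.mk'' ω.out) = Quotient.mk'' (e ω.out) from rfl, card_stabilizer_out,
      Nat.card_congr (st _)]
  have hsum : ∑ᶠ ω : orbitRel.Quotient Γ P, (Nat.card (stabilizer Γ ω.out) : ℚ)⁻¹ =
      ∑ᶠ ω : orbitRel.Quotient Δ P', (Nat.card (stabilizer Δ ω.out) : ℚ)⁻¹ := by
    rw [← finsum_comp_equiv (Equiv.ofBijective Φ hΦ)]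
    exact finsum_congr fun ω => by rw [Equiv.ofBijective_apply, hcard]
  unfold HasMass
  rw [hsum, (Equiv.ofBijective Φ hΦ).finite_iff]
  refine and_congr_right fun _ => and_congr_left fun _ => ⟨fun h p => ?_, fun h p => ?_⟩
  · obtain ⟨g, p', hg⟩ := hsurj p
    have := h p'
    have : Finite (stabilizer Γ (e p')) := Finite.of_equiv _ (st p')
    exact finite_stabilizer_of_rel ⟨g, hg⟩
  · have := h (e p)
    exact Finite.of_equiv _ (st p).symm

end Transport

section Fibre

variable {Q : Type w} [MulAction Γ Q] (f : P →[Γ] Q)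

/-- The fibre of an equivariant map. -/
def Fib (q : Q) : Type v := {x : P // f x = q}

instance (q : Q) : MulAction (stabilizer Γ q) (Fib f q) where
  smul g x := ⟨g.1 • x.1, by rw [map_smul, x.2]; exact g.2⟩
  one_smul x := Subtype.ext (one_smul Γ x.1)
  mul_smul g h x := Subtype.ext (mul_smul g.1 h.1 x.1)

theorem Fib.smul_val {q : Q} (g : stabilizer Γ q) (x : Fib f q) : (g • x).1 = g.1 • x.1 := rfl

theorem fib_stab_equiv (q : Q) (x : Fib f q) :
    Nonempty (stabilizer (stabilizer Γ q) x ≃ stabilizer Γ x.1) :=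
  ⟨{ toFun := fun g => ⟨g.1.1, congrArg Subtype.val g.2⟩
     invFun := fun g => ⟨⟨g.1, by
       have hx : f (g.1 • x.1) = f x.1 := congrArg f g.2
       rw [map_smul] at hx
       exact ((congrArg (g.1 • ·) x.2).symm.trans hx).trans x.2⟩, Subtype.ext g.2⟩
     left_inv := fun _ => rfl
     right_inv := fun _ => rfl }⟩

/-- The orbits of `P` are the orbits of the stabilisers on the fibres. -/
theorem exists_orbit_equiv :
    ∃ e : (Σ q : orbitRel.Quotient Γ Q, orbitRel.Quotient (stabilizer Γ q.out) (Fib f q.out)) ≃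
        orbitRel.Quotient Γ P,
      ∀ x, Nat.card (stabilizer Γ (e x).out) = Nat.card (stabilizer (stabilizer Γ x.1.out) x.2.out) := by
  let Φ : (Σ q : orbitRel.Quotient Γ Q, orbitRel.Quotient (stabilizer Γ q.out) (Fib f q.out)) →
      orbitRel.Quotient Γ P := fun x => Quotient.map' (fun y : Fib f x.1.out => y.1) (fun a b hab => by
    obtain ⟨d, hd⟩ := orbitRel_apply.1 hab
    exact orbitRel_apply.2 ⟨d.1, congrArg Subtype.val hd⟩) x.2
  have hΦ : Function.Bijective Φ := by
    constructor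
    · rintro ⟨q, ⟨a⟩⟩ ⟨q', ⟨b⟩⟩ hab
      obtain ⟨g, hg : g • b.1 = a.1⟩ := orbitRel_apply.1 (Quotient.eq''.1 hab)
      have hq : q = q' := by
        rw [← Quotient.out_eq' q, ← Quotient.out_eq' q']
        exact Quotient.sound' (orbitRel_apply.2 ⟨g, by
          show g • q'.out = q.out
          rw [← b.2, ← map_smul, hg, a.2]⟩)
      subst hq
      refine congrArg (Sigma.mk q) (Quotient.sound' (orbitRel_apply.2 ⟨⟨g, ?_⟩, Subtype.ext hg⟩))
      rw [mem_stabilizer_iff]
      conv_lhs => rw [← b.2]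
      rw [← map_smul, hg, a.2]
    · rintro ⟨p⟩
      let q : orbitRel.Quotient Γ Q := Quotient.mk'' (f p)
      obtain ⟨g, hg⟩ := orbitRel_apply.1 (Quotient.eq''.1 (Quotient.out_eq' q))
      exact ⟨⟨q, Quotient.mk'' ⟨g • p, by rw [map_smul]; exact hg⟩⟩,
        Quotient.sound' (orbitRel_apply.2 ⟨g, rfl⟩)⟩
  refine ⟨Equiv.ofBijective Φ hΦ, fun ⟨q, ω⟩ => ?_⟩
  conv_lhs => rw [← Quotient.out_eq' ω]
  rw [Equiv.ofBijective_apply, show Φ ⟨q, Quotient.mk'' ω.out⟩ = Quotient.mk'' ω.out.1 from rfl,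
    card_stabilizer_out]
  exact (Nat.card_congr (fib_stab_equiv f q.out ω.out).some).symm

/-- The mass is the sum over the orbits below of the masses of the fibres. -/
theorem hasMass_of_fibres [Finite (orbitRel.Quotient Γ Q)] (m : orbitRel.Quotient Γ Q → ℚ)
    (h : ∀ q, HasMass (stabilizer Γ q.out) (Fib f q.out) (m q)) : HasMass Γ P (∑ᶠ q, m q) := by
  obtain ⟨e, he⟩ := exists_orbit_equiv f
  have := fun q => (h q).1
  refine ⟨Finite.of_equiv _ e, fun p => ?_, ?_⟩
  · let q : orbitRel.Quotient Γ Q := Quotient.mk'' (f p)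
    obtain ⟨g, hg⟩ := orbitRel_apply.1 (Quotient.eq''.1 (Quotient.out_eq' q))
    let x : Fib f q.out := ⟨g • p, by rw [map_smul]; exact hg⟩
    have := (h q).2.1 x
    have : Finite (stabilizer Γ (g • p)) := Finite.of_equiv _ (fib_stab_equiv f q.out x).some
    exact finite_stabilizer_of_rel ⟨g⁻¹, inv_smul_smul g p⟩
  · rw [← finsum_comp_equiv e, finsum_sigma_finite]
    refine finsum_congr fun q => ?_
    rw [← (h q).2.2]
    exact finsum_congr fun ω => by rw [he]

/-- The orbit counting formula for a finite group acting on a finite set. -/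
theorem hasMass_finite (H : Type u) (Y : Type v) [Group H] [MulAction H Y] [Finite H] [Finite Y] :
    HasMass H Y ((Nat.card Y : ℚ) / Nat.card H) :=
  ⟨inferInstance, fun _ => inferInstance, Groth.StkGerb.QuotFin.sum_inv_card_stabilizer H Y⟩

/-- A known mass as a sum over the orbits below, all fibres and stabilisers below being finite. -/
theorem HasMass.eq_sum_fibres {M : ℚ} (hM : HasMass Γ P M) (hY : ∀ q : Q, Finite (Fib f q))
    (hH : ∀ q : Q, Finite (stabilizer Γ q)) :
    M = ∑ᶠ q : orbitRel.Quotient Γ Q,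
      (Nat.card (Fib f q.out) : ℚ) / Nat.card (stabilizer Γ q.out) := by
  obtain ⟨e, he⟩ := exists_orbit_equiv f
  have := hM.1
  have := Finite.of_equiv _ e.symm
  have := fun q => hY q
  have := fun q => hH q
  rw [← hM.2.2, ← finsum_comp_equiv e, finsum_sigma_finite]
  refine finsum_congr fun q => ?_
  rw [← (hasMass_finite (stabilizer Γ q.out) (Fib f q.out)).2.2]
  exact finsum_congr fun ω => by rw [he]

end Fibre

/-- Passing from a normal subgroup of finite index to the group divides the mass by the index. -/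
theorem hasMass_of_index (A : Subgroup Γ) [A.Normal] [Finite (Γ ⧸ A)] {m : ℚ} (h : HasMass A P m) :
    HasMass Γ P (m / Nat.card (Γ ⧸ A)) := by
  have hn : (Nat.card (Γ ⧸ A) : ℚ) ≠ 0 := Nat.cast_ne_zero.2 Nat.card_pos.ne'
  have := h.1
  have hstA : ∀ p : P, Finite (stabilizer A p) := h.2.1
  have : Finite (orbitRel.Quotient Γ P) := Finite.of_surjective
    (Quotient.map' (id : P → P) (fun a b hab => by
      obtain ⟨d, hd⟩ := orbitRel_apply.1 hab
      exact orbitRel_apply.2 ⟨d.1, hd⟩) : orbitRel.Quotient A P → orbitRel.Quotient Γ P)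
    (fun q => ⟨Quotient.mk'' q.out, Quotient.out_eq' q⟩)
  have hst : ∀ p : P, Finite (stabilizer Γ p) := fun p => by
    let K := (A.subgroupOf (stabilizer Γ p))
    have : Finite K := Finite.of_injective (β := stabilizer A p)
      (fun a => ⟨⟨a.1.1, a.2⟩, a.1.2⟩) fun a b hab => Subtype.ext (Subtype.ext (congrArg (fun x : stabilizer A p => x.1.1) hab))
    let φ : stabilizer Γ p →* Γ ⧸ A := (QuotientGroup.mk' A).comp (stabilizer Γ p).subtype
    have : Finite φ.ker := Finite.of_injective (β := K)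
      (fun a => ⟨a.1, (QuotientGroup.eq_one_iff (N := A) a.1.1).1 (MonoidHom.mem_ker.1 a.2)⟩) fun a b hab =>
        Subtype.ext (congrArg (fun x : K => x.1) hab)
    have : Finite (stabilizer Γ p ⧸ φ.ker) :=
      Finite.of_injective _ (QuotientGroup.kerLift_injective φ)
    exact Finite.of_equiv _ (Subgroup.groupEquivQuotientProdSubgroup (s := φ.ker)).symm
  refine ⟨inferInstance, hst, ?_⟩
  let pr₁ : (P × (Γ ⧸ A)) →[Γ] P := ⟨Prod.fst, fun _ _ => rfl⟩
  have e₁ : ∀ q : P, Fib pr₁ q ≃ Γ ⧸ A := fun q =>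
    ⟨fun x => x.1.2, fun c => ⟨(q, c), rfl⟩, fun x => Subtype.ext (Prod.ext x.2.symm rfl), fun _ => rfl⟩
  have : ∀ q, Finite (Fib pr₁ q) := fun q => Finite.of_equiv _ (e₁ q).symm
  have h1 := hasMass_of_fibres pr₁ _ fun q => hasMass_finite (stabilizer Γ q.out) (Fib pr₁ q.out)
  have h2 : HasMass Γ (P × (Γ ⧸ A)) m := by
    refine (hasMass_iff_of_equiv (fun p => (p, ((1 : Γ) : Γ ⧸ A))) A.subtype Subtype.val_injective
      (fun d p => Prod.ext rfl ?_) (fun x => ?_) (fun p₁ p₂ g hg => ?_)).1 h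
    · show ((1 : Γ) : Γ ⧸ A) = (((d : Γ) * 1 : Γ) : Γ ⧸ A)
      rw [QuotientGroup.eq, mul_one, inv_one, one_mul]
      exact d.2
    · obtain ⟨g, hg⟩ := QuotientGroup.mk_surjective x.2
      exact ⟨g, g⁻¹ • x.1, Prod.ext (smul_inv_smul g x.1) (by
        show ((g * 1 : Γ) : Γ ⧸ A) = x.2
        rw [mul_one, hg])⟩
    · have hgA : g ∈ A := by
        have : ((g * 1 : Γ) : Γ ⧸ A) = ((1 : Γ) : Γ ⧸ A) := congrArg Prod.snd hg
        rwa [mul_one, QuotientGroup.eq, mul_one, inv_mem_iff] at this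
      exact ⟨⟨g, hgA⟩, congrArg Prod.fst hg, rfl⟩
  rw [h2.unique h1]
  have := Fintype.ofFinite (orbitRel.Quotient Γ P)
  simp only [finsum_eq_sum_of_fintype]
  rw [Finset.sum_div]
  refine Finset.sum_congr rfl fun q _ => ?_
  rw [Nat.card_congr (e₁ _)]
  field_simp

end Groth.StackCount.Mass
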