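import Groth.Agent.StackCount.Common
import Groth.Agent.StackCount.Cover
import Groth.Agent.StackCount.Mass

/-!
# The point count of `[X/G]` as the mass of the action on Frobenius pairs
-/

set_option autoImplicit false
set_option backward.isDefEq.respectTransparency false
set_option backward.isDefEq.respectTransparency.types false

universe u

open CategoryTheory CategoryTheory.Limits MonoidalCategory CartesianMonoidalCategory MonObj GrpObj AlgebraicGeometry
open AlgSt Groth.AlgGrp2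

noncomputable section

namespace Groth.StackCount

variable {k : Type u} [Field k] [Finite k] (kb : Type u) [Field kb] [Algebra k kb] [Algebra.IsAlgebraic k kb]
  (G : Over (Spec (CommRingCat.of k))) [GrpObj G]

/-- The Frobenius of the group of geometric points. -/
def frobHom : SGA7.Pts kb G →* SGA7.Pts kb G :=
  MulDistribMulAction.toMonoidHom (SGA7.Pts kb G) (frobAut k kb)

theorem frobHom_apply (g : SGA7.Pts kb G) : frobHom kb G g = frobAut k kb • g := rfl

variable {kb G} {X : Over (Spec (CommRingCat.of k))} (aX : AlgGrp.Action G X)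

variable (kb) in
/-- Pairs `(a, x)` with `a · x = F x`. -/
def Pairs : Type u :=
  {p : TwConj (frobHom kb G) × SGA7.Pts kb X //
    lift (show SGA7.Pts kb G from p.1) p.2 ≫ aX.act = frobAut k kb • p.2}

instance : MulAction (SGA7.Pts kb G) (Pairs kb aX) where
  smul g p := ⟨(g • p.1.1, lift g p.1.2 ≫ aX.act), by
    show lift (frobHom kb G g * (show SGA7.Pts kb G from p.1.1) * g⁻¹) (lift g p.1.2 ≫ aX.act) ≫ aX.act =
      gs k (frobAut k kb) ≫ lift g p.1.2 ≫ aX.act
    rw [← lift_mul_act, _root_.inv_mul_cancel_right, lift_mul_act, p.2, comp_lift_assoc]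
    rfl⟩
  one_smul p := Subtype.ext (Prod.ext (one_smul (SGA7.Pts kb G) p.1.1) (lift_one_act aX _))
  mul_smul g h p := Subtype.ext (Prod.ext (mul_smul g h p.1.1) (lift_mul_act aX g h _))

theorem Pairs.smul_fst (g : SGA7.Pts kb G) (p : Pairs kb aX) :
    (show SGA7.Pts kb G from (g • p).1.1) =
      frobAut k kb • g * (show SGA7.Pts kb G from p.1.1) * g⁻¹ := rfl

theorem Pairs.smul_snd (g : SGA7.Pts kb G) (p : Pairs kb aX) : (g • p).1.2 = lift g p.1.2 ≫ aX.act := rfl

/-- The first projection of pairs. -/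
def Pairs.fstHom : Pairs kb aX →[SGA7.Pts kb G] TwConj (frobHom kb G) := ⟨fun p => p.1.1, fun _ _ => rfl⟩

/-- The second projection of pairs. -/
theorem Pairs.ext {p p' : Pairs kb aX} (h₁ : p.1.1 = p'.1.1) (h₂ : p.1.2 = p'.1.2) : p = p' :=
  Subtype.ext (Prod.ext h₁ h₂)

variable [IsGalois k kb] [IsAlgClosed kb] [Smooth G.hom] [IsAffineHom G.hom] [LocallyOfFiniteType X.hom]
  [QuasiCompact X.hom]

/-- The point count of `[X/G]` is the mass of the group of geometric points acting on the pairs. -/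
theorem hasMass_pairs (h : StkCnt.IsEssFinite (StkCnt.pts (QuotSt Scheme.etalePrecoverage G aX) k)) :
    Mass.HasMass (SGA7.Pts kb G) (Pairs kb aX) (StkCnt.ptCount (QuotSt Scheme.etalePrecoverage G aX) k h) := by
  classical
  let π₀ := frobAut k kb
  have hπ := frobAut_apply k kb
  -- cocycles
  have hex : ∀ a : SGA7.Pts kb G, ∃ c : (kb ≃ₐ[k] kb) → SGA7.Pts kb G, IsLocallyConstant c ∧
      (∀ σ τ, c (σ * τ) = (gs k σ ≫ c τ) * c σ) ∧ c π₀ = a := fun a => by
    obtain ⟨z, hz⟩ := exists_cocycle_pts (kb := kb) (a⁻¹ : SGA7.Pts kb G)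
    refine ⟨fun σ => (z.1 σ)⁻¹, z.2.comp fun g => g⁻¹, fun σ τ => ?_, by show (z.1 (frobAut k kb))⁻¹ = a; rw [hz, _root_.inv_inv]⟩
    show (z.1 (σ * τ))⁻¹ = (σ • (z.1 τ)⁻¹) * (z.1 σ)⁻¹
    rw [z.1.2 σ τ, _root_.mul_inv_rev, smul_inv']
  choose c hclc hcco hcπ using hex
  -- relations at the Frobenius extend to the Galois group
  have ext : ∀ (b b' : (kb ≃ₐ[k] kb) → SGA7.Pts kb G), IsLocallyConstant b → IsLocallyConstant b' →
      (∀ σ τ, b (σ * τ) = (gs k σ ≫ b τ) * b σ) → (∀ σ τ, b' (σ * τ) = (gs k σ ≫ b' τ) * b' σ) →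
      ∀ g : SGA7.Pts kb G, (π₀ • g) * b' π₀ = b π₀ * g → ∀ σ, (gs k σ ≫ g) * b' σ = b σ * g := by
    intro b b' hb hb' hcb hcb' g hg σ
    let mkz : ∀ d : (kb ≃ₐ[k] kb) → SGA7.Pts kb G, IsLocallyConstant d →
        (∀ σ τ, d (σ * τ) = (gs k σ ≫ d τ) * d σ) → GpH1.OneCocycleLC (kb ≃ₐ[k] kb) (SGA7.Pts kb G) :=
      fun d hd hdd => ⟨⟨fun σ => (d σ)⁻¹, fun σ τ => by
        show (d (σ * τ))⁻¹ = (d σ)⁻¹ * σ • (d τ)⁻¹
        rw [hdd, _root_.mul_inv_rev, smul_inv']
        rfl⟩, hd.comp fun g => g⁻¹⟩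
    let w : GpH1.OneCocycleLC (kb ≃ₐ[k] kb) (SGA7.Pts kb G) :=
      ⟨⟨fun σ => g⁻¹ * (mkz b hb hcb).1 σ * σ • g, fun σ τ => by
        show g⁻¹ * (mkz b hb hcb).1 (σ * τ) * (σ * τ) • g = _
        simp only [(mkz b hb hcb).1.2 σ τ, smul_mul', smul_inv', mul_smul]
        group⟩, (((mkz b hb hcb).2.comp (g⁻¹ * ·)).comp₂
          (FrobGen.isLocallyConstant_smul (A := SGA7.Pts kb G) (fun a => pts_cont a) g) (· * ·))⟩
    have e := cocycle_ext (z := mkz b' hb' hcb') (z' := w) (by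
      show (b' π₀)⁻¹ = g⁻¹ * (b π₀)⁻¹ * π₀ • g
      rw [← _root_.mul_inv_rev, ← hg]
      group)
    have e' : (b' σ)⁻¹ = g⁻¹ * (b σ)⁻¹ * σ • g := congrArg (fun v => v.1 σ) e
    show (σ • g) * b' σ = b σ * g
    rw [← _root_.inv_inv (b' σ), e']
    group
  -- fixed points
  have fix : ∀ (b : (kb ≃ₐ[k] kb) → SGA7.Pts kb G), IsLocallyConstant b →
      (∀ σ τ, b (σ * τ) = (gs k σ ≫ b τ) * b σ) → ∀ x : SGA7.Pts kb X,
      lift (b π₀) x ≫ aX.act = π₀ • x → ∀ σ, lift (b σ) x ≫ aX.act = gs k σ ≫ x := by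
    intro b hb hcb x hx σ
    have hb1 : b 1 = 1 := by
      have := hcb 1 1
      rwa [_root_.mul_one, gs_one, Category.id_comp, left_eq_mul] at this
    have hmul : ∀ σ τ, lift (b σ) x ≫ aX.act = gs k σ ≫ x → lift (b τ) x ≫ aX.act = gs k τ ≫ x →
        lift (b (σ * τ)) x ≫ aX.act = gs k (σ * τ) ≫ x := fun σ τ h₁ h₂ => by
      rw [hcb, lift_mul_act, h₁, gs_mul, Category.assoc, ← h₂, comp_lift_assoc]
    have hpow : ∀ i : ℕ, lift (b (π₀ ^ i)) x ≫ aX.act = gs k (π₀ ^ i) ≫ x := by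
      intro i
      induction i with
      | zero => rw [pow_zero, hb1, gs_one, Category.id_comp, lift_one_act]
      | succ i ih => rw [pow_succ]; exact hmul _ _ ih hx
    obtain ⟨S₁, hS₁⟩ := exists_level_of_isLocallyConstant hb
    obtain ⟨S₂, hS₂⟩ := exists_finset_level (k' := k) x
    obtain ⟨E, _, _, _, hSE⟩ := exists_galois_level (k' := k) (S₁ ∪ S₂)
    simp only [Finset.coe_union, Set.union_subset_iff] at hSE
    obtain ⟨xE, hxE⟩ := hS₂ E hSE.2
    obtain ⟨i, hi⟩ := FrobGen.exists_pow_agree hπ E σ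
    have hτ := (IntermediateField.mem_fixingSubgroup_iff _ _).1 hi
    rw [← mul_inv_cancel_left (π₀ ^ i) σ]
    refine hmul _ _ (hpow i) ?_
    rw [hS₁ _ fun y hy => hτ y (hSE.1 hy), hb1, lift_one_act, ← hxE, ← Category.assoc, gs_jot,
      show ((π₀ ^ i)⁻¹ * σ).restrictNormal E = 1 from AlgEquiv.ext fun y => Subtype.ext
        ((((π₀ ^ i)⁻¹ * σ).restrictNormal_commutes E y).trans (hτ y y.2)), gs_one, Category.comp_id]
  -- objects attached to pairs
  have hobj : ∀ p : Pairs kb aX, ∃ (A : (QuotSt Scheme.etalePrecoverage G aX).p.Fiber (SGA7.pt (K := k) k))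
      (s : KPoint A kb), s.a = c (show SGA7.Pts kb G from p.1.1) ∧ s.pt ≫ A.1.φ = p.1.2 := fun p =>
    exists_obj_kb (fun E hd hg => singleton_mem_etale E hd hg) _ (hclc _) (hcco _) _
      (fix _ (hclc _) (hcco _) _ (by rw [hcπ]; exact p.2))
  choose A s hsa hsx using hobj
  have hlft : ∀ B : (QuotSt Scheme.etalePrecoverage G aX).p.Fiber (SGA7.pt (K := k) k),
      LocallyOfFiniteType B.1.P.hom := fun B => lft_etale inferInstance B
  have hom : ∀ p p' : Pairs kb aX, Nonempty ((A p ⟶ A p') ≃ {g : SGA7.Pts kb G // g • p' = p}) := fun p p' => by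
    obtain ⟨e, -⟩ := exists_homEquiv_kb (hlft (A p)) (hlft (A p')) (s p) (s p')
    refine ⟨e.trans (Equiv.subtypeEquivRight fun g => ?_)⟩
    rw [hsa, hsa, hsx, hsx]
    constructor
    · rintro ⟨h₁, h₂⟩
      refine Pairs.ext aX ?_ h₁
      have := h₂ π₀
      rw [hcπ, hcπ] at this
      show (show SGA7.Pts kb G from (g • p').1.1) = show SGA7.Pts kb G from p.1.1
      rw [Pairs.smul_fst]
      exact mul_inv_eq_iff_eq_mul.2 this
    · intro hg
      refine ⟨congrArg (fun q => q.1.2) hg, ext _ _ (hclc _) (hclc _) (hcco _) (hcco _) g ?_⟩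
      rw [hcπ, hcπ]
      exact mul_inv_eq_iff_eq_mul.1 (congrArg (fun q => (show SGA7.Pts kb G from q.1.1)) hg)
  let ψ : MulAction.orbitRel.Quotient (SGA7.Pts kb G) (Pairs kb aX) →
      StkCnt.IsoCl (StkCnt.pts (QuotSt Scheme.etalePrecoverage G aX) k) := fun q =>
    Quotient.liftOn' q (fun p => StkCnt.IsoCl.mk (A p)) fun p p' hp => by
      obtain ⟨g, hg⟩ := MulAction.orbitRel_apply.1 hp
      have := isIso_fibHom ((hom p p').some.symm ⟨g, hg⟩)
      exact Quotient.sound ⟨asIso ((hom p p').some.symm ⟨g, hg⟩)⟩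
  have hψ : Function.Bijective ψ := by
    constructor
    · rintro ⟨p⟩ ⟨p'⟩ hq
      obtain ⟨i⟩ := Quotient.exact hq
      exact Quotient.sound' (MulAction.orbitRel_apply.2 ⟨_, ((hom p p').some i.hom).2⟩)
    · rintro ⟨B⟩
      obtain ⟨sB⟩ := exists_kpt_etale kb B
      have hx : lift (sB.a π₀) (sB.pt ≫ B.1.φ) ≫ aX.act = π₀ • (sB.pt ≫ B.1.φ) := by
        rw [← lift_whiskerLeft_assoc, ← B.1.eqv, reassoc_of% (sB.ha π₀)]
        rfl
      let p : Pairs kb aX := ⟨(sB.a π₀, sB.pt ≫ B.1.φ), hx⟩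
      obtain ⟨e, -⟩ := exists_homEquiv_kb (hlft (A p)) (hlft B) (s p) sB
      let f := e.symm ⟨1, by rw [hsx, lift_one_act], by
        rw [hsa]
        exact ext _ _ (hclc _) (sB.isLocallyConstant (hlft B)) (hcco _) (fun σ τ => sB.cocycle σ τ) 1
          (by rw [hcπ, smul_one, _root_.one_mul, _root_.mul_one])⟩
      have := isIso_fibHom f
      exact ⟨Quotient.mk'' p, Quotient.sound ⟨asIso f⟩⟩
  let e₀ : ∀ p, Aut (A p) ≃ MulAction.stabilizer (SGA7.Pts kb G) p := fun p =>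
    Equiv.trans
      { toFun := fun i => i.hom
        invFun := fun f => haveI := isIso_fibHom f; asIso f
        left_inv := fun i => Iso.ext rfl
        right_inv := fun f => rfl } (hom p p).some
  have := h.finite_isoCl
  refine ⟨Finite.of_equiv _ (Equiv.ofBijective ψ hψ).symm, fun p => ?_, ?_⟩
  · have := h.finite_aut (A p)
    exact Finite.of_equiv _ (e₀ p)
  · have := Fintype.ofFinite (StkCnt.IsoCl (StkCnt.pts (QuotSt Scheme.etalePrecoverage G aX) k))
    show _ = StkCnt.count _ h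
    rw [StkCnt.count_eq_sum h, ← finsum_eq_sum_of_fintype, ← finsum_comp_equiv (Equiv.ofBijective ψ hψ)]
    refine finsum_congr fun q => ?_
    have hq : ψ q = StkCnt.IsoCl.mk (A q.out) := congrArg ψ (Quotient.out_eq' q).symm
    rw [Equiv.ofBijective_apply, hq, StkCnt.autCard_mk, Nat.card_congr (e₀ _)]

end Groth.StackCount
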