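import Groth.Agent.S7957
import Groth.Agent.URad.Unip
import Groth.Agent.AlgGrp1.AffineCrit
import Groth.Agent.AlgGrp1.Sub
import Groth.Agent.GrpschAbsch.NeutralSet
import Groth.Agent.NeronArea.FieldComponents
import Groth.Agent.SGA7.ComponentGroup

/-!
# Points of groups without subtori: a finite-index subgroup without torsion prime to the characteristic
-/

set_option autoImplicit false
set_option backward.isDefEq.respectTransparency false
set_option backward.isDefEq.respectTransparency.types false

universe u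

open CategoryTheory CategoryTheory.Limits MonoidalCategory CartesianMonoidalCategory MonObj GrpObj AlgebraicGeometry
open Opposite
open scoped TensorProduct
open Groth.NeronArea.FieldComponents (pp neutral mem_neutral_iff rel_iff Rel)

noncomputable section

namespace Groth.StackCount.Unipotent

variable {K : Type u} [Field K]

theorem hasNoSubtorus_of_mono {A B : Over (Spec (CommRingCat.of K))} [GrpObj A] [GrpObj B] (f : A ⟶ B)
    [IsMonHom f] [Mono f] (h : Red.HasNoSubtorus K B) : Red.HasNoSubtorus K A := fun T _ j _ _ hT =>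
  h T (j ≫ f) hT

/-- The neutral points have finite index. -/
theorem finiteIndex_neutral (G : Over (Spec (CommRingCat.of K))) [GrpObj G] [LocallyOfFiniteType G.hom]
    [QuasiCompact G.hom] : (neutral G).FiniteIndex := by
  have := Groth.SGA7.ComponentGroup.noetherianSpace G
  have hfin := (Groth.SGA7.ComponentGroup.finite_components (Set.univ : Set G.left)).to_subtype
  have : Finite ((𝟙_ (Over (Spec (CommRingCat.of K))) ⟶ G) ⧸ neutral G) := by
    refine Finite.of_injective (fun q => (⟨connectedComponentIn Set.univ (pp q.out⁻¹),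
      Set.mem_image_of_mem _ (Set.mem_univ _)⟩ : ↥(connectedComponentIn (Set.univ : Set G.left) '' Set.univ))) ?_
    intro a b hab
    have hC : connectedComponent (pp a.out⁻¹) = connectedComponent (pp b.out⁻¹) := by
      simpa only [connectedComponentIn_univ, Subtype.mk.injEq] using hab
    have hr : Rel a.out⁻¹ b.out⁻¹ := by
      show pp _ ∈ connectedComponent (pp _)
      rw [hC]
      exact mem_connectedComponent
    rw [rel_iff, _root_.inv_inv] at hr
    rw [← QuotientGroup.out_eq' a, ← QuotientGroup.out_eq' b, QuotientGroup.eq]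
    have := (neutral G).inv_mem hr
    rwa [_root_.mul_inv_rev, _root_.inv_inv] at this
  exact Subgroup.finiteIndex_of_finite_quotient

/-- Points of a smooth connected affine group without subtori have no torsion prime to the characteristic. -/
theorem eq_one_of_pow_eq_one [IsAlgClosed K] (H : Over (Spec (CommRingCat.of K))) [GrpObj H] [IsAffine H.left]
    [Smooth H.hom] [ConnectedSpace H.left] (hH : Red.HasNoSubtorus K H) {m : ℕ} (hm : ¬ ringChar K ∣ m)
    (w : 𝟙_ (Over (Spec (CommRingCat.of K))) ⟶ H) (hw : w ^ m = 1) : w = 1 := by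
  obtain ⟨A, _, _, _, e, he, hA⟩ := Groth.URad.isUnip_of_hasNoSubtorus H hH
  let u : CoactBr.sp K K ≅ 𝟙_ (Over (Spec (CommRingCat.of K))) :=
    Over.isoMk (Iso.refl _) (by
      show 𝟙 _ ≫ 𝟙 _ = Spec.map (CommRingCat.ofHom (algebraMap K K))
      rw [Category.id_comp]
      exact (Spec.map_id _).symm)
  let θ : WithConv (A →ₐ[K] K) →* (CoactBr.sp K K ⟶ H) :=
    MonoidHom.mk' (fun a => CoactBr.pt a.ofConv ≫ e.hom) fun a b => by
      have h1 : CoactBr.pt (a * b).ofConv = CoactBr.pt a.ofConv * CoactBr.pt b.ofConv := by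
        rw [CoactBr.pt_mul_pt]
        congr 1
        exact AlgHom.ext fun x => by rw [AlgHom.convMul_apply]; rfl
      rw [h1]
      exact MonObj.mul_comp _ _ e.hom
  have hθi : Function.Injective θ := fun a b h => WithConv.ofConv_injective (CoactBr.pt_injective (by
    rw [← cancel_mono e.hom]; exact h))
  obtain ⟨φ, hφ⟩ := Groth.AlgGrp2.pt_surjective (u.hom ≫ w ≫ e.inv)
  have hθ : θ (WithConv.toConv φ) = u.hom ≫ w := by
    show CoactBr.pt φ ≫ e.hom = _
    rw [hφ, Category.assoc, Category.assoc, e.inv_hom_id, Category.comp_id]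
  have ha : (WithConv.toConv φ : WithConv (A →ₐ[K] K)) ^ m = 1 := hθi (by
    rw [map_pow, hθ, map_one]
    let P : (𝟙_ (Over (Spec (CommRingCat.of K))) ⟶ H) →* (CoactBr.sp K K ⟶ H) :=
      MonoidHom.mk' (fun x => u.hom ≫ x) fun x y => MonObj.comp_mul _ _ _
    show P w ^ m = 1
    rw [← map_pow, hw, map_one])
  have h1 : (WithConv.toConv φ : WithConv (A →ₐ[K] K)) = 1 :=
    (Groth.Agent.S7957.result K A hA m hm).1 (ha.trans (one_pow m).symm)
  have h2 : u.hom ≫ w = u.hom ≫ (1 : _ ⟶ H) := by
    rw [← hθ, h1, map_one, MonObj.comp_one]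
  exact (cancel_epi u.hom).1 h2

/-- A finite-index subgroup of points without torsion prime to the characteristic. -/
theorem exists_finiteIndex [IsAlgClosed K] (Z : Over (Spec (CommRingCat.of K))) [GrpObj Z] [IsAffine Z.left]
    [LocallyOfFiniteType Z.hom] (hZ : Red.HasNoSubtorus K Z) :
    ∃ W : Subgroup (𝟙_ (Over (Spec (CommRingCat.of K))) ⟶ Z), W.FiniteIndex ∧
      ∀ w ∈ W, ∀ m : ℕ, ¬ ringChar K ∣ m → w ^ m = 1 → w = 1 := by
  have : IsAffineHom Z.hom := isAffineHom_of_isAffine Z.hom
  obtain ⟨R, _, c, _, _, _, _, _⟩ := Groth.AlgGrp1.exists_reduced_subgroup Z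
  have : Mono c := Over.mono_of_mono_left c
  have : IsAffine R.left := isAffine_of_isAffineHom c.left
  obtain ⟨R₀, _, i, _, _, hr, _⟩ := Groth.GrpschAbsch.NeutralSet.exists_neutral_openSubgroup R
  have : Mono i := Over.mono_of_mono_left i
  have : IsClosedImmersion i.left := IsClosedImmersion.of_isPreimmersion i.left (hr ▸ isClosed_connectedComponent)
  have : IsAffine R₀.left := isAffine_of_isAffineHom i.left
  have : Smooth R₀.hom := by rw [← Over.w i]; infer_instance
  have hno : Red.HasNoSubtorus K R₀ := hasNoSubtorus_of_mono (i ≫ c) hZ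
  let fc : (𝟙_ (Over (Spec (CommRingCat.of K))) ⟶ R) →* (𝟙_ (Over (Spec (CommRingCat.of K))) ⟶ Z) :=
    MonoidHom.mk' (· ≫ c) fun a b => MonObj.mul_comp a b c
  let fi : (𝟙_ (Over (Spec (CommRingCat.of K))) ⟶ R₀) →* (𝟙_ (Over (Spec (CommRingCat.of K))) ⟶ R) :=
    MonoidHom.mk' (· ≫ i) fun a b => MonObj.mul_comp a b i
  have : IsReduced (𝟙_ (Over (Spec (CommRingCat.of K)))).left :=
    inferInstanceAs (IsReduced (Spec (CommRingCat.of K)))
  have hfc : Function.Surjective fc := fun z =>
    Groth.AlgGrp1.exists_factor_of_range_subset c z (by rw [c.left.surjective.range_eq]; exact Set.subset_univ _)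
  refine ⟨(neutral R).map fc, ⟨?_⟩, ?_⟩
  · have := finiteIndex_neutral R
    exact fun h0 => this.index_ne_zero (Nat.eq_zero_of_zero_dvd (h0 ▸ Subgroup.index_map_dvd _ hfc))
  · rintro _ ⟨x, hx, rfl⟩ m hm hxm
    rw [SetLike.mem_coe, mem_neutral_iff] at hx
    obtain ⟨y, rfl⟩ : ∃ y, fi y = x := by
      have hrange : Set.range x.left ⊆ Set.range i.left := by
        rintro _ ⟨t, rfl⟩
        rw [show t = IsLocalRing.closedPoint K from Subsingleton.elim (α := ↥(Spec (CommRingCat.of K))) _ _, hr]
        exact hx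
      refine ⟨Over.homMk (IsOpenImmersion.lift i.left x.left hrange) ?_,
        Over.OverMorphism.ext (IsOpenImmersion.lift_fac _ _ _)⟩
      rw [← Over.w i, IsOpenImmersion.lift_fac_assoc, Over.w x]
    have hy : fi y ^ m = 1 := by
      have h1 : fc (fi y ^ m) = fc 1 := by rw [map_pow, hxm, map_one]
      exact (cancel_mono c).1 h1
    have hy2 : y ^ m = 1 := (cancel_mono i).1 (show fi (y ^ m) = fi 1 by rw [map_pow, hy, map_one])
    rw [eq_one_of_pow_eq_one R₀ hno hm y hy2, map_one, map_one]

end Groth.StackCount.Unipotent
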