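import Groth.Agent.StackCount.LinGroup
import Groth.Agent.StackCount.Unipotent
import Groth.Agent.StackCount.PairCount

/-!
# Masses of twisted Frobenius stable subgroups of geometric points without subtori
-/

set_option autoImplicit false
set_option backward.isDefEq.respectTransparency false
set_option backward.isDefEq.respectTransparency.types false

universe u

open CategoryTheory CategoryTheory.Limits MonoidalCategory CartesianMonoidalCategory MonObj GrpObj AlgebraicGeometry

noncomputable section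

namespace Groth.StackCount

variable {k : Type u} [Field k] [Finite k] {kb : Type u} [Field kb] [Algebra k kb] [Algebra.IsAlgebraic k kb]

variable (k) in
include k in
/-- Invertible matrices over an algebraic extension of a finite field have finite order. -/
theorem exists_pow_eq_one {N : ℕ} (x : GL (Fin N) kb) : ∃ n, 0 < n ∧ x ^ n = 1 := by
  classical
  let E := IntermediateField.adjoin k (Set.range (UniTri.entries x))
  have : FiniteDimensional k E := by
    have := (Set.finite_range (UniTri.entries x)).to_subtype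
    exact IntermediateField.finiteDimensional_adjoin fun y _ => Algebra.IsIntegral.isIntegral y
  have : Finite E := Module.finite_of_finite k
  have hmem : ∀ (n : ℕ) (i j : Fin N), (x.1 ^ n) i j ∈ E := by
    intro n
    induction n with
    | zero =>
      intro i j
      rw [pow_zero, Matrix.one_apply]
      split_ifs
      · exact E.one_mem
      · exact E.zero_mem
    | succ n ih =>
      intro i j
      rw [pow_succ, Matrix.mul_apply]
      exact sum_mem fun l _ => E.mul_mem (ih i l) (IntermediateField.subset_adjoin k _ ⟨(l, j), rfl⟩)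
  obtain ⟨a, b, hab, h⟩ := Finite.exists_ne_map_eq_of_infinite
    (fun n : ℕ => fun i j => (⟨(x.1 ^ n) i j, hmem n i j⟩ : E))
  have he : x ^ a = x ^ b := Units.ext (Matrix.ext fun i j => by
    rw [Units.val_pow_eq_pow_val, Units.val_pow_eq_pow_val]
    exact congrArg Subtype.val (congrFun (congrFun h i) j))
  rcases Nat.lt_or_gt_of_ne hab with hlt | hlt
  · exact ⟨b - a, Nat.sub_pos_of_lt hlt, by rw [pow_sub x hlt.le, he, mul_inv_cancel]⟩
  · exact ⟨a - b, Nat.sub_pos_of_lt hlt, by rw [pow_sub x hlt.le, he, mul_inv_cancel]⟩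

variable [IsAlgClosed kb] {G : Over (Spec (CommRingCat.of k))} [GrpObj G]
  [LocallyOfFiniteType G.hom] [IsAffineHom G.hom]

/-- The mass of a twisted Frobenius stable closed subgroup without subtori. -/
theorem exists_mass_subPts {Z : Over (Spec (CommRingCat.of kb))} [GrpObj Z]
    (s : Z ⟶ GalTw.bcK kb G) [IsMonHom s] [IsClosedImmersion s.left] (hZ : Red.HasNoSubtorus kb Z)
    (d : ℕ) (hd : topologicalKrullDim ↥Z.left = (d : WithBot ℕ∞)) (g : SGA7.Pts kb G)
    (τ : subPts s →* subPts s) (hτ : ∀ x, (τ x).1 = g * frobHom kb G x.1 * g⁻¹) :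
    Mass.HasMass (subPts s) (TwConj τ) ((Nat.card k : ℚ) ^ d)⁻¹ := by
  classical
  let := Fintype.ofFinite k
  obtain ⟨p, _, r, hp, hcard⟩ := FiniteField.card' k
  have : Fact p.Prime := ⟨hp⟩
  have : CharP kb p := charP_of_injective_algebraMap (algebraMap k kb).injective p
  have : IsAffine G.left := isAffine_of_isAffineHom G.hom
  have : IsAffineHom (GalTw.bcK kb G).hom :=
    inferInstanceAs (IsAffineHom (pullback.snd G.hom (SGA7.pt (K := k) kb).hom))
  have : IsAffine (GalTw.bcK kb G).left := isAffine_of_isAffineHom (GalTw.bcK kb G).hom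
  have : IsAffine Z.left := isAffine_of_isAffineHom s.left
  have : LocallyOfFiniteType (GalTw.bcK kb G).hom :=
    inferInstanceAs (LocallyOfFiniteType (pullback.snd G.hom (SGA7.pt (K := k) kb).hom))
  have : LocallyOfFiniteType Z.hom := by rw [← Over.w s]; infer_instance
  have : Mono s := Over.mono_of_mono_left s
  obtain ⟨n, ρ, hρ, hfr, hclosed⟩ := exists_linRep (kb := kb) G
  obtain ⟨⟨I, hI⟩, B, _, _, _, ⟨pr⟩, hB⟩ := hclosed Z s
  let S := subPts s
  let S' : Subgroup (GL (Fin n) kb) := S.map ρ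
  let E : S ≃* S' := S.equivMapOfInjective ρ hρ
  have hcl : UniTri.IsClosedSG S' := ⟨I, hI⟩
  -- the subgroup of exponent a power of the characteristic
  obtain ⟨W₀, _, hW₀⟩ := Unipotent.exists_finiteIndex Z hZ
  let Θ : (𝟙_ (Over (Spec (CommRingCat.of kb))) ⟶ Z) →* S :=
    MonoidHom.mk' (fun z => ⟨undPt (z ≫ s), z, ((secEquiv G).right_inv (z ≫ s)).symm⟩) fun a b => Subtype.ext (by
      show undPt ((a * b) ≫ s) = undPt (a ≫ s) * undPt (b ≫ s)
      rw [MonObj.mul_comp a b s, undPt_mul])
  have hΘs : Function.Surjective Θ := fun x => by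
    obtain ⟨z, hz⟩ := x.2
    exact ⟨z, Subtype.ext ((congrArg undPt hz).trans ((secEquiv G).left_inv x.1))⟩
  have hΘi : Function.Injective Θ := fun a b h =>
    (cancel_mono s).1 ((secEquiv G).symm.injective (congrArg Subtype.val h))
  let Φ := E.toMonoidHom.comp Θ
  let W : Subgroup S' := W₀.map Φ
  have : W.FiniteIndex := ⟨fun h0 => (‹W₀.FiniteIndex›).index_ne_zero
    (Nat.eq_zero_of_zero_dvd (h0 ▸ Subgroup.index_map_dvd _ (E.surjective.comp hΘs)))⟩
  have hW : ∀ x ∈ W, x ^ p ^ n = 1 := by
    rintro _ ⟨z, hz, rfl⟩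
    obtain ⟨m, hm, hxm⟩ := exists_pow_eq_one k (Φ z).1
    obtain ⟨a, m', hm', rfl⟩ := Nat.exists_eq_pow_mul_and_not_dvd hm.ne' p hp.ne_one
    have h1 : z ^ p ^ a = 1 := by
      refine hW₀ _ (W₀.pow_mem hz _) m' (by rw [ringChar.eq kb p]; exact hm') ?_
      refine (E.injective.comp hΘi : Function.Injective Φ) (Subtype.ext ?_)
      show (Φ ((z ^ p ^ a) ^ m')).1 = (Φ 1).1
      rw [← pow_mul, map_pow, map_one, SubmonoidClass.coe_pow, hxm]
      rfl
    refine Subtype.ext (UniTri.pow_eq_one_of_pow_eq_one (a := a) ?_)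
    rw [← SubmonoidClass.coe_pow, ← map_pow, h1, map_one]
    rfl
  -- the twisted Frobenius
  have hF : ∀ x : SGA7.Pts kb G, ρ (frobHom kb G x) = UniTri.frGL k kb n (ρ x) := fun x =>
    Units.ext (Matrix.ext fun i j => by
      rw [frobHom_apply, hfr, UniTri.frGL_apply, frobAut_apply])
  let τ' : S' →* S' := (E.toMonoidHom.comp τ).comp E.symm.toMonoidHom
  have hτ' : ∀ y, (τ' y).1 = ρ g * UniTri.frGL k kb n y.1 * (ρ g)⁻¹ := fun y => by
    have hy : ρ (E.symm y).1 = y.1 := congrArg Subtype.val (E.apply_symm_apply y)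
    show ρ (τ (E.symm y)).1 = _
    rw [hτ, map_mul, map_mul, map_inv, hF, hy]
  have hst : ∀ x ∈ S', ρ g * UniTri.frGL k kb n x * (ρ g)⁻¹ ∈ S' := fun x hx => by
    rw [← hτ' ⟨x, hx⟩]
    exact (τ' ⟨x, hx⟩).2
  obtain ⟨d', hmass, hdim⟩ := UniTri.exists_mass (k := k) hcl W hW (ρ g) hst
  have hdd : d' = d := by
    have h1 := (hdim B pr).symm.trans (hB.trans hd)
    exact_mod_cast h1
  subst hdd
  refine (Mass.hasMass_iff_of_equiv (P := TwConj τ') (P' := TwConj τ)
    (fun a => (E (show S from a) : S')) E.toMonoidHom E.injective (fun h a => ?_)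
    (fun a => ⟨1, E.symm (show S' from a), ?_⟩) (fun a₁ a₂ h hh => ⟨E.symm h, ?_, E.apply_symm_apply h⟩)).2
    (hmass τ' hτ')
  · show E (τ h * _ * h⁻¹) = E (τ (E.symm (E h))) * _ * (E h)⁻¹
    rw [map_mul, map_mul, map_inv, E.symm_apply_apply]
  · rw [one_smul]
    exact E.apply_symm_apply _
  · refine E.injective (Eq.trans ?_ hh)
    show E (τ (E.symm h) * _ * (E.symm h)⁻¹) = E (τ (E.symm h)) * _ * h⁻¹
    rw [map_mul, map_mul, map_inv, E.apply_symm_apply]

end Groth.StackCount
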