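import Groth.Agent.StackCount.LinGroup

/-!
# Stabilisers of geometric points given by their points
-/

set_option autoImplicit false
set_option backward.isDefEq.respectTransparency false
set_option backward.isDefEq.respectTransparency.types false

universe u

open CategoryTheory CategoryTheory.Limits MonoidalCategory CartesianMonoidalCategory MonObj GrpObj AlgebraicGeometry

noncomputable section

namespace Groth.StackCount

variable {k : Type u} [Field k] {kb : Type u} [Field kb] [Algebra k kb]
  {G : Over (Spec (CommRingCat.of k))} [GrpObj G] {X : Over (Spec (CommRingCat.of k))}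
  (aX : AlgGrp.Action G X) (x : SGA7.Pts kb X)

/-- `T`-valued points of `G_kb` factor through `s` exactly when they fix `x`. -/
def IsStab {S : Over (Spec (CommRingCat.of kb))} (s : S ⟶ GalTw.bcK kb G) : Prop :=
  ∀ (T : Over (Spec (CommRingCat.of kb))) (g : (Over.map (SGA7.pt (K := k) kb).hom).obj T ⟶ G),
    (∃ g' : T ⟶ S, g' ≫ s = (Over.mapPullbackAdj (SGA7.pt (K := k) kb).hom).homEquiv T G g) ↔
      lift g ((Over.homMk T.hom rfl : (Over.map (SGA7.pt (K := k) kb).hom).obj T ⟶ SGA7.pt (K := k) kb) ≫ x)
          ≫ aX.act =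
        (Over.homMk T.hom rfl : (Over.map (SGA7.pt (K := k) kb).hom).obj T ⟶ SGA7.pt (K := k) kb) ≫ x

theorem homEquiv_left {Y : Over (Spec (CommRingCat.of k))} (T : Over (Spec (CommRingCat.of kb)))
    (g : (Over.map (SGA7.pt (K := k) kb).hom).obj T ⟶ Y) :
    ((Over.mapPullbackAdj (SGA7.pt (K := k) kb).hom).homEquiv T Y g).left =
      pullback.lift g.left T.hom (Over.w g) := by
  simp only [Over.mapPullbackAdj, Adjunction.mkOfHomEquiv_homEquiv, Equiv.coe_fn_mk, Over.homMk_left]
  rfl

variable {aX x}

/-- The geometric points of a stabiliser. -/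
theorem IsStab.mem_subPts_iff {S : Over (Spec (CommRingCat.of kb))} [GrpObj S] {s : S ⟶ GalTw.bcK kb G} [IsMonHom s]
    (hs : IsStab aX x s) (g : SGA7.Pts kb G) : g ∈ subPts s ↔ lift g x ≫ aX.act = x := by
  let T : Over (Spec (CommRingCat.of kb)) := 𝟙_ _
  let q : (Over.map (SGA7.pt (K := k) kb).hom).obj T ⟶ SGA7.pt (K := k) kb := Over.homMk T.hom rfl
  have hq : q.left = 𝟙 _ := rfl
  have : IsIso q := by
    have : IsIso ((Over.forget _).map q) := by show IsIso q.left; rw [hq]; infer_instance
    exact isIso_of_reflects_iso q (Over.forget _)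
  have h := hs T (q ≫ g)
  have e : (Over.mapPullbackAdj (SGA7.pt (K := k) kb).hom).homEquiv T G (q ≫ g) = GalTw.secOfPt kb g := by
    apply Over.OverMorphism.ext
    rw [homEquiv_left, GalTw.secOfPt_left]
    apply pullback.hom_ext
    · exact (pullback.lift_fst _ _ _).trans ((Category.id_comp _).trans (pullback.lift_fst _ _ _).symm)
    · exact (pullback.lift_snd _ _ _).trans (pullback.lift_snd _ _ _).symm
  rw [e, ← comp_lift, Category.assoc, cancel_epi q] at h
  exact h

/-- A stabiliser is a closed subscheme. -/
theorem IsStab.isClosedImmersion {S : Over (Spec (CommRingCat.of kb))} {s : S ⟶ GalTw.bcK kb G} [Mono s]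
    (hs : IsStab aX x s) : IsClosedImmersion s.left := by
  let pk := SGA7.pt (K := k) kb
  let o : G ⊗ pk ⟶ X ⊗ pk := lift (lift (fst G pk) (snd G pk ≫ x) ≫ aX.act) (snd G pk)
  let sx : pk ⟶ X ⊗ pk := lift x (𝟙 pk)
  have hsx : sx.left ≫ (snd X pk).left = 𝟙 pk.left := by
    rw [← Over.comp_left, lift_snd]
    rfl
  have : Subsingleton pk.left := inferInstanceAs (Subsingleton (Spec (CommRingCat.of kb)))
  have : IsClosedImmersion sx.left := isClosedImmersion_of_comp_eq_id (snd X pk).left sx.left hsx
  let P := pullback o.left sx.left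
  let j : P ⟶ (G ⊗ pk).left := pullback.fst o.left sx.left
  have : IsClosedImmersion j := inferInstanceAs (IsClosedImmersion (pullback.fst o.left sx.left))
  have : Mono j := inferInstance
  let T : Over (Spec (CommRingCat.of kb)) := Over.mk (j ≫ (snd G pk).left)
  let u : (Over.map pk.hom).obj T ⟶ G := Over.homMk (j ≫ (fst G pk).left) (by
    show (j ≫ (fst G pk).left) ≫ G.hom = (j ≫ (snd G pk).left) ≫ pk.hom
    rw [Category.assoc, Category.assoc, Over.w, Over.w])
  let q : (Over.map pk.hom).obj T ⟶ pk := Over.homMk T.hom rfl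
  have hl : (lift u q).left = j := by
    apply pullback.hom_ext
    · exact congrArg Over.Hom.left (lift_fst u q)
    · exact congrArg Over.Hom.left (lift_snd u q)
  have hcond : lift u (q ≫ x) ≫ aX.act = q ≫ x := by
    have h1 : (lift u q ≫ o).left = (q ≫ sx).left := by
      rw [Over.comp_left, Over.comp_left, hl]
      show j ≫ o.left = (j ≫ (snd G pk).left) ≫ sx.left
      have h0 : j ≫ o.left = pullback.snd o.left sx.left ≫ sx.left := pullback.condition
      have h2 := congrArg (· ≫ (snd X pk).left) h0
      simp only [Category.assoc, hsx, Category.comp_id] at h2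
      rw [← Over.comp_left, lift_snd] at h2
      rw [h2]
      exact h0
    have h3 := congrArg (· ≫ fst X pk) (Over.OverMorphism.ext h1)
    simpa [o, sx, comp_lift_assoc] using h3
  obtain ⟨g', hg'⟩ := (hs T u).2 hcond
  have hb : g'.left ≫ s.left = j := by
    rw [← Over.comp_left, hg', homEquiv_left]
    apply pullback.hom_ext
    · rw [pullback.lift_fst]; rfl
    · rw [pullback.lift_snd]; rfl
  -- the universal point satisfies the equation
  let u' := ((Over.mapPullbackAdj pk.hom).homEquiv S G).symm s
  have hu' : (Over.mapPullbackAdj pk.hom).homEquiv S G u' = s := Equiv.apply_symm_apply _ _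
  let q' : (Over.map pk.hom).obj S ⟶ pk := Over.homMk S.hom rfl
  have hcond' : lift u' (q' ≫ x) ≫ aX.act = q' ≫ x := (hs S u').1 ⟨𝟙 S, by rw [Category.id_comp, hu']⟩
  have hl' : (lift u' q').left = s.left := by
    have h1 := congrArg Over.Hom.left hu'
    rw [homEquiv_left] at h1
    rw [← h1]
    apply pullback.hom_ext
    · exact (congrArg Over.Hom.left (lift_fst u' q')).trans (pullback.lift_fst _ _ _).symm
    · exact (congrArg Over.Hom.left (lift_snd u' q')).trans (pullback.lift_snd _ _ _).symm
  have ha' : lift u' q' ≫ o = q' ≫ sx := by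
    apply CartesianMonoidalCategory.hom_ext
    · simpa [o, sx, comp_lift_assoc] using hcond'
    · simp [o, sx]
  let a : S.left ⟶ P := pullback.lift s.left q'.left (by
    have h1 := congrArg Over.Hom.left ha'
    rw [Over.comp_left, Over.comp_left, hl'] at h1
    exact h1)
  have haj : a ≫ j = s.left := pullback.lift_fst _ _ _
  have h₁ : a ≫ g'.left = 𝟙 _ := by
    rw [← cancel_mono s.left, Category.assoc, hb, haj, Category.id_comp]
  have h₂ : g'.left ≫ a = 𝟙 _ := by
    rw [← cancel_mono j, Category.assoc, haj]
    exact hb.trans (Category.id_comp j).symm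
  have : IsIso a := ⟨g'.left, h₁, h₂⟩
  rw [← haj]
  infer_instance

end Groth.StackCount
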