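import Groth.Agent.StackCount.FinIndex
import Groth.Agent.StackCount.Classify

/-!
# Pairs on a product, twisted points of a variety with a connected symmetry group, points of affine spaces
-/

set_option autoImplicit false
set_option backward.isDefEq.respectTransparency false
set_option backward.isDefEq.respectTransparency.types false

universe u

open CategoryTheory CategoryTheory.Limits MonoidalCategory CartesianMonoidalCategory MonObj GrpObj AlgebraicGeometry
open AlgSt Groth.AlgGrp2

noncomputable section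

namespace Groth.StackCount

variable {k : Type u} [Field k] {kb : Type u} [Field kb] [Algebra k kb]

/-- An isomorphism with an affine space counts the rational points. -/
theorem card_pts_affineSpace [Finite k] (V : Over (Spec (CommRingCat.of k))) (n : ℕ)
    (eV : V.left ≅ 𝔸(ULift.{u} (Fin n); Spec (CommRingCat.of k)))
    (heV : eV.hom ≫ (𝔸(ULift.{u} (Fin n); Spec (CommRingCat.of k)) ↘ Spec (CommRingCat.of k)) = V.hom) :
    Nat.card (SGA7.Pts k V) = Nat.card k ^ n := by
  letI : (Spec (CommRingCat.of k)).Over (Spec (CommRingCat.of k)) := ⟨(SGA7.pt (K := k) k).hom⟩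
  let e₁ : SGA7.Pts k V ≃ {f : Spec (CommRingCat.of k) ⟶ 𝔸(ULift.{u} (Fin n); Spec (CommRingCat.of k)) //
      f.IsOver (Spec (CommRingCat.of k))} :=
    { toFun := fun x => ⟨x.left ≫ eV.hom, ⟨by
        rw [Category.assoc, heV]
        exact Over.w x⟩⟩
      invFun := fun f => Over.homMk (f.1 ≫ eV.inv) (by
        show (f.1 ≫ eV.inv) ≫ V.hom = _
        rw [← heV, Category.assoc, Iso.inv_hom_id_assoc]
        exact f.2.1)
      left_inv := fun x => Over.OverMorphism.ext (by simp)
      right_inv := fun f => Subtype.ext (by simp) }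
  rw [Nat.card_congr (e₁.trans ((AffineSpace.homOverEquiv (n := ULift.{u} (Fin n)) (Spec (CommRingCat.of k))).trans
    (Equiv.piCongrRight fun _ => (Scheme.ΓSpecIso (CommRingCat.of k)).commRingCatIsoToRingEquiv.toEquiv))),
    Nat.card_fun, Nat.card_eq_fintype_card (α := ULift.{u} (Fin n)), Fintype.card_ulift, Fintype.card_fin]

open Groth.Agf in
variable (kb) in
/-- A finite scheme has finitely many points in a field. -/
theorem finite_geomPts_of_isFinite (X : Over (Spec (CommRingCat.of k))) [IsFinite X.hom] :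
    Finite (SGA7.Pts kb X) := by
  have : IsAffine X.left := isAffine_of_isAffineHom X.hom
  have : Module.Finite k (Fn X) := by
    have h : X.hom.appTop.hom.Finite := X.hom.finite_appTop
    have h' : (constHom X).Finite :=
      h.comp (RingHom.Finite.of_surjective _
        (Scheme.ΓSpecIso (CommRingCat.of k)).commRingCatIsoToRingEquiv.symm.surjective)
    exact RingHom.finite_algebraMap.1 h'
  exact Finite.of_injective (evalPt (X := X) (B := kb)) fun g h e => pt_ext e

variable [Finite k] [Algebra.IsAlgebraic k kb] [IsGalois k kb] [IsAlgClosed kb]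

/-- A point fixed by the Frobenius is fixed by the Galois group. -/
theorem smul_eq_of_frob {X : Over (Spec (CommRingCat.of k))} [LocallyOfFiniteType X.hom] {x : SGA7.Pts kb X}
    (h : frobAut k kb • x = x) (σ : kb ≃ₐ[k] kb) : σ • x = x := by
  obtain ⟨S, hS⟩ := exists_finset_level (k' := k) x
  obtain ⟨E, _, _, _, hSE⟩ := exists_galois_level (k' := k) S
  obtain ⟨xE, hxE⟩ := hS E hSE
  obtain ⟨i, hi⟩ := FrobGen.exists_pow_agree (frobAut_apply k kb) E σ
  have hτ := (IntermediateField.mem_fixingSubgroup_iff _ _).1 hi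
  have hfix : ((frobAut k kb ^ i)⁻¹ * σ) • x = x := by
    show gs k ((frobAut k kb ^ i)⁻¹ * σ) ≫ x = x
    rw [← hxE, ← Category.assoc, gs_jot,
      show ((frobAut k kb ^ i)⁻¹ * σ).restrictNormal E = 1 from AlgEquiv.ext fun y => Subtype.ext
        ((((frobAut k kb ^ i)⁻¹ * σ).restrictNormal_commutes E y).trans (hτ y y.2)), gs_one, Category.comp_id]
  have hpow : ∀ i : ℕ, (frobAut k kb ^ i) • x = x := fun i => by
    induction i with
    | zero => rw [pow_zero, one_smul]
    | succ i ih => rw [pow_succ, mul_smul, h, ih]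
  rw [← mul_inv_cancel_left (frobAut k kb ^ i) σ, mul_smul, hfix, hpow]

/-- Rational points are the fixed points of the Frobenius. -/
theorem card_pts_eq_frob_fixed (X : Over (Spec (CommRingCat.of k))) [LocallyOfFiniteType X.hom] :
    Nat.card (SGA7.Pts k X) = Nat.card {x : SGA7.Pts kb X // frobAut k kb • x = x} := by
  rw [card_pts_eq_fixed (kb := kb)]
  exact Nat.card_congr (Equiv.subtypeEquivRight fun x => ⟨fun h => h _, fun h => smul_eq_of_frob h⟩)

/-- Twisting by a point of a connected group does not change the number of fixed points. -/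
theorem card_twisted_pts {C V : Over (Spec (CommRingCat.of k))} [GrpObj C] [Smooth C.hom] [QuasiCompact C.hom]
    [ConnectedSpace C.left] [LocallyOfFiniteType V.hom] (aV : AlgGrp.Action C V) (c : SGA7.Pts kb C) :
    Nat.card {v : SGA7.Pts kb V // lift c v ≫ aV.act = frobAut k kb • v} = Nat.card (SGA7.Pts k V) := by
  rw [card_pts_eq_frob_fixed (kb := kb) V]
  obtain ⟨x, hx⟩ := exists_lang_normal (kb := kb) (𝟙 C)
    (fun _ g m => ⟨g * m * g⁻¹, by rw [Category.comp_id, Category.comp_id]⟩) 1 c⁻¹
  simp only [Category.comp_id, _root_.one_mul, inv_one, _root_.mul_one] at hx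
  have hc : c = frobAut k kb • x * x⁻¹ := by
    rw [← _root_.inv_inv c, ← hx, _root_.mul_inv_rev, _root_.inv_inv]
  clear hx
  subst hc
  refine Nat.card_congr
    { toFun := fun v => ⟨lift x⁻¹ v.1 ≫ aV.act, ?_⟩
      invFun := fun w => ⟨lift x w.1 ≫ aV.act, ?_⟩
      left_inv := fun v => Subtype.ext ?_
      right_inv := fun w => Subtype.ext ?_ }
  · rw [smul_lift_act, ← v.2, ← lift_mul_act, smul_inv', ← _root_.mul_assoc, _root_.inv_mul_cancel, _root_.one_mul]
  · rw [smul_lift_act, w.2, ← lift_mul_act, _root_.inv_mul_cancel_right]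
  · show lift x (lift x⁻¹ v.1 ≫ aV.act) ≫ aV.act = v.1
    rw [← lift_mul_act, _root_.mul_inv_cancel, lift_one_act]
  · show lift x⁻¹ (lift x w.1 ≫ aV.act) ≫ aV.act = w.1
    rw [← lift_mul_act, _root_.inv_mul_cancel, lift_one_act]

variable {F E V : Over (Spec (CommRingCat.of k))} [GrpObj F] (aE : AlgGrp.Action F E) (aV : AlgGrp.Action F V)

variable (kb) in
/-- Pairs on a product of two spaces with actions. -/
def Pairs2 : Type u :=
  {p : Pairs kb aE × SGA7.Pts kb V // lift (show SGA7.Pts kb F from p.1.1.1) p.2 ≫ aV.act = frobAut k kb • p.2}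

instance : MulAction (SGA7.Pts kb F) (Pairs2 kb aE aV) where
  smul g p := ⟨(g • p.1.1, lift g p.1.2 ≫ aV.act), by
    show lift (frobHom kb F g * (show SGA7.Pts kb F from p.1.1.1.1) * g⁻¹) (lift g p.1.2 ≫ aV.act) ≫ aV.act =
      frobAut k kb • (lift g p.1.2 ≫ aV.act)
    rw [← lift_mul_act, _root_.inv_mul_cancel_right, lift_mul_act, p.2, smul_lift_act]
    rfl⟩
  one_smul p := Subtype.ext (Prod.ext (one_smul (SGA7.Pts kb F) p.1.1) (lift_one_act aV _))
  mul_smul g h p := Subtype.ext (Prod.ext (mul_smul g h p.1.1) (lift_mul_act aV g h _))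

theorem Pairs2.ext {p q : Pairs2 kb aE aV} (h₁ : p.1.1 = q.1.1) (h₂ : p.1.2 = q.1.2) : p = q :=
  Subtype.ext (Prod.ext h₁ h₂)

/-- The pairs on the first space. -/
def Pairs2.proj : Pairs2 kb aE aV →[SGA7.Pts kb F] Pairs kb aE := ⟨fun p => p.1.1, fun _ _ => rfl⟩

/-- The twisting point. -/
def Pairs2.fstHom : Pairs2 kb aE aV →[SGA7.Pts kb F] TwConj (frobHom kb F) := ⟨fun p => p.1.1.1.1, fun _ _ => rfl⟩

/-- The mass of the pairs on a product when all twists of the second space have the same number of points. -/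
theorem hasMass_pairs2 {M : ℚ} (hE : Mass.HasMass (SGA7.Pts kb F) (Pairs kb aE) M) (c : ℕ) (hc : c ≠ 0)
    (hV : ∀ a : SGA7.Pts kb F, Nat.card {v : SGA7.Pts kb V // lift a v ≫ aV.act = frobAut k kb • v} = c) :
    Mass.HasMass (SGA7.Pts kb F) (Pairs2 kb aE aV) (M * c) := by
  have := hE.1
  have hfin : ∀ q : Pairs kb aE, Finite (Mass.Fib (Pairs2.proj aE aV) q) ∧
      Nat.card (Mass.Fib (Pairs2.proj aE aV) q) = c := fun q => by
    let e : Mass.Fib (Pairs2.proj aE aV) q ≃
        {v : SGA7.Pts kb V // lift (show SGA7.Pts kb F from q.1.1) v ≫ aV.act = frobAut k kb • v} :=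
      { toFun := fun x => ⟨x.1.1.2, by have h := x.1.2; rw [show x.1.1.1 = q from x.2] at h; exact h⟩
        invFun := fun v => ⟨⟨(q, v.1), v.2⟩, rfl⟩
        left_inv := fun x => Subtype.ext (Pairs2.ext aE aV x.2.symm rfl)
        right_inv := fun _ => rfl }
    have h1 : Nat.card (Mass.Fib (Pairs2.proj aE aV) q) = c := (Nat.card_congr e).trans (hV _)
    exact ⟨Nat.finite_of_card_ne_zero (by rw [h1]; exact hc), h1⟩
  have key := Mass.hasMass_of_fibres (Pairs2.proj aE aV)
    (fun q => ((c : ℕ) : ℚ) * (Nat.card (MulAction.stabilizer (SGA7.Pts kb F) q.out) : ℚ)⁻¹) fun q => by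
      have := hE.2.1 q.out
      have := (hfin q.out).1
      have h := Mass.hasMass_finite (MulAction.stabilizer (SGA7.Pts kb F) q.out)
        (Mass.Fib (Pairs2.proj aE aV) q.out)
      rwa [(hfin q.out).2, div_eq_mul_inv] at h
  rwa [← mul_finsum, hE.2.2, mul_comm] at key

end Groth.StackCount
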