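import Groth.Agent.Agf.UnramifiedDominant
import Mathlib.AlgebraicGeometry.Morphisms.FormallyUnramified
import Mathlib.AlgebraicGeometry.AlgClosed.Basic
import Mathlib.AlgebraicGeometry.FunctionField

/-!
Formally unramified endomorphisms of an integral scheme of finite type over a field are dominant,
and two of them have images sharing a rational point when the field is algebraically closed.
-/

set_option autoImplicit false

universe u

open CategoryTheory CategoryTheory.Limits AlgebraicGeometry TopologicalSpace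

noncomputable section

namespace Groth.StackCount

section Algebra

variable {K : Type u} [Field K] {A : Type u} [CommRing A] [IsDomain A] [Algebra K A] [Algebra.FiniteType K A]
  {B : Type u} [CommRing B] [IsDomain B] [Algebra K B] [Algebra.FiniteType K B] [Algebra A B]
  [IsScalarTower K A B] [Algebra.IsAlgebraic A B] [FaithfulSMul A B]

/-- A formally unramified map from a domain to a birational one is injective. -/
theorem injective_of_formallyUnramified_of_algebraic (φ : A →ₐ[K] B)
    (h : φ.toRingHom.FormallyUnramified) : Function.Injective φ := by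
  let R := φ.range
  have hR : Algebra.FormallyUnramified R B := by
    rw [← RingHom.formallyUnramified_algebraMap]
    exact RingHom.FormallyUnramified.of_comp (f := φ.rangeRestrict.toRingHom) h
  have := Groth.Agf.isAlgebraic_of_formallyUnramified R
  have : Algebra.FiniteType K R := Algebra.FiniteType.of_surjective φ.rangeRestrict φ.rangeRestrict_surjective
  obtain ⟨n, hn, hn', -⟩ := Groth.Variety2.Dim.exists_dim K R
  obtain ⟨m, hm, hm', -⟩ := Groth.Variety2.Dim.exists_dim K A
  have hnm : n = m := by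
    have h1 := trdeg_add_eq K R (A := B)
    rw [trdeg_eq_zero (R := R) (A := B), add_zero] at h1
    have h2 := trdeg_add_eq K R (A := FractionRing R)
    have : Algebra.IsAlgebraic R (FractionRing R) := IsLocalization.isAlgebraic _ (nonZeroDivisors R)
    rw [trdeg_eq_zero (R := R) (A := FractionRing R), add_zero] at h2
    have h3 := trdeg_add_eq K A (A := B)
    rw [trdeg_eq_zero (R := A) (A := B), add_zero] at h3
    have h4 := trdeg_add_eq K A (A := FractionRing A)
    have : Algebra.IsAlgebraic A (FractionRing A) := IsLocalization.isAlgebraic _ (nonZeroDivisors A)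
    rw [trdeg_eq_zero (R := A) (A := FractionRing A), add_zero] at h4
    rw [← h2, h1, ← h3, h4, hm] at hn
    exact_mod_cast hn.symm
  by_contra hni
  obtain ⟨a, b, hab, hne⟩ := Function.not_injective_iff.1 hni
  let r := a - b
  have hr : r ∈ nonZeroDivisors A := mem_nonZeroDivisors_of_ne_zero (sub_ne_zero.2 hne)
  have hker : Ideal.span {r} ≤ RingHom.ker φ.rangeRestrict := by
    rw [Ideal.span_singleton_le_iff_mem, RingHom.mem_ker]
    ext
    simp [r, hab]
  have h1 := ringKrullDim_quotient_succ_le_of_nonZeroDivisor hr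
  have h2 := ringKrullDim_le_of_surjective (Ideal.Quotient.lift (Ideal.span {r}) φ.rangeRestrict.toRingHom
    fun x hx => hker hx) (Ideal.Quotient.lift_surjective_of_surjective _ _ φ.rangeRestrict_surjective)
  rw [hm'] at h1
  change ringKrullDim R ≤ _ at h2
  rw [hn', hnm] at h2
  have := (add_le_add_left h2 1).trans h1
  exact (Nat.lt_succ_self m).not_ge (by exact_mod_cast this)

end Algebra

variable {K : Type u} [Field K] {X : Scheme.{u}} [IsIntegral X]

/-- The image of a formally unramified endomorphism contains a nonempty open. -/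
theorem exists_open_subset_range (s : X ⟶ Spec (CommRingCat.of K)) [LocallyOfFiniteType s]
    (L : X ⟶ X) (hL : L ≫ s = s) [FormallyUnramified L] :
    ∃ O : X.Opens, (O : Set X).Nonempty ∧ (O : Set X) ⊆ Set.range L := by
  let η := genericPoint X
  obtain ⟨_, ⟨V, hV, rfl⟩, hyV, -⟩ :=
    X.isBasis_affineOpens.exists_subset_of_mem_open (Set.mem_univ (L η)) isOpen_univ
  have hηV : η ∈ V := (genericPoint_spec X).mem_open_set_iff V.isOpen |>.2 ⟨L η, trivial, hyV⟩
  obtain ⟨f, hfle, hηf⟩ := hV.exists_basicOpen_le (V := L ⁻¹ᵁ V) ⟨η, show L η ∈ V from hyV⟩ hηV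
  let W := X.basicOpen f
  have hW : IsAffineOpen W := hV.basicOpen f
  have : Nonempty V := ⟨⟨η, hηV⟩⟩
  have : Nonempty W := ⟨⟨η, hηf⟩⟩
  let sk (U : X.Opens) : CommRingCat.of K ⟶ Γ(X, U) :=
    (Scheme.ΓSpecIso (CommRingCat.of K)).inv ≫ s.appLE ⊤ U le_top
  let : Algebra K Γ(X, V) := (sk V).hom.toAlgebra
  let : Algebra K Γ(X, W) := (sk W).hom.toAlgebra
  have : Algebra.FiniteType K Γ(X, V) := by
    refine RingHom.FiniteType.comp ?_ (RingHom.FiniteType.of_surjective _
      (Scheme.ΓSpecIso (CommRingCat.of K)).commRingCatIsoToRingEquiv.symm.surjective)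
    exact HasRingHomProperty.appLE @LocallyOfFiniteType s inferInstance ⟨⊤, isAffineOpen_top _⟩ ⟨V, hV⟩ le_top
  have : Algebra.FiniteType K Γ(X, W) := by
    refine RingHom.FiniteType.comp ?_ (RingHom.FiniteType.of_surjective _
      (Scheme.ΓSpecIso (CommRingCat.of K)).commRingCatIsoToRingEquiv.symm.surjective)
    exact HasRingHomProperty.appLE @LocallyOfFiniteType s inferInstance ⟨⊤, isAffineOpen_top _⟩ ⟨W, hW⟩ le_top
  have hsk : ∀ c, L.appLE V W hfle (sk V c) = sk W c := by
    intro c
    show ((Scheme.ΓSpecIso (CommRingCat.of K)).inv ≫ s.appLE ⊤ V le_top ≫ L.appLE V W hfle) c = _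
    rw [Scheme.Hom.appLE_comp_appLE]
    simp only [hL]
    rfl
  let φ : Γ(X, V) →ₐ[K] Γ(X, W) := ⟨(L.appLE V W hfle).hom, hsk⟩
  have : IsScalarTower K Γ(X, V) Γ(X, W) := IsScalarTower.of_algebraMap_eq fun c => by
    show sk W c = X.presheaf.map (homOfLE (X.basicOpen_le f)).op (sk V c)
    show _ = ((Scheme.ΓSpecIso (CommRingCat.of K)).inv ≫ s.appLE ⊤ V le_top ≫ _) c
    rw [Scheme.Hom.appLE_map]
  have : IsLocalization.Away f Γ(X, W) := hV.isLocalization_basicOpen f
  have hf0 : f ≠ 0 := fun h => by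
    have : η ∈ X.basicOpen f := hηf
    rw [h, Scheme.basicOpen_zero] at this
    exact this.elim
  have : Algebra.IsAlgebraic Γ(X, V) Γ(X, W) := IsLocalization.isAlgebraic _ (Submonoid.powers f)
  have : FaithfulSMul Γ(X, V) Γ(X, W) := (faithfulSMul_iff_algebraMap_injective _ _).2
    (IsLocalization.injective _ (powers_le_nonZeroDivisors_of_noZeroDivisors hf0))
  have hun : φ.toRingHom.FormallyUnramified := L.formallyUnramified_appLE hV hW hfle
  have hinj := injective_of_formallyUnramified_of_algebraic φ hun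
  have : IsNoetherianRing Γ(X, V) := Algebra.FiniteType.isNoetherianRing K _
  obtain ⟨r, hr, hrange⟩ := Groth.Agf.exists_ne_zero_of_bot_mem
    (s := Set.range (PrimeSpectrum.comap φ.toRingHom))
    (PrimeSpectrum.isConstructible_range_comap ((RingHom.FinitePresentation.of_finiteType).1
      (RingHom.FiniteType.of_comp_finiteType (f := algebraMap K Γ(X, V)) (g := φ.toRingHom)
        (by rw [AlgHom.toRingHom_eq_coe, φ.comp_algebraMap]; exact RingHom.finiteType_algebraMap.2 ‹_›))))
    ⟨⊥, by ext x; simp [map_eq_zero_iff φ hinj]⟩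
  refine ⟨X.basicOpen r, ?_, fun y hy => ?_⟩
  · rw [← TopologicalSpace.Opens.ne_bot_iff_nonempty]
    exact fun h => hr ((basicOpen_eq_bot_iff r).1 h)
  · have hyV : y ∈ V := X.basicOpen_le r hy
    obtain ⟨q, hq⟩ := hrange (hV.primeIdealOf ⟨y, hyV⟩) (by
      intro hm
      have := hV.fromSpec_preimage_basicOpen r
      have h2 : hV.primeIdealOf ⟨y, hyV⟩ ∈ hV.fromSpec ⁻¹ᵁ X.basicOpen r := by
        show hV.fromSpec (hV.primeIdealOf ⟨y, hyV⟩) ∈ X.basicOpen r
        rw [hV.fromSpec_primeIdealOf]; exact hy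
      rw [this] at h2
      exact h2 hm)
    refine ⟨hW.fromSpec q, ?_⟩
    have e := congrArg (fun m => m q) (IsAffineOpen.SpecMap_appLE_fromSpec L hV hW hfle)
    simp only [Scheme.Hom.comp_apply] at e
    rw [← e]
    show hV.fromSpec (PrimeSpectrum.comap φ.toRingHom q) = y
    rw [hq, hV.fromSpec_primeIdealOf]

/-- Two formally unramified endomorphisms over an algebraically closed field share a value at rational points. -/
theorem exists_common_value [IsAlgClosed K] (s : X ⟶ Spec (CommRingCat.of K)) [LocallyOfFiniteType s]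
    (L₁ L₂ : X ⟶ X) (h₁ : L₁ ≫ s = s) (h₂ : L₂ ≫ s = s) [FormallyUnramified L₁] [FormallyUnramified L₂] :
    ∃ p₁ p₂ : Spec (CommRingCat.of K) ⟶ X, p₁ ≫ s = 𝟙 _ ∧ p₂ ≫ s = 𝟙 _ ∧ p₁ ≫ L₁ = p₂ ≫ L₂ := by
  obtain ⟨O₁, hne₁, hO₁⟩ := exists_open_subset_range s L₁ h₁
  obtain ⟨O₂, hne₂, hO₂⟩ := exists_open_subset_range s L₂ h₂
  have : JacobsonSpace X := LocallyOfFiniteType.jacobsonSpace s
  have hne : ((O₁ : Set X) ∩ O₂).Nonempty := nonempty_preirreducible_inter O₁.isOpen O₂.isOpen hne₁ hne₂
  obtain ⟨c, ⟨hc₁, hc₂⟩, hc⟩ :=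
    nonempty_inter_closedPoints hne (O₁.isOpen.inter O₂.isOpen).isLocallyClosed
  have key : ∀ L : X ⟶ X, c ∈ Set.range L → ∃ p : Spec (CommRingCat.of K) ⟶ X,
      p ≫ s = 𝟙 _ ∧ L (p (IsLocalRing.closedPoint K)) = c := by
    intro L hL
    obtain ⟨x, hx, hxc⟩ := nonempty_inter_closedPoints (Z := L ⁻¹' {c})
      (by obtain ⟨x, hx⟩ := hL; exact ⟨x, hx⟩) (hc.preimage L.continuous).isLocallyClosed
    exact ⟨pointOfClosedPoint s x hxc, pointOfClosedPoint_comp _ _ _, by rw [pointOfClosedPoint_apply]; exact hx⟩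
  obtain ⟨p₁, hp₁, e₁⟩ := key L₁ (hO₁ hc₁)
  obtain ⟨p₂, hp₂, e₂⟩ := key L₂ (hO₂ hc₂)
  refine ⟨p₁, p₂, hp₁, hp₂, ext_of_apply_closedPoint_eq s (by rw [Category.assoc, h₁, hp₁])
    (by rw [Category.assoc, h₂, hp₂]) ?_⟩
  rw [Scheme.Hom.comp_apply, Scheme.Hom.comp_apply]
  exact e₁.trans e₂.symm

end Groth.StackCount
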