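import Groth.Agent.StackCount.Semi
import Groth.Agent.StackCount.Stab

/-!
# Twisted masses of closed subgroups of finite index of a group without subtori
-/

set_option autoImplicit false
set_option backward.isDefEq.respectTransparency false
set_option backward.isDefEq.respectTransparency.types false

universe u

open CategoryTheory CategoryTheory.Limits MonoidalCategory CartesianMonoidalCategory MonObj GrpObj AlgebraicGeometry

noncomputable section

namespace Groth.StackCount

variable {k : Type u} [Field k] {kb : Type u} [Field kb] [Algebra k kb]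

/-- The stabiliser of a geometric point is cut out by a closed subscheme of the base change. -/
theorem exists_stab_subscheme {G X : Over (Spec (CommRingCat.of k))} [GrpObj G]
    (aX : AlgGrp.Action G X) (x : SGA7.Pts kb X) :
    ∃ (Z : Over (Spec (CommRingCat.of kb))) (s : Z ⟶ GalTw.bcK kb G), IsClosedImmersion s.left ∧
      ∀ g : SGA7.Pts kb G, (∃ z, z ≫ s = GalTw.secOfPt kb g) ↔ lift g x ≫ aX.act = x := by
  let pk := SGA7.pt (K := k) kb
  let o : G ⊗ pk ⟶ X ⊗ pk := lift (lift (fst G pk) (snd G pk ≫ x) ≫ aX.act) (snd G pk)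
  let sx : pk ⟶ X ⊗ pk := lift x (𝟙 pk)
  have hsx : sx.left ≫ (snd X pk).left = 𝟙 pk.left := by
    rw [← Over.comp_left, lift_snd]
    rfl
  have : Subsingleton pk.left := inferInstanceAs (Subsingleton (Spec (CommRingCat.of kb)))
  have : IsClosedImmersion sx.left := isClosedImmersion_of_comp_eq_id (snd X pk).left sx.left hsx
  let j : pullback o.left sx.left ⟶ (G ⊗ pk).left := pullback.fst o.left sx.left
  let Z : Over (Spec (CommRingCat.of kb)) := Over.mk (j ≫ (snd G pk).left)
  let s : Z ⟶ GalTw.bcK kb G := Over.homMk j rfl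
  refine ⟨Z, s, inferInstanceAs (IsClosedImmersion (pullback.fst o.left sx.left)), fun g => ?_⟩
  have hg : (GalTw.secOfPt kb g).left = (lift g (𝟙 pk)).left := by
    rw [GalTw.secOfPt_left]
    apply pullback.hom_ext
    · exact (pullback.lift_fst _ _ _).trans (congrArg Over.Hom.left (lift_fst g (𝟙 pk))).symm
    · exact (pullback.lift_snd _ _ _).trans (congrArg Over.Hom.left (lift_snd g (𝟙 pk))).symm
  have ho : lift g (𝟙 pk) ≫ o = lift (lift g x ≫ aX.act) (𝟙 pk) := by
    simp [o, comp_lift, comp_lift_assoc]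
    erw [Category.id_comp]
  constructor
  · rintro ⟨z, hz⟩
    have h1 : z.left ≫ j = (lift g (𝟙 pk)).left := hg ▸ congrArg Over.Hom.left hz
    have h2 := congrArg (z.left ≫ ·) (pullback.condition (f := o.left) (g := sx.left))
    simp only [← Category.assoc] at h2
    rw [h1, ← Over.comp_left, ho] at h2
    have h4 := congrArg (· ≫ (snd X pk).left) h2
    have h3 := congrArg (· ≫ (fst X pk).left) h2
    simp only [Category.assoc, hsx, Category.comp_id] at h4
    rw [← Over.comp_left, lift_snd] at h4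
    simp only [← h4, Category.assoc] at h3
    rw [← Over.comp_left, ← Over.comp_left, ← Over.comp_left, Category.id_comp, lift_fst, lift_fst] at h3
    exact Over.OverMorphism.ext h3
  · intro hgx
    have hc : (lift g (𝟙 pk)).left ≫ o.left = 𝟙 pk.left ≫ sx.left := by
      rw [← Over.comp_left, ho, hgx, Category.id_comp]
    refine ⟨Over.homMk (pullback.lift _ _ hc) ?_, Over.OverMorphism.ext ?_⟩
    · show pullback.lift _ _ hc ≫ j ≫ (snd G pk).left = 𝟙 _
      rw [pullback.lift_fst_assoc, ← Over.comp_left, lift_snd]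
      rfl
    · exact (pullback.lift_fst _ _ hc).trans hg.symm

variable [Finite k] [Algebra.IsAlgebraic k kb] [IsAlgClosed kb] [IsGalois k kb]

/-- The mass of a closed subgroup of finite index of a group without subtori. -/
theorem exists_mass_finiteIndex {G : Over (Spec (CommRingCat.of k))} [GrpObj G] [LocallyOfFiniteType G.hom]
    [IsAffineHom G.hom] (hG : Red.HasNoSubtorus kb (GalTw.bcK kb G)) (d : ℕ)
    (hd : topologicalKrullDim ↥G.left = (d : WithBot ℕ∞)) (S : Subgroup (SGA7.Pts kb G)) [S.FiniteIndex]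
    {Z : Over (Spec (CommRingCat.of kb))} (s : Z ⟶ GalTw.bcK kb G) [IsClosedImmersion s.left]
    (hS : ∀ g, (∃ z, z ≫ s = GalTw.secOfPt kb g) ↔ g ∈ S) (c : SGA7.Pts kb G)
    (τ : S →* S) (hτ : ∀ x, (τ x).1 = c * frobHom kb G x.1 * c⁻¹) :
    Mass.HasMass S (TwConj τ) ((Nat.card k : ℚ) ^ d)⁻¹ := by
  classical
  let := Fintype.ofFinite k
  obtain ⟨p, _, r, hp, hcard⟩ := FiniteField.card' k
  have : Fact p.Prime := ⟨hp⟩
  have : CharP kb p := charP_of_injective_algebraMap (algebraMap k kb).injective p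
  have : IsAffine G.left := isAffine_of_isAffineHom G.hom
  have : IsAffineHom (GalTw.bcK kb G).hom :=
    inferInstanceAs (IsAffineHom (pullback.snd G.hom (SGA7.pt (K := k) kb).hom))
  have : IsAffine (GalTw.bcK kb G).left := isAffine_of_isAffineHom (GalTw.bcK kb G).hom
  have : LocallyOfFiniteType (GalTw.bcK kb G).hom :=
    inferInstanceAs (LocallyOfFiniteType (pullback.snd G.hom (SGA7.pt (K := k) kb).hom))
  have : QuasiCompact G.hom := inferInstance
  obtain ⟨n, ρ, hρ, hfr, hclosed⟩ := exists_linRep (kb := kb) G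
  obtain ⟨⟨I, hI⟩, -⟩ := hclosed Z s
  obtain ⟨-, B, _, _, _, ⟨pr⟩, hB⟩ := hclosed (GalTw.bcK kb G) (𝟙 _)
  let S' : Subgroup (GL (Fin n) kb) := S.map ρ
  let E : S ≃* S' := S.equivMapOfInjective ρ hρ
  have hI' : ∀ x, x ∈ S' ↔ ∀ P ∈ I, MvPolynomial.eval (UniTri.entries x) P = 0 := fun x => by
    rw [← hI x, Subgroup.mem_map]
    exact exists_congr fun g => and_congr_left fun _ => (hS g).symm
  have hcl : UniTri.IsClosedSG S' := ⟨I, hI'⟩
  -- the subgroup of exponent a power of the characteristic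
  obtain ⟨W₀, _, hW₀⟩ := Unipotent.exists_finiteIndex (GalTw.bcK kb G) hG
  let Θ : (𝟙_ (Over (Spec (CommRingCat.of kb))) ⟶ GalTw.bcK kb G) →* SGA7.Pts kb G :=
    MonoidHom.mk' undPt fun a b => undPt_mul a b
  have hΘs : Function.Surjective Θ := (secEquiv G).symm.surjective
  have hΘi : Function.Injective Θ := (secEquiv G).symm.injective
  let WG := W₀.map Θ
  have : WG.FiniteIndex := ⟨fun h0 => (‹W₀.FiniteIndex›).index_ne_zero
    (Nat.eq_zero_of_zero_dvd (h0 ▸ Subgroup.index_map_dvd _ hΘs))⟩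
  let W : Subgroup S' := (WG.subgroupOf S).map E.toMonoidHom
  have : W.FiniteIndex := ⟨fun h0 => (inferInstance : (WG.subgroupOf S).FiniteIndex).index_ne_zero
    (Nat.eq_zero_of_zero_dvd (h0 ▸ Subgroup.index_map_dvd _ E.surjective))⟩
  have hW : ∀ x ∈ W, x ^ p ^ n = 1 := by
    rintro _ ⟨⟨g, hgS⟩, hg, rfl⟩
    obtain ⟨z, hz, rfl⟩ : ∃ z ∈ W₀, Θ z = g := Subgroup.mem_map.1 (Subgroup.mem_subgroupOf.1 hg)
    obtain ⟨m, hm, hxm⟩ := exists_pow_eq_one k (ρ (Θ z))
    obtain ⟨a, m', hm', rfl⟩ := Nat.exists_eq_pow_mul_and_not_dvd hm.ne' p hp.ne_one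
    have h1 : z ^ p ^ a = 1 := by
      refine hW₀ _ (W₀.pow_mem hz _) m' (by rw [ringChar.eq kb p]; exact hm') ?_
      refine hΘi (hρ ?_)
      rw [← pow_mul, map_pow, map_pow, map_one, map_one]
      exact hxm
    refine Subtype.ext (UniTri.pow_eq_one_of_pow_eq_one (a := a) ?_)
    show ρ (Θ z) ^ p ^ a = 1
    rw [← map_pow, ← map_pow, h1, map_one, map_one]
  -- the twisted Frobenius
  have hF : ∀ x : SGA7.Pts kb G, ρ (frobHom kb G x) = UniTri.frGL k kb n (ρ x) := fun x =>
    Units.ext (Matrix.ext fun i j => by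
      rw [frobHom_apply, hfr, UniTri.frGL_apply, frobAut_apply])
  let τ' : S' →* S' := (E.toMonoidHom.comp τ).comp E.symm.toMonoidHom
  have hτ' : ∀ y, (τ' y).1 = ρ c * UniTri.frGL k kb n y.1 * (ρ c)⁻¹ := fun y => by
    have hy : ρ (E.symm y).1 = y.1 := congrArg Subtype.val (E.apply_symm_apply y)
    show ρ (τ (E.symm y)).1 = _
    rw [hτ, map_mul, map_mul, map_inv, hF, hy]
  have hst : ∀ x ∈ S', ρ c * UniTri.frGL k kb n x * (ρ c)⁻¹ ∈ S' := fun x hx => by
    rw [← hτ' ⟨x, hx⟩]
    exact (τ' ⟨x, hx⟩).2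
  obtain ⟨d', hmass, hdim⟩ := UniTri.exists_mass (k := k) hcl W hW (ρ c) hst
  -- the dimension of the subgroup is that of the group
  have : Finite (SGA7.Pts kb G ⧸ S) := Subgroup.finite_quotient_of_finiteIndex
  let gq : SGA7.Pts kb G ⧸ S → GL (Fin n) kb := fun q => ρ q.out
  let J : SGA7.Pts kb G ⧸ S → Ideal B := fun q => Ideal.span (pr.ψ '' (UniTri.conjPoly (gq q)⁻¹ 1 '' I))
  have hdd : d' = d := by
    have h1 : ringKrullDim B = (d' : WithBot ℕ∞) := by
      refine UniTri.ringKrullDim_eq_of_cover (K := kb) J d' (fun χ => ?_) fun q => ?_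
      · obtain ⟨x, ⟨g, -, rfl⟩, hχ⟩ := pr.mem χ
        refine ⟨QuotientGroup.mk g, Ideal.span_le.2 ?_⟩
        rintro _ ⟨_, ⟨Q, hQ, rfl⟩, rfl⟩
        rw [SetLike.mem_coe, RingHom.mem_ker, hχ, UniTri.eval_conjPoly, _root_.mul_one]
        refine (hI' _).1 ⟨(QuotientGroup.mk (s := S) g).out⁻¹ * g, ?_, ?_⟩ Q hQ
        · rw [SetLike.mem_coe, ← QuotientGroup.eq, QuotientGroup.out_eq']
        · rw [map_mul, map_inv]
      · refine hdim _
          { ψ := ((Ideal.Quotient.mkₐ kb (J q)).comp pr.ψ).comp (UniTri.conjPoly (gq q)⁻¹ 1)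
            mem := fun χ => ?_
            exists_point := fun y hy => ?_
            inj := fun χ χ' h => ?_ }
        · obtain ⟨x, -, hχ⟩ := pr.mem (χ.comp (Ideal.Quotient.mkₐ kb (J q)))
          refine ⟨(gq q)⁻¹ * x, (hI' _).2 fun Q hQ => ?_, fun P => ?_⟩
          · have h1 := hχ (UniTri.conjPoly (gq q)⁻¹ 1 Q)
            rw [UniTri.eval_conjPoly, _root_.mul_one, AlgHom.comp_apply,
              show Ideal.Quotient.mkₐ kb (J q) _ = 0 from
                Ideal.Quotient.eq_zero_iff_mem.2 (Ideal.subset_span ⟨_, ⟨Q, hQ, rfl⟩, rfl⟩), map_zero] at h1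
            exact h1.symm
          · exact (hχ _).trans (by erw [UniTri.eval_conjPoly]; rw [_root_.mul_one])
        · obtain ⟨g, hg, rfl⟩ := hy
          obtain ⟨χ, hχ⟩ := pr.exists_point (gq q * ρ g)
            ⟨q.out * g, ⟨GalTw.secOfPt kb _, Category.comp_id _⟩, map_mul ρ _ _⟩
          refine ⟨Ideal.Quotient.liftₐ (J q) χ fun b hb => ?_, fun P => ?_⟩
          · refine (Ideal.span_le (I := RingHom.ker χ)).2 ?_ hb
            rintro _ ⟨_, ⟨Q, hQ, rfl⟩, rfl⟩
            rw [SetLike.mem_coe, RingHom.mem_ker, hχ, UniTri.eval_conjPoly, _root_.mul_one, inv_mul_cancel_left]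
            exact (hI' _).1 ⟨g, hg, rfl⟩ Q hQ
          · exact (hχ _).trans (by erw [UniTri.eval_conjPoly]; rw [_root_.mul_one, inv_mul_cancel_left])
        · obtain ⟨x, -, hχ⟩ := pr.mem (χ.comp (Ideal.Quotient.mkₐ kb (J q)))
          obtain ⟨x', -, hχ'⟩ := pr.mem (χ'.comp (Ideal.Quotient.mkₐ kb (J q)))
          refine Ideal.Quotient.algHom_ext kb (pr.inj _ _ fun P => ?_)
          have key : (gq q)⁻¹ * x = (gq q)⁻¹ * x' := Units.ext (Matrix.ext fun i j => by
            have e := ((hχ _).symm.trans (h (MvPolynomial.X (i, j)))).trans (hχ' _)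
            erw [UniTri.eval_conjPoly, UniTri.eval_conjPoly] at e
            rw [_root_.mul_one, _root_.mul_one,
              MvPolynomial.eval_X, MvPolynomial.eval_X] at e
            exact e)
          exact (hχ P).trans (by rw [mul_left_cancel key]; exact (hχ' P).symm)
    have h2 := h1.symm.trans (hB.trans ((dim_bcK kb G).trans hd))
    exact_mod_cast h2
  subst hdd
  refine (Mass.hasMass_iff_of_equiv (P := TwConj τ') (P' := TwConj τ)
    (fun a => (E (show S from a) : S')) E.toMonoidHom E.injective (fun h a => ?_)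
    (fun a => ⟨1, E.symm (show S' from a), ?_⟩) (fun a₁ a₂ h hh => ⟨E.symm h, ?_, E.apply_symm_apply h⟩)).2
    (hmass τ' hτ')
  · show E (τ h * _ * h⁻¹) = E (τ (E.symm (E h))) * _ * (E h)⁻¹
    rw [map_mul, map_mul, map_inv, E.symm_apply_apply]
  · rw [one_smul]
    exact E.apply_symm_apply _
  · refine E.injective (Eq.trans ?_ hh)
    show E (τ (E.symm h) * _ * (E.symm h)⁻¹) = E (τ (E.symm h)) * _ * h⁻¹
    rw [map_mul, map_mul, map_inv, E.apply_symm_apply]

end Groth.StackCount
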