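import Groth.Agent.StackCount.UniTri
import Mathlib.GroupTheory.PGroup

/-!
# Masses of twisted Frobenius stable closed unipotent subgroups of `GL_N`
-/

set_option autoImplicit false
set_option backward.isDefEq.respectTransparency false
set_option backward.isDefEq.respectTransparency.types false

universe u

noncomputable section

open Matrix

namespace Groth.StackCount.UniTri

variable {k : Type u} [Field k] [Finite k] {K : Type u} [Field K] [IsAlgClosed K] [Algebra k K]
  [Algebra.IsAlgebraic k K]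

variable (k K) in
theorem natCast_card_eq_zero : (Nat.card k : K) = 0 := by
  have := Fintype.ofFinite k
  rw [Nat.card_eq_fintype_card, ← map_natCast (algebraMap k K), Nat.cast_card_eq_zero, map_zero]

/-- Lang's theorem for `GL_N`, through semilinear algebra. -/
theorem exists_lang_GL {N : ℕ} (c : GL (Fin N) K) : ∃ h : GL (Fin N) K, c = h * (frGL k K N h)⁻¹ := by
  let φ : (Fin N → K) →+ (Fin N → K) := AddMonoidHom.mk' (fun v => c.1 *ᵥ fun i => frobAut k K (v i)) fun v w => by
    rw [← mulVec_add]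
    congr 1
    funext i
    simp
  have hφl : Groth.SGA7.QLin.IsQLin (k := K) (Nat.card k) φ := fun a v => by
    show c.1 *ᵥ (fun i => frobAut k K (a * v i)) = a ^ Nat.card k • (c.1 *ᵥ fun i => frobAut k K (v i))
    rw [← mulVec_smul]
    congr 1
    funext i
    rw [map_mul, frobAut_apply k K a]
    rfl
  have hsurj : Function.Surjective φ := fun w => ⟨fun i => (frobAut k K).symm ((c⁻¹ : GL (Fin N) K).1.mulVec w i), by
    show c.1 *ᵥ (fun i => frobAut k K ((frobAut k K).symm ((c⁻¹ : GL (Fin N) K).1.mulVec w i))) = w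
    simp only [AlgEquiv.apply_symm_apply]
    rw [show (fun i => ((c⁻¹ : GL (Fin N) K).1 *ᵥ w) i) = (c⁻¹ : GL (Fin N) K).1 *ᵥ w from rfl, mulVec_mulVec,
      Units.mul_inv, one_mulVec]⟩
  obtain ⟨b, hb⟩ := Groth.SGA7.QLin.exists_basis_fixed (k := K) Finite.one_lt_card (natCast_card_eq_zero k K) hφl
    (by rw [hsurj.range_eq, Submodule.span_univ])
  let b' := b.reindex (finCongr (Module.finrank_fin_fun K (n := N)))
  have hb' : ∀ i, φ (b' i) = b' i := fun i => by
    rw [Module.Basis.reindex_apply]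
    exact hb _
  let M : Matrix (Fin N) (Fin N) K := (Pi.basisFun K (Fin N)).toMatrix b'
  have hM : IsUnit M := by
    have := (Pi.basisFun K (Fin N)).invertibleToMatrix b'
    exact isUnit_of_invertible M
  have hval : ∀ i j, M i j = b' j i := fun i j => by simp [M, Module.Basis.toMatrix_apply]
  refine ⟨hM.unit, eq_mul_inv_iff_mul_eq.2 (Units.ext (Matrix.ext fun i j => ?_))⟩
  show (c.1 * (frGL k K N hM.unit).1) i j = M i j
  rw [Matrix.mul_apply, hval]
  conv_rhs => rw [← hb' j]
  exact Finset.sum_congr rfl fun l _ => by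
    rw [frGL_apply, ← frobAut_apply k K, show hM.unit.1 l j = b' j l from hval l j]

/-- A group of matrices of exponent a power of the characteristic fixes a nonzero vector. -/
theorem exists_fixed (k : Type u) [Field k] [Finite k] [Algebra k K] [Algebra.IsAlgebraic k K] {p e : ℕ} [Fact p.Prime] [CharP K p] {N : ℕ} (H : Subgroup (GL (Fin (N + 1)) K))
    (hexp : ∀ x ∈ H, x ^ p ^ e = 1) : ∃ v : Fin (N + 1) → K, v ≠ 0 ∧ ∀ x ∈ H, x.1 *ᵥ v = v := by
  classical
  let W : Finset H → Submodule K (Fin (N + 1) → K) := fun s =>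
    ⨅ x ∈ s, LinearMap.ker (Matrix.mulVecLin (x.1.1 - 1))
  have hW : ∀ s v, v ∈ W s ↔ ∀ x ∈ s, x.1.1 *ᵥ v = v := fun s v => by
    simp [W, sub_mulVec, sub_eq_zero]
  obtain ⟨_, ⟨s, rfl⟩, hmin⟩ := (wellFounded_lt (α := Submodule K (Fin (N + 1) → K))).has_min (Set.range W)
    ⟨_, ∅, rfl⟩
  suffices h : ∃ v : Fin (N + 1) → K, v ≠ 0 ∧ v ∈ W s by
    obtain ⟨v, hv, hvW⟩ := h
    refine ⟨v, hv, fun x hx => ?_⟩
    have hle : W (insert ⟨x, hx⟩ s) ≤ W s := fun w hw => (hW _ _).2 fun y hy => (hW _ _).1 hw y (Finset.mem_insert_of_mem hy)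
    have : W (insert ⟨x, hx⟩ s) = W s := by
      rcases eq_or_lt_of_le hle with h | h
      · exact h
      · exact absurd h (hmin _ ⟨_, rfl⟩)
    rw [← this] at hvW
    exact (hW _ _).1 hvW ⟨x, hx⟩ (Finset.mem_insert_self _ _)
  -- a finite field of definition
  let ent : Finset K := (s ×ˢ (Finset.univ : Finset (Fin (N + 1) × Fin (N + 1)))).image fun p => p.1.1.1 p.2.1 p.2.2
  let E := IntermediateField.adjoin k (ent : Set K)
  have : FiniteDimensional k E := IntermediateField.finiteDimensional_adjoin fun x _ => Algebra.IsIntegral.isIntegral x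
  have : Finite E := Module.finite_of_finite k
  let L : Submonoid (GL (Fin (N + 1)) K) :=
    { carrier := {x | ∀ i j, x.1 i j ∈ E}
      one_mem' := fun i j => by
        rw [Units.val_one, Matrix.one_apply]
        split_ifs
        exacts [E.one_mem, E.zero_mem]
      mul_mem' := fun {a b} ha hb i j => by
        rw [Units.val_mul, Matrix.mul_apply]
        exact sum_mem fun l _ => E.mul_mem (ha i l) (hb l j) }
  let G' : Subgroup (GL (Fin (N + 1)) K) := Subgroup.closure (Subtype.val '' (s : Set H))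
  have hGH : G' ≤ H := (Subgroup.closure_le _).2 (by rintro _ ⟨x, -, rfl⟩; exact x.2)
  have hpow : ∀ x ∈ G', x ^ p ^ e = 1 := fun x hx => hexp x (hGH hx)
  have hgen : ∀ x : H, x ∈ s → x.1 ∈ L := fun x hx i j => IntermediateField.subset_adjoin k _
    (Finset.mem_coe.2 (Finset.mem_image.2 ⟨(x, (i, j)), Finset.mem_product.2 ⟨hx, Finset.mem_univ _⟩, rfl⟩))
  have hGE : ∀ x ∈ G', x ∈ L := fun x hx => by
    induction hx using Subgroup.closure_induction with
    | mem y hy =>
      obtain ⟨z, hz, rfl⟩ := hy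
      exact hgen z hz
    | one => exact L.one_mem
    | mul a b _ _ ha hb => exact L.mul_mem ha hb
    | inv a ha hmem =>
      have h1 : a ^ p ^ e = 1 := hpow a ha
      have h2 : a⁻¹ = a ^ (p ^ e - 1) := by
        rw [inv_eq_iff_mul_eq_one, ← pow_succ', Nat.sub_add_cancel (Nat.one_le_pow _ _ (Fact.out : p.Prime).pos), h1]
      rw [h2]
      exact L.pow_mem hmem _
  have hG : IsPGroup p G' := fun g => ⟨e, Subtype.ext (hpow g.1 g.2)⟩
  let act : MulAction G' (Fin (N + 1) → E) :=
    { smul := fun g v i => ⟨(g.1.1 *ᵥ fun l => (v l : K)) i, by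
        rw [Matrix.mulVec, dotProduct]
        exact sum_mem fun l _ => E.mul_mem (hGE g.1 g.2 i l) (v l).2⟩
      one_smul := fun v => funext fun i => Subtype.ext (congrFun (Matrix.one_mulVec _) i)
      mul_smul := fun g h v => funext fun i => Subtype.ext
        (congrFun (Matrix.mulVec_mulVec (fun l => (v l : K)) g.1.1 h.1.1).symm i) }
  have hp : p ∣ Nat.card (Fin (N + 1) → E) := by
    have : CharP E p := RingHom.charP (algebraMap E K) (algebraMap E K).injective p
    have := Fintype.ofFinite E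
    obtain ⟨n, -, hn⟩ := FiniteField.card E p
    rw [Nat.card_fun, Nat.card_eq_fintype_card (α := E), hn, Nat.card_eq_fintype_card, Fintype.card_fin]
    exact dvd_pow (dvd_pow_self p n.2.ne') (Nat.succ_ne_zero _)
  obtain ⟨v, hv, hne⟩ := hG.exists_fixed_point_of_prime_dvd_card_of_fixed_point _ hp
    (a := (0 : Fin (N + 1) → E)) (fun g => funext fun i => Subtype.ext (by
      show (g.1.1 *ᵥ fun l => ((0 : Fin (N + 1) → E) l : K)) i = ((0 : Fin (N + 1) → E) i : K)
      simp [mulVec, dotProduct]))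
  refine ⟨fun i => (v i : K), fun h => hne (funext fun i => Subtype.ext (congrFun h i).symm), (hW _ _).2 fun x hx => ?_⟩
  exact funext fun i => congrArg (fun w : Fin (N + 1) → E => (w i : K))
    (hv ⟨x.1, Subgroup.subset_closure ⟨x, hx, rfl⟩⟩)

/-- An element fixed by the Frobenius is rational. -/
theorem exists_algebraMap_eq [IsGalois k K] {z : K} (hz : z ^ Nat.card k = z) : ∃ c : k, algebraMap k K c = z := by
  have hfix : z ∈ (⊥ : IntermediateField k K) := by
    rw [← InfiniteGalois.fixedField_fixingSubgroup (⊥ : IntermediateField k K)]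
    rintro ⟨σ, -⟩
    show σ z = z
    have := IntermediateField.adjoin.finiteDimensional (Algebra.IsIntegral.isIntegral (R := k) z)
    obtain ⟨i, hi⟩ := FrobGen.exists_pow_agree (frobAut_apply k K) (IntermediateField.adjoin k {z}) σ
    have h1 := (IntermediateField.mem_fixingSubgroup_iff _ _).1 hi z (IntermediateField.mem_adjoin_simple_self k z)
    rw [AlgEquiv.mul_apply] at h1
    have h2 : (frobAut k K ^ i) z = z := by
      rw [FrobGen.pow_apply (frobAut_apply k K)]
      clear h1 hi
      induction i with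
      | zero => simp
      | succ i ih => rw [pow_succ, pow_mul, ih, hz]
    calc σ z = (frobAut k K ^ i) (((frobAut k K ^ i)⁻¹) (σ z)) := by
          rw [← AlgEquiv.mul_apply, mul_inv_cancel]; rfl
      _ = z := by rw [h1, h2]
  exact IntermediateField.mem_bot.1 hfix

theorem frGL_of_rational {N : ℕ} (P : GL (Fin N) K) (hP : ∀ i j, ∃ c : k, algebraMap k K c = P.1 i j) :
    frGL k K N P = P := Units.ext (Matrix.ext fun i j => by
  obtain ⟨c, hc⟩ := hP i j
  have := Fintype.ofFinite k
  rw [frGL_apply, ← hc, ← map_pow, Nat.card_eq_fintype_card, FiniteField.pow_card])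

/-- A Frobenius stable group of matrices of exponent a power of the characteristic is triangularisable
over the finite field. -/
theorem exists_triangular {p e : ℕ} [Fact p.Prime] [CharP K p] : ∀ {N : ℕ} (H : Subgroup (GL (Fin N) K)),
    (∀ x ∈ H, x ^ p ^ e = 1) → (∀ x ∈ H, frGL k K N x ∈ H) →
      ∃ P : GL (Fin N) K, (∀ i j, ∃ c : k, algebraMap k K c = P.1 i j) ∧ ∀ x ∈ H, IsUni (P⁻¹ * x * P)
  | 0, H, _, _ => ⟨1, fun i => i.elim0, fun x _ => ⟨fun i => i.elim0, fun i => i.elim0⟩⟩
  | N + 1, H, hexp, hfr => by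
    classical
    have : IsAlgClosure k K := ⟨inferInstance, inferInstance⟩
    have : IsGalois k K := ⟨⟩
    obtain ⟨v₁, hv₁, hv₁f⟩ := exists_fixed k H hexp
    -- a rational fixed vector
    let Fix : Set (Fin (N + 1) → K) := {v | ∀ x ∈ H, x.1 *ᵥ v = v}
    have hFr : ∀ v ∈ Fix, (fun i => frobAut k K (v i)) ∈ Fix := fun v hv x hx => by
      obtain ⟨y, hy, hyx⟩ : ∃ y ∈ H, frGL k K (N + 1) y = x := by
        have : Finite {y : GL (Fin (N + 1)) K // y ∈ H ∧ ∀ i j, y.1 i j ∈ IntermediateField.adjoin k (Set.range fun ij : Fin (N + 1) × Fin (N + 1) => x.1 ij.1 ij.2)} := by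
          have : FiniteDimensional k (IntermediateField.adjoin k (Set.range fun ij : Fin (N + 1) × Fin (N + 1) => x.1 ij.1 ij.2)) := by
            have := (Set.finite_range fun ij : Fin (N + 1) × Fin (N + 1) => x.1 ij.1 ij.2).to_subtype
            exact IntermediateField.finiteDimensional_adjoin fun x _ => Algebra.IsIntegral.isIntegral x
          have : Finite (IntermediateField.adjoin k (Set.range fun ij : Fin (N + 1) × Fin (N + 1) => x.1 ij.1 ij.2)) :=
            Module.finite_of_finite k
          exact Finite.of_injective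
            (fun y => fun i j => (⟨y.1.1 i j, y.2.2 i j⟩ : IntermediateField.adjoin k _))
            fun a b h => Subtype.ext (Units.ext (Matrix.ext fun i j => congrArg Subtype.val (congrFun (congrFun h i) j)))
        let F : {y : GL (Fin (N + 1)) K // y ∈ H ∧ ∀ i j, y.1 i j ∈ IntermediateField.adjoin k (Set.range fun ij : Fin (N + 1) × Fin (N + 1) => x.1 ij.1 ij.2)} → _ :=
          fun y => (⟨frGL k K (N + 1) y.1, hfr _ y.2.1, fun i j => by
            rw [frGL_apply]; exact pow_mem (y.2.2 i j) _⟩ : {y : GL (Fin (N + 1)) K // y ∈ H ∧ ∀ i j, y.1 i j ∈ IntermediateField.adjoin k (Set.range fun ij : Fin (N + 1) × Fin (N + 1) => x.1 ij.1 ij.2)})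
        have hF : Function.Surjective F := Finite.surjective_of_injective fun a b h => Subtype.ext (Units.ext
          (Matrix.ext fun i j => (frobAut k K).injective (congrArg (fun z => z.1.1 i j) h)))
        obtain ⟨y, hy⟩ := hF ⟨x, hx, fun i j => IntermediateField.subset_adjoin k _ ⟨(i, j), rfl⟩⟩
        exact ⟨y.1, y.2.1, congrArg Subtype.val hy⟩
      rw [← hyx]
      funext i
      have := congrArg (frobAut k K) (congrFun (hv y hy) i)
      simpa [mulVec, dotProduct, frGL_apply, ← frobAut_apply] using this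
    let supp : (Fin (N + 1) → K) → ℕ := fun v => (Finset.univ.filter fun i => v i ≠ 0).card
    obtain ⟨v, ⟨hvne, hvF⟩, hvmin⟩ := (measure supp).wf.has_min {v | v ≠ 0 ∧ v ∈ Fix} ⟨v₁, hv₁, hv₁f⟩
    obtain ⟨i₀, hi₀⟩ := Function.ne_iff.1 hvne
    let w : Fin (N + 1) → K := (v i₀)⁻¹ • v
    have hwF : w ∈ Fix := fun x hx => by rw [mulVec_smul, hvF x hx]
    have hwi : w i₀ = 1 := inv_mul_cancel₀ hi₀
    have hwfix : ∀ i, frobAut k K (w i) = w i := by
      by_contra! hc
      obtain ⟨i, hi⟩ := hc
      refine hvmin ((fun i => frobAut k K (w i)) - w) ⟨fun h => hi ?_, fun x hx => ?_⟩ ?_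
      · have := congrFun h i
        simpa [sub_eq_zero] using this
      · rw [mulVec_sub, hFr w hwF x hx, hwF x hx]
      · refine Finset.card_lt_card ((Finset.ssubset_iff_of_subset fun i hi => ?_).2 ⟨i₀, by simpa using hi₀, by simp [hwi]⟩)
        simp only [Finset.mem_filter, Finset.mem_univ, true_and] at hi ⊢
        intro h0
        refine hi ?_
        simp [w, h0]
    choose w₀ hw₀ using fun i => exists_algebraMap_eq (k := k) (z := w i) (by rw [← frobAut_apply]; exact hwfix i)
    -- a rational basis starting with the fixed vector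
    have hw₀i : w₀ i₀ = 1 := (algebraMap k K).injective (by rw [hw₀, hwi, map_one])
    let Q₀ : Matrix (Fin (N + 1)) (Fin (N + 1)) k := (1 : Matrix _ _ k).updateCol i₀ w₀
    let π : Equiv.Perm (Fin (N + 1)) := Equiv.swap 0 i₀
    let Q : Matrix (Fin (N + 1)) (Fin (N + 1)) k := Q₀.submatrix id π
    have hdet : IsUnit Q.det := by
      rw [Matrix.det_permute', show Q₀.det = 1 by
        rw [← Matrix.cramer_apply, Matrix.cramer_one]
        exact hw₀i]
      rcases Int.units_eq_one_or (Equiv.Perm.sign π) with h | h <;> simp [h]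
    let P₁ : GL (Fin (N + 1)) K :=
      Matrix.nonsingInvUnit ((algebraMap k K).mapMatrix Q) (by rw [← RingHom.map_det]; exact hdet.map _)
    have hP₁ : ∀ i j, ∃ c : k, algebraMap k K c = P₁.1 i j := fun i j => ⟨Q i j, rfl⟩
    have hcol : ∀ i, P₁.1 i 0 = w i := fun i => by
      show algebraMap k K (Q₀ i (π 0)) = w i
      rw [show π 0 = i₀ from Equiv.swap_apply_left 0 i₀]
      simp [Q₀, hw₀]
    let y : GL (Fin (N + 1)) K → GL (Fin (N + 1)) K := fun x => P₁⁻¹ * x * P₁
    have hy0 : ∀ x ∈ H, ∀ i, (y x).1 i 0 = if i = 0 then 1 else 0 := fun x hx i => by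
      have h1 : ((P₁⁻¹ : GL (Fin (N + 1)) K).1 * P₁.1) i 0 = if i = 0 then 1 else 0 := by
        rw [Units.inv_mul, Matrix.one_apply]
      rw [← h1]
      show ((P₁⁻¹ : GL (Fin (N + 1)) K).1 * x.1 * P₁.1) i 0 = _
      rw [Matrix.mul_assoc, Matrix.mul_apply, Matrix.mul_apply]
      refine Finset.sum_congr rfl fun l _ => ?_
      congr 1
      rw [Matrix.mul_apply]
      simp only [hcol]
      exact congrFun (hwF x hx) l
    let sub : GL (Fin (N + 1)) K → Matrix (Fin N) (Fin N) K := fun x => (y x).1.submatrix Fin.succ Fin.succ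
    have hsub1 : sub 1 = 1 := by
      show (P₁⁻¹ * 1 * P₁).1.submatrix _ _ = _
      rw [mul_one, inv_mul_cancel, Units.val_one, Matrix.submatrix_one _ (Fin.succ_injective _)]
    have hsubmul : ∀ a ∈ H, ∀ b ∈ H, sub (a * b) = sub a * sub b := fun a ha b hb => by
      ext i j
      have : y (a * b) = y a * y b := by simp [y, mul_assoc]
      show (y (a * b)).1 i.succ j.succ = _
      rw [this, Units.val_mul, Matrix.mul_apply, Fin.sum_univ_succ, hy0 a ha, if_neg (Fin.succ_ne_zero i), zero_mul,
        zero_add]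
      rfl
    let ρ : H →* GL (Fin N) K := Units.liftRight
      { toFun := fun a : H => sub a.1, map_one' := hsub1, map_mul' := fun a b => hsubmul a.1 a.2 b.1 b.2 }
      (fun a => ⟨sub a.1, sub a.1⁻¹,
        by rw [← hsubmul _ a.2 _ (H.inv_mem a.2), mul_inv_cancel, hsub1],
        by rw [← hsubmul _ (H.inv_mem a.2) _ a.2, inv_mul_cancel, hsub1]⟩) fun a => rfl
    have hρ : ∀ a : H, (ρ a).1 = sub a.1 := fun a => rfl
    obtain ⟨P₂, hP₂, hP₂u⟩ := exists_triangular ρ.range (fun z hz => by
      obtain ⟨a, rfl⟩ := hz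
      rw [← map_pow, show a ^ p ^ e = 1 from Subtype.ext (hexp a.1 a.2), map_one]) (fun z hz => by
      obtain ⟨a, rfl⟩ := hz
      refine ⟨⟨frGL k K _ a.1, hfr _ a.2⟩, Units.ext (Matrix.ext fun i j => ?_)⟩
      rw [hρ, frGL_apply, hρ]
      show (P₁⁻¹ * frGL k K _ a.1 * P₁).1 i.succ j.succ = (y a.1).1 i.succ j.succ ^ Nat.card k
      rw [← frGL_apply, map_mul, map_mul, map_inv, frGL_of_rational P₁ hP₁])
    let bl : Matrix (Fin N) (Fin N) K →* Matrix (Fin (N + 1)) (Fin (N + 1)) K :=
      { toFun := fun M => Matrix.of fun i j => Fin.cases (Fin.cases 1 (fun _ => 0) j)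
          (fun i' => Fin.cases 0 (fun j' => M i' j') j) i
        map_one' := by
          ext i j
          induction i using Fin.cases <;> induction j using Fin.cases <;>
            simp [Matrix.one_apply, (Fin.succ_ne_zero _).symm]
        map_mul' := fun A B => by
          ext i j
          induction i using Fin.cases <;> induction j using Fin.cases <;>
            simp [Matrix.mul_apply, Fin.sum_univ_succ] }
    let P₂' : GL (Fin (N + 1)) K := Units.map bl P₂
    refine ⟨P₁ * P₂', fun i j => ?_, fun x hx => ?_⟩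
    · rw [Units.val_mul, Matrix.mul_apply]
      have hr : ∀ l, ∃ c : k, algebraMap k K c = P₂'.1 l j := fun l => by
        induction l using Fin.cases with
        | zero =>
          induction j using Fin.cases with
          | zero => exact ⟨1, by simp [P₂', bl]⟩
          | succ j => exact ⟨0, by simp [P₂', bl]⟩
        | succ l =>
          induction j using Fin.cases with
          | zero => exact ⟨0, by simp [P₂', bl]⟩
          | succ j =>
            obtain ⟨c, hc⟩ := hP₂ l j
            exact ⟨c, by simp [P₂', bl, hc]⟩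
      choose c hc using hr
      choose d hd using hP₁ i
      exact ⟨∑ l, d l * c l, by simp [hc, hd]⟩
    · obtain ⟨hdiag, hlow⟩ := hP₂u _ ⟨⟨x, hx⟩, rfl⟩
      have he : (P₁ * P₂')⁻¹ * x * (P₁ * P₂') = P₂'⁻¹ * y x * P₂' := by simp [y, mul_assoc]
      rw [he]
      have hinv : (P₂'⁻¹ : GL (Fin (N + 1)) K).1 = bl (P₂⁻¹ : GL (Fin N) K).1 := rfl
      have hval : P₂'.1 = bl P₂.1 := rfl
      have e00 : (P₂'⁻¹ * y x * P₂').1 0 0 = 1 := by
        rw [Units.val_mul, Units.val_mul, hinv, hval, Matrix.mul_apply, Fin.sum_univ_succ]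
        simp [bl, Matrix.mul_apply, Fin.sum_univ_succ, hy0 x hx]
      have es0 : ∀ i : Fin N, (P₂'⁻¹ * y x * P₂').1 i.succ 0 = 0 := fun i => by
        rw [Units.val_mul, Units.val_mul, hinv, hval, Matrix.mul_apply, Fin.sum_univ_succ]
        simp [bl, Matrix.mul_apply, Fin.sum_univ_succ, hy0 x hx]
      have ess : ∀ i j : Fin N, (P₂'⁻¹ * y x * P₂').1 i.succ j.succ = (P₂⁻¹ * ρ ⟨x, hx⟩ * P₂).1 i j := fun i j => by
        show (bl (P₂⁻¹ : GL (Fin N) K).1 * (y x).1 * bl P₂.1) i.succ j.succ =
          ((P₂⁻¹ : GL (Fin N) K).1 * sub x * P₂.1) i j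
        simp [bl, Matrix.mul_apply, Fin.sum_univ_succ, sub]
      refine ⟨fun i => ?_, fun i j hji => ?_⟩
      · induction i using Fin.cases with
        | zero => exact e00
        | succ i => rw [ess, hdiag]
      · induction i using Fin.cases with
        | zero => exact absurd hji (by simp)
        | succ i =>
          induction j using Fin.cases with
          | zero => exact es0 i
          | succ j => rw [ess, hlow _ _ (Fin.succ_lt_succ_iff.1 hji)]

/-- **The mass of a unipotent subgroup.** A closed subgroup of exponent a power of the characteristic,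
stable under a twisted Frobenius, has coordinates, and the twisted conjugation has mass `q^{-d}`. -/
theorem exists_mass_coords {N : ℕ} {S : Subgroup (GL (Fin N) K)} (hcl : IsClosedSG S) {p e : ℕ} [Fact p.Prime]
    [CharP K p] (hexp : ∀ x ∈ S, x ^ p ^ e = 1) (c : GL (Fin N) K)
    (hst : ∀ x ∈ S, c * frGL k K N x * c⁻¹ ∈ S) :
    ∃ d : ℕ, HasCoords S d ∧ ∀ τ : S →* S, (∀ x, (τ x).1 = c * frGL k K N x.1 * c⁻¹) →
      Mass.HasMass S (TwConj τ) ((Nat.card k : ℚ) ^ d)⁻¹ := by
  classical
  obtain ⟨h, hh⟩ := exists_lang_GL (k := k) c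
  let Sh : Subgroup (GL (Fin N) K) := S.comap (MulAut.conj h).toMonoidHom
  have hexph : ∀ x ∈ Sh, x ^ p ^ e = 1 := fun x hx => by
    have := hexp _ hx
    rwa [← map_pow, MulEquiv.coe_toMonoidHom, MulEquiv.map_eq_one_iff] at this
  have hfrh : ∀ x ∈ Sh, frGL k K N x ∈ Sh := fun x hx => by
    have := hst _ hx
    show h * frGL k K N x * h⁻¹ ∈ S
    convert this using 1
    rw [hh, show (MulAut.conj h).toMonoidHom x = h * x * h⁻¹ from rfl, map_mul, map_mul, map_inv]
    group
  obtain ⟨P, hP, hPu⟩ := exists_triangular (k := k) Sh hexph hfrh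
  obtain ⟨g, hgdef⟩ : ∃ g, g = h * P := ⟨_, rfl⟩
  have hg : c = g * (frGL k K N g)⁻¹ := by
    rw [hh, hgdef, map_mul, frGL_of_rational P hP]
    simp [hgdef, mul_assoc]
  let S' : Subgroup (GL (Fin N) K) := S.comap (MulAut.conj g).toMonoidHom
  have hmem : ∀ x, x ∈ S' ↔ g * x * g⁻¹ ∈ S := fun x => Iff.rfl
  have hU : ∀ x ∈ S', IsUni x := fun x hx => by
    have h1 : P * x * P⁻¹ ∈ Sh := by
      show h * (P * x * P⁻¹) * h⁻¹ ∈ S
      simpa [hgdef, mul_assoc] using (hmem x).1 hx
    have := hPu _ h1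
    simpa [mul_assoc] using this
  have hexp' : ∀ x ∈ S', x ^ p ^ e = 1 := fun x hx => by
    have := hexp _ hx
    rwa [← map_pow, MulEquiv.coe_toMonoidHom, MulEquiv.map_eq_one_iff] at this
  have hfr' : ∀ x ∈ S', frGL k K N x ∈ S' := fun x hx => by
    rw [hmem]
    have := hst _ hx
    convert this using 1
    rw [hg, show (MulAut.conj g).toMonoidHom x = g * x * g⁻¹ from rfl, map_mul, map_mul, map_inv]
    group
  -- conjugation is linear in the entries
  let lin : GL (Fin N) K → GL (Fin N) K → (Fin N × Fin N → MvPolynomial (Fin N × Fin N) K) := fun a b ij =>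
    ∑ s : Fin N, ∑ t : Fin N, MvPolynomial.C (a.1 ij.1 s * b.1 t ij.2) * MvPolynomial.X (s, t)
  have hlin : ∀ a b x, (fun ij => MvPolynomial.eval (entries x) (lin a b ij)) = entries (a * x * b) := fun a b x => by
    funext ij
    simp only [lin, entries, map_sum, map_mul, MvPolynomial.eval_C, MvPolynomial.eval_X, Units.val_mul,
      Matrix.mul_apply, Finset.sum_mul]
    rw [Finset.sum_comm]
    exact Finset.sum_congr rfl fun t _ => Finset.sum_congr rfl fun s _ => by ring
  have hbind : ∀ a b x P, MvPolynomial.eval (entries x) (MvPolynomial.bind₁ (lin a b) P) =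
      MvPolynomial.eval (entries (a * x * b)) P := fun a b x P => by
    rw [← hlin a b x, ← MvPolynomial.aeval_eq_eval, MvPolynomial.aeval_bind₁]
    rfl
  have hcl' : IsClosedSG S' := by
    obtain ⟨I, hI⟩ := hcl
    refine ⟨MvPolynomial.bind₁ (lin g g⁻¹) '' I, fun x => ?_⟩
    rw [hmem, hI]
    simp only [Set.forall_mem_image, hbind]
  obtain ⟨f, hf₁, hf₂⟩ := hasCoords hU hcl' hexp'
  refine ⟨expo hU 0, ⟨fun j => MvPolynomial.bind₁ (lin g⁻¹ g) (f j), fun v => ?_, fun v => ?_⟩, fun τ hτ => ?_⟩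
  · obtain ⟨x, hx, hxv⟩ := hf₁ v
    refine ⟨g * x * g⁻¹, hx, fun j => ?_⟩
    rw [hbind, ← hxv j]
    congr 2
    group
  · refine ((hf₂ v).image fun x => g * x * g⁻¹).subset fun x hx => ⟨g⁻¹ * x * g, ⟨?_, fun j => ?_⟩, by group⟩
    · rw [hmem]
      convert hx.1 using 1
      group
    · rw [← hx.2 j, hbind]
  · let j : layer S' hU 0 →* S := MonoidHom.mk' (fun x => ⟨g * x.1 * g⁻¹, (hmem _).1 x.2.1⟩) fun a b => Subtype.ext (by
      show g * (a.1 * b.1) * g⁻¹ = g * a.1 * g⁻¹ * (g * b.1 * g⁻¹)
      group)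
    have hj : Function.Bijective j := by
      refine ⟨fun a b hab => Subtype.ext (mul_left_cancel (mul_right_cancel (congrArg Subtype.val hab))), fun y => ?_⟩
      refine ⟨⟨g⁻¹ * y.1 * g, ?_, fun l hl => absurd hl (Nat.not_lt_zero l)⟩, Subtype.ext (by show g * (g⁻¹ * y.1 * g) * g⁻¹ = y.1; group)⟩
      rw [hmem]
      convert y.2 using 1
      group
    let τ' : layer S' hU 0 →* layer S' hU 0 :=
      ((frGL k K N).comp (layer S' hU 0).subtype).codRestrict _ fun x =>
        ⟨hfr' _ x.2.1, fun l hl => absurd hl (Nat.not_lt_zero l)⟩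
    have hm := hasMass_layer hU hcl' hexp' hfr' 0 (Nat.zero_le _) 1 S'.one_mem τ' fun x => by
      show frGL k K N x.1 = _
      rw [one_mul, inv_one, mul_one]
    have hτj : ∀ x, τ (j x) = j (τ' x) := fun x => Subtype.ext (by
      rw [hτ]
      show c * frGL k K N (g * x.1 * g⁻¹) * c⁻¹ = g * frGL k K N x.1 * g⁻¹
      rw [hg, map_mul, map_mul, map_inv]
      group)
    refine (Mass.hasMass_iff_of_equiv (P := TwConj τ) (P' := TwConj τ') (fun a => (j (show layer S' hU 0 from a) : S)) j hj.1
      (fun d a => ?_) (fun a => ?_) (fun a₁ a₂ x hx => ?_)).1 hm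
    · show j (τ' d * (show layer S' hU 0 from a) * d⁻¹) = τ (j d) * j _ * (j d)⁻¹
      rw [map_mul, map_mul, map_inv, hτj]
    · obtain ⟨a', ha'⟩ := hj.2 (show S from a)
      exact ⟨1, a', by rw [one_smul]; exact ha'⟩
    · obtain ⟨d, rfl⟩ := hj.2 x
      refine ⟨d, hj.1 (Eq.trans ?_ hx), rfl⟩
      show j (τ' d * (show layer S' hU 0 from a₁) * d⁻¹) = τ (j d) * j _ * (j d)⁻¹
      rw [map_mul, map_mul, map_inv, hτj]

end Groth.StackCount.UniTri
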