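import Groth.Agent.S14400
import Groth.Prelude.Def_SGA7a
import Mathlib

/-!
# Galois descent of morphisms along `Spec L ⟶ Spec k'` inside `Over (Spec k)` (helper34)
-/

set_option autoImplicit false
set_option backward.isDefEq.respectTransparency false
set_option backward.isDefEq.respectTransparency.types false

universe u

open CategoryTheory CategoryTheory.Limits AlgebraicGeometry

noncomputable section

namespace Groth.StackCount

variable (k : Type u) [Field k] (k' : Type u) [Field k'] [Algebra k k'] (L : Type u) [Field L]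
  [Algebra k L] [Algebra k' L] [IsScalarTower k k' L]

/-- The morphism `Spec L ⟶ Spec k'` over `k`. -/
def toBase : SGA7.pt (K := k) L ⟶ SGA7.pt (K := k) k' :=
  Over.homMk (Spec.map (CommRingCat.ofHom (algebraMap k' L))) (by
    show Spec.map _ ≫ Spec.map _ = Spec.map _
    rw [← Spec.map_comp, ← CommRingCat.ofHom_comp, ← IsScalarTower.algebraMap_eq])

variable {k' L}

/-- An automorphism of `L` over `k'` as an automorphism of `Spec L` over `k`. -/
def gs (σ : L ≃ₐ[k'] L) : SGA7.pt (K := k) L ⟶ SGA7.pt (K := k) L :=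
  SGA7.specAut (σ.restrictScalars k)

theorem gs_left (σ : L ≃ₐ[k'] L) :
    (gs k σ).left = Spec.map (CommRingCat.ofHom (σ : L →ₐ[k'] L).toRingHom) := rfl

theorem gs_toBase (σ : L ≃ₐ[k'] L) : gs k σ ≫ toBase k k' L = toBase k k' L := by
  apply Over.OverMorphism.ext
  show Spec.map _ ≫ Spec.map _ = Spec.map _
  rw [← Spec.map_comp, ← CommRingCat.ofHom_comp]
  congr 2
  exact RingHom.ext fun x => σ.commutes x

theorem gs_mul (σ τ : L ≃ₐ[k'] L) : gs k (σ * τ) = gs k σ ≫ gs k τ := by
  apply Over.OverMorphism.ext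
  show Spec.map _ = Spec.map _ ≫ Spec.map _
  rw [← Spec.map_comp]
  rfl

theorem gs_one : gs k (1 : L ≃ₐ[k'] L) = 𝟙 _ := by
  apply Over.OverMorphism.ext
  show Spec.map _ = 𝟙 _
  exact Spec.map_id (CommRingCat.of L)

variable {k}

instance flat_toBase : Flat (toBase k k' L).left := by
  show Flat (Spec.map (CommRingCat.ofHom (algebraMap k' L)))
  rw [HasRingHomProperty.Spec_iff (P := @Flat)]
  exact RingHom.flat_algebraMap_iff.2 inferInstance

instance surjective_toBase : Surjective (toBase k k' L).left :=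
  inferInstanceAs (Surjective (Spec.map (CommRingCat.ofHom (algebraMap k' L))))

instance quasiCompact_toBase : QuasiCompact (toBase k k' L).left :=
  inferInstanceAs (QuasiCompact (Spec.map (CommRingCat.ofHom (algebraMap k' L))))

variable {P W : Over (Spec (CommRingCat.of k))} {π : P ⟶ SGA7.pt (K := k) k'} {p : W ⟶ P}
  {q : W ⟶ SGA7.pt (K := k) L}

theorem epi_proj (sq : IsPullback p q π (toBase k k' L)) : Epi p := by
  have sql := sq.map (Over.forget _)
  have h₁ : Flat p.left := MorphismProperty.of_isPullback (P := @Flat) sql.flip (flat_toBase (k := k))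
  have h₂ : Surjective p.left := MorphismProperty.of_isPullback (P := @Surjective) sql.flip (surjective_toBase (k := k))
  have h₃ : QuasiCompact p.left := MorphismProperty.of_isPullback (P := @QuasiCompact) sql.flip (quasiCompact_toBase (k := k))
  have : Epi p.left := Flat.epi_of_flat_of_surjective p.left
  exact Over.epi_of_epi_left p

variable [FiniteDimensional k' L] [IsGalois k' L]

/-- Galois invariant morphisms on `P ×_{k'} L` descend to `P`. -/
theorem existsUnique_desc (sq : IsPullback p q π (toBase k k' L)) (w : (L ≃ₐ[k'] L) → (W ⟶ W))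
    (hw₁ : ∀ σ, w σ ≫ p = p) (hw₂ : ∀ σ, w σ ≫ q = q ≫ gs k σ) {Z : Over (Spec (CommRingCat.of k))}
    (h : W ⟶ Z) (hinv : ∀ σ, w σ ≫ h = h) : ∃! f : P ⟶ Z, p ≫ f = h := by
  have := epi_proj sq
  let b : Spec (CommRingCat.of k') ⟶ Spec (CommRingCat.of k) := (SGA7.pt (K := k) k').hom
  let : P.left.Over (Spec (CommRingCat.of k')) := ⟨π.left⟩
  let : (pullback Z.hom b).Over (Spec (CommRingCat.of k')) := ⟨pullback.snd Z.hom b⟩
  have sql := sq.map (Over.forget _)
  let e : W.left ≅ Curv2.bc k' P.left L := sql.isoPullback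
  have he₁ : e.hom ≫ Curv2.bcFst k' P.left L = p.left := sql.isoPullback_hom_fst
  have he₂ : e.hom ≫ Curv2.bcSnd k' P.left L = q.left := sql.isoPullback_hom_snd
  have hπ : p.left ≫ π.left ≫ b = h.left ≫ Z.hom := by
    rw [Over.w π, Over.w p, Over.w h]
  let hZ : Curv2.bc k' P.left L ⟶ pullback Z.hom b :=
    e.inv ≫ pullback.lift h.left (p.left ≫ π.left) (by rw [Category.assoc, hπ])
  have hcond : hZ ≫ pullback.snd Z.hom b = Curv2.bcFst k' P.left L ≫ π.left := by
    rw [Category.assoc, pullback.lift_snd, ← he₁, Category.assoc, e.inv_hom_id_assoc]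
  let g : Curv2.bc k' P.left L ⟶ Curv2.bc k' (pullback Z.hom b) L :=
    pullback.lift hZ (Curv2.bcSnd k' P.left L) (hcond.trans pullback.condition)
  have hg₁ : g ≫ Curv2.bcFst k' (pullback Z.hom b) L = hZ := pullback.lift_fst _ _ _
  have hg₂ : g ≫ Curv2.bcSnd k' (pullback Z.hom b) L = Curv2.bcSnd k' P.left L := pullback.lift_snd _ _ _
  obtain ⟨f₀, hf₀, hfg⟩ := (Groth.Agent.S14400.result k' L P.left (pullback Z.hom b) g hg₂).2 fun σ => by
    have hwl : e.hom ≫ Curv2.galAct k' P.left L σ = (w σ).left ≫ e.hom := by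
      apply pullback.hom_ext
      · show (e.hom ≫ Curv2.galAct k' P.left L σ) ≫ Curv2.bcFst k' P.left L = _ ≫ Curv2.bcFst k' P.left L
        rw [Category.assoc, Category.assoc, he₁, ← Over.comp_left, hw₁,
          show Curv2.galAct k' P.left L σ ≫ Curv2.bcFst k' P.left L = Curv2.bcFst k' P.left L from
            (pullback.lift_fst _ _ _).trans (Category.comp_id _), he₁]
      · show (e.hom ≫ Curv2.galAct k' P.left L σ) ≫ Curv2.bcSnd k' P.left L = _ ≫ Curv2.bcSnd k' P.left L
        rw [Category.assoc, Category.assoc, he₂, ← Over.comp_left, hw₂,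
          show Curv2.galAct k' P.left L σ ≫ Curv2.bcSnd k' P.left L =
            Curv2.bcSnd k' P.left L ≫ Spec.map (CommRingCat.ofHom (σ : L →ₐ[k'] L).toRingHom) from
            pullback.lift_snd _ _ _, reassoc_of% he₂, Over.comp_left, gs_left]
    apply pullback.hom_ext
    · show (Curv2.galAct k' P.left L σ ≫ g) ≫ Curv2.bcFst k' (pullback Z.hom b) L =
        (g ≫ Curv2.galAct k' (pullback Z.hom b) L σ) ≫ Curv2.bcFst k' (pullback Z.hom b) L
      rw [Category.assoc, Category.assoc, hg₁,
        show Curv2.galAct k' (pullback Z.hom b) L σ ≫ Curv2.bcFst k' (pullback Z.hom b) L =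
          Curv2.bcFst k' (pullback Z.hom b) L from (pullback.lift_fst _ _ _).trans (Category.comp_id _),
        hg₁, ← cancel_epi e.hom, reassoc_of% hwl]
      simp only [hZ, e.hom_inv_id_assoc]
      apply pullback.hom_ext
      · rw [Category.assoc, pullback.lift_fst, ← Over.comp_left, hinv]
      · rw [Category.assoc, pullback.lift_snd, ← Category.assoc, ← Over.comp_left, hw₁]
    · show (Curv2.galAct k' P.left L σ ≫ g) ≫ Curv2.bcSnd k' (pullback Z.hom b) L =
        (g ≫ Curv2.galAct k' (pullback Z.hom b) L σ) ≫ Curv2.bcSnd k' (pullback Z.hom b) L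
      rw [Category.assoc, Category.assoc, hg₂,
        show Curv2.galAct k' (pullback Z.hom b) L σ ≫ Curv2.bcSnd k' (pullback Z.hom b) L =
            Curv2.bcSnd k' (pullback Z.hom b) L ≫ Spec.map (CommRingCat.ofHom (σ : L →ₐ[k'] L).toRingHom) from
            pullback.lift_snd _ _ _, reassoc_of% hg₂]
      exact pullback.lift_snd _ _ _
  replace hf₀ : f₀ ≫ pullback.snd Z.hom b = π.left := hf₀
  let f : P ⟶ Z := Over.homMk (f₀ ≫ pullback.fst Z.hom b) (by
    rw [Category.assoc, pullback.condition, reassoc_of% hf₀]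
    exact Over.w π)
  have hf : p ≫ f = h := by
    apply Over.OverMorphism.ext
    show p.left ≫ f₀ ≫ pullback.fst Z.hom b = h.left
    rw [← he₁, Category.assoc, ← Category.assoc (Curv2.bcFst k' P.left L), ← hfg, hg₁]
    simp only [hZ, Category.assoc, e.hom_inv_id_assoc, pullback.lift_fst]
  exact ⟨f, hf, fun f' hf' => by rw [← cancel_epi p, hf', hf]⟩

end Groth.StackCount
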