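import Groth.Agent.StackCount.Torsor
import Groth.Agent.Misc10.GalTw.Exist

/-!
# Torsors over `Spec k'` from Galois cocycles (helper34)
-/

set_option autoImplicit false
set_option backward.isDefEq.respectTransparency false
set_option backward.isDefEq.respectTransparency.types false

universe u

open CategoryTheory CategoryTheory.Limits MonoidalCategory CartesianMonoidalCategory MonObj GrpObj AlgebraicGeometry
open AlgSt Groth.AlgGrp2

noncomputable section

namespace Groth.StackCount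

variable {k : Type u} [Field k] {k' : Type u} [Field k'] [Algebra k k'] {L : Type u} [Field L]
  [Algebra k L] [Algebra k' L] [IsScalarTower k k' L]
  {G X : Over (Spec (CommRingCat.of k))} [GrpObj G]

theorem twMap_comp (a : (L ≃ₐ[k'] L) → (SGA7.pt (K := k) L ⟶ G))
    (hco : ∀ σ τ, a (σ * τ) = (gs k σ ≫ a τ) * a σ) (σ τ : L ≃ₐ[k'] L) :
    twMap (a σ) σ ≫ twMap (a τ) τ = twMap (a (σ * τ)) (σ * τ) := by
  apply CartesianMonoidalCategory.hom_ext
  · simp [twMap, hco, comp_mul, GrpObj.comp_inv, _root_.mul_assoc]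
  · simp [twMap, gs_mul]

theorem twMap_one (a : (L ≃ₐ[k'] L) → (SGA7.pt (K := k) L ⟶ G))
    (hco : ∀ σ τ, a (σ * τ) = (gs k σ ≫ a τ) * a σ) :
    twMap (a 1) (1 : L ≃ₐ[k'] L) = 𝟙 _ := by
  have h1 : a 1 = 1 := by
    have := hco 1 1
    rwa [_root_.mul_one, gs_one, Category.id_comp, left_eq_mul] at this
  apply CartesianMonoidalCategory.hom_ext
  · simp [twMap, h1]
  · simp [twMap, gs_one]

variable [FiniteDimensional k' L] [IsGalois k' L]

/-- The scheme underlying the twisted form of `G` by a cocycle. -/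
theorem exists_twist [IsAffineHom G.hom] (a : (L ≃ₐ[k'] L) → (SGA7.pt (K := k) L ⟶ G))
    (hco : ∀ σ τ, a (σ * τ) = (gs k σ ≫ a τ) * a σ) :
    ∃ (P : Over (Spec (CommRingCat.of k))) (π : P ⟶ SGA7.pt (K := k) k') (p : G ⊗ SGA7.pt (K := k) L ⟶ P),
      IsPullback p (snd G (SGA7.pt (K := k) L)) π (toBase k k' L) ∧ ∀ σ, twMap (a σ) σ ≫ p = p := by
  let b : Spec (CommRingCat.of k') ⟶ Spec (CommRingCat.of k) := (SGA7.pt (K := k) k').hom
  let bL : Spec (CommRingCat.of L) ⟶ Spec (CommRingCat.of k') := (SGA7.pt (K := k') L).hom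
  let G' : Over (Spec (CommRingCat.of k')) := Over.mk (pullback.snd G.hom b)
  let W := G ⊗ SGA7.pt (K := k) L
  have hb : bL ≫ b = (SGA7.pt (K := k) L).hom := Over.w (toBase k k' L)
  let χ : (GalTw.bcK L G').left ≅ W.left :=
    pullbackLeftPullbackSndIso G.hom b bL ≪≫ pullback.congrHom rfl hb
  have hχ₂ : χ.hom ≫ (snd G (SGA7.pt (K := k) L)).left = Groth.Misc10.GalTw.projK L G' := by
    show χ.hom ≫ pullback.snd G.hom (SGA7.pt (K := k) L).hom = pullback.snd (pullback.snd G.hom b) bL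
    simp [χ]
  have hχi : χ.inv ≫ Groth.Misc10.GalTw.projK L G' = (snd G (SGA7.pt (K := k) L)).left := by
    rw [← hχ₂, χ.inv_hom_id_assoc]
  let ρ : (L ≃ₐ[k'] L) → (W.left ⟶ W.left) := fun σ => (twMap (a σ) σ).left
  have hρ : ∀ σ τ, ρ σ ≫ ρ τ = ρ (σ * τ) := fun σ τ => by
    simp only [ρ]; rw [← Over.comp_left, twMap_comp a hco]
  have hρ1 : ρ 1 = 𝟙 _ := by simp only [ρ]; rw [twMap_one a hco]; rfl
  have hρ₂ : ∀ σ, ρ σ ≫ (snd G (SGA7.pt (K := k) L)).left =
      (snd G (SGA7.pt (K := k) L)).left ≫ GalTw.specMap L σ := fun σ => by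
    simp only [ρ]; rw [← Over.comp_left, twMap, lift_snd, Over.comp_left]; rfl
  let e : (L ≃ₐ[k'] L) → ((GalTw.bcK L G').left ≅ (GalTw.bcK L G').left) := fun σ =>
    { hom := GalTw.galMap L σ G' ≫ χ.hom ≫ ρ σ⁻¹ ≫ χ.inv
      inv := χ.hom ≫ ρ σ ≫ χ.inv ≫ GalTw.galMap L σ⁻¹ G'
      hom_inv_id := by
        simp only [Category.assoc, χ.inv_hom_id_assoc, reassoc_of% (hρ σ⁻¹ σ), inv_mul_cancel, hρ1,
          Category.id_comp, χ.hom_inv_id_assoc, GalTw.galMap_mul, mul_inv_cancel, GalTw.galMap_one]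
      inv_hom_id := by
        simp only [Category.assoc, GalTw.galMap_mul_assoc, inv_mul_cancel, GalTw.galMap_one, Category.id_comp,
          χ.inv_hom_id_assoc, reassoc_of% (hρ σ σ⁻¹), mul_inv_cancel, hρ1, χ.hom_inv_id] }
  have he : ∀ σ, (e σ).hom ≫ (GalTw.bcK L G').hom = (GalTw.bcK L G').hom := fun σ => by
    show (GalTw.galMap L σ G' ≫ χ.hom ≫ ρ σ⁻¹ ≫ χ.inv) ≫ Groth.Misc10.GalTw.projK L G' =
      Groth.Misc10.GalTw.projK L G'
    rw [Category.assoc, Category.assoc, Category.assoc, hχi, hρ₂, reassoc_of% hχ₂,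
      GalTw.galMap_snd_assoc, ← GalTw.specMap_mul, mul_inv_cancel, GalTw.specMap_one, Category.comp_id]
  let c : GpH1.OneCocycle (L ≃ₐ[k'] L) (Aut (GalTw.bcK L G')) :=
    ⟨fun σ => Over.isoMk (e σ) (he σ), fun σ τ => by
      apply Iso.ext
      apply Over.OverMorphism.ext
      show GalTw.galMap L (σ * τ) G' ≫ χ.hom ≫ ρ (σ * τ)⁻¹ ≫ χ.inv =
        ((GalTw.twIso σ (Over.isoMk (e τ) (he τ))).hom ≫ (Over.isoMk (e σ) (he σ)).hom).left
      simp only [Over.comp_left, GalTw.twIso_hom, GalTw.twHom_left, Over.isoMk_hom_left, e, Category.assoc,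
        GalTw.galMap_mul_assoc, inv_mul_cancel, GalTw.galMap_one, Category.id_comp, χ.inv_hom_id_assoc,
        reassoc_of% (hρ τ⁻¹ σ⁻¹), _root_.mul_inv_rev]⟩
  have : IsAffine G.left := isAffine_of_isAffineHom G.hom
  have : IsAffine W.left := by
    have : IsAffineHom (pullback.snd G.hom (SGA7.pt (K := k) L).hom) :=
      MorphismProperty.pullback_snd (P := @IsAffineHom) _ _ inferInstance
    have : IsAffine (SGA7.pt (K := k) L).left := inferInstanceAs (IsAffine (Spec (CommRingCat.of L)))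
    have : IsAffine (pullback G.hom (SGA7.pt (K := k) L).hom) :=
      isAffine_of_isAffineHom (pullback.snd G.hom (SGA7.pt (K := k) L).hom)
    exact this
  have : IsAffine (GalTw.bcK L G').left := IsAffine.of_isIso χ.hom
  obtain ⟨Y, ⟨Φ, hΦ⟩, -, -⟩ := Groth.Misc10.GalTw.exists_isTwist c fun z =>
    ⟨⊤, isAffineOpen_top _, fun σ => trivial⟩
  let pX : (GalTw.bcK L Y).left ⟶ Y.left := Groth.Misc10.GalTw.projX L Y
  have hp0 : (χ.inv ≫ Φ.inv.left ≫ pX) ≫ Y.hom ≫ b = W.hom := by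
    have h1 : Φ.inv.left ≫ Groth.Misc10.GalTw.projK L Y = Groth.Misc10.GalTw.projK L G' := Over.w Φ.inv
    rw [Category.assoc, Category.assoc,
      show pX ≫ Y.hom ≫ b = Groth.Misc10.GalTw.projK L Y ≫ bL ≫ b from by
        rw [← Category.assoc, ← Category.assoc]; exact congrArg (· ≫ b) pullback.condition,
      reassoc_of% h1, reassoc_of% hχi, hb]
    exact Over.w (snd G (SGA7.pt (K := k) L))
  let P : Over (Spec (CommRingCat.of k)) := Over.mk (Y.hom ≫ b)
  let π : P ⟶ SGA7.pt (K := k) k' := Over.homMk Y.hom rfl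
  let p : W ⟶ P := Over.homMk (χ.inv ≫ Φ.inv.left ≫ pX) hp0
  have sql : IsPullback (χ.inv ≫ Φ.inv.left ≫ pX) (snd G (SGA7.pt (K := k) L)).left Y.hom bL := by
    refine (IsPullback.of_hasPullback Y.hom bL).of_iso
      ((Over.forget _).mapIso Φ ≪≫ χ) (Iso.refl _) (Iso.refl _) (Iso.refl _) ?_ ?_ (by simp) (by simp)
    · show pullback.fst Y.hom bL ≫ 𝟙 _ = (Φ.hom.left ≫ χ.hom) ≫ χ.inv ≫ Φ.inv.left ≫ pX
      rw [Category.assoc, χ.hom_inv_id_assoc, ← Category.assoc Φ.hom.left, ← Over.comp_left, Φ.hom_inv_id]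
      simp [pX]; rfl
    · show pullback.snd Y.hom bL ≫ 𝟙 _ = (Φ.hom.left ≫ χ.hom) ≫ (snd G (SGA7.pt (K := k) L)).left
      rw [Category.assoc, hχ₂, Category.comp_id]
      exact (Over.w Φ.hom).symm
  refine ⟨P, π, p, IsPullback.of_map (Over.forget _) (Over.OverMorphism.ext sql.w) sql, fun σ => ?_⟩
  apply Over.OverMorphism.ext
  show ρ σ ≫ χ.inv ≫ Φ.inv.left ≫ pX = χ.inv ≫ Φ.inv.left ≫ pX
  have h := congrArg CommaMorphism.left (hΦ σ⁻¹ ▸ GalTw.cocycle_apply_hom Φ σ⁻¹ :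
    (c σ⁻¹).hom = _)
  simp only [c, Over.comp_left, GalTw.twIso_inv, GalTw.twHom_left, e, Category.assoc, _root_.inv_inv] at h
  replace h : χ.hom ≫ ρ σ ≫ χ.inv = Φ.inv.left ≫ GalTw.galMap L σ Y ≫ Φ.hom.left :=
    (cancel_epi (GalTw.galIso L σ⁻¹ G').hom).1 h
  have h' := congrArg (fun m => χ.inv ≫ m ≫ Φ.inv.left ≫ pX) h
  simp only [Category.assoc, χ.inv_hom_id_assoc] at h'
  rw [h', ← Category.assoc Φ.hom.left, ← Over.comp_left, Φ.hom_inv_id, Over.id_left, Category.id_comp,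
    show GalTw.galMap L σ Y ≫ pX = pX from GalTw.galMap_fst L σ Y]

/-- An object of the quotient stack with a point realising a cocycle and a compatible point of `X`. -/
theorem exists_obj [IsAffineHom G.hom] {K : Precoverage Scheme.{u}} {aX : AlgGrp.Action G X}
    (hK : Presieve.singleton (toBase k k' L).left ∈ K (SGA7.pt (K := k) k').left)
    (a : (L ≃ₐ[k'] L) → (SGA7.pt (K := k) L ⟶ G))
    (hco : ∀ σ τ, a (σ * τ) = (gs k σ ≫ a τ) * a σ)
    (x : SGA7.pt (K := k) L ⟶ X) (hx : ∀ σ, lift (a σ) x ≫ aX.act = gs k σ ≫ x) :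
    ∃ (A : (QuotSt K G aX).p.Fiber (SGA7.pt (K := k) k')) (s : Splitting A L),
      s.a = a ∧ s.pt ≫ A.1.φ = x := by
  obtain ⟨P, π, p, sq, hp⟩ := exists_twist a hco
  let t : (SGA7.pt (K := k) L) ⟶ P := lift (1 : (SGA7.pt (K := k) L) ⟶ G) (𝟙 (SGA7.pt (K := k) L)) ≫ p
  have htπ : t ≫ π = toBase k k' L := by
    simp only [t, Category.assoc, sq.w, lift_snd_assoc, Category.id_comp]
  have sqA : ∀ {A : Over (Spec (CommRingCat.of k))},
      IsPullback (A ◁ p) (snd A (G ⊗ (SGA7.pt (K := k) L)) ≫ snd G (SGA7.pt (K := k) L)) (snd A P ≫ π) (toBase k k' L) :=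
    (AlgSt.isPullback_whiskerLeft p).paste_vert sq
  obtain ⟨act, hact, -⟩ := existsUnique_desc (sqA (A := G)) (fun σ => G ◁ twMap (a σ) σ)
    (fun σ => by rw [← MonoidalCategory.whiskerLeft_comp, hp])
    (fun σ => by simp [twMap])
    ((AlgSt.leftMul G (SGA7.pt (K := k) L)).act ≫ p) fun σ => by
      rw [← Category.assoc, show (G ◁ twMap (a σ) σ) ≫ (AlgSt.leftMul G (SGA7.pt (K := k) L)).act = (AlgSt.leftMul G (SGA7.pt (K := k) L)).act ≫ twMap (a σ) σ from by
        apply CartesianMonoidalCategory.hom_ext <;> simp [twMap, AlgSt.leftMul, comp_mul, _root_.mul_assoc,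
          GrpObj.comp_inv], Category.assoc, hp]
  replace hact : (G ◁ p) ≫ act = (AlgSt.leftMul G (SGA7.pt (K := k) L)).act ≫ p := hact
  have hone : (η[G] ▷ P) ≫ act = (λ_ P).hom := by
    have : Epi (𝟙_ (Over (Spec (CommRingCat.of k))) ◁ p) := epi_proj sqA
    rw [← cancel_epi (𝟙_ (Over (Spec (CommRingCat.of k))) ◁ p), whisker_exchange_assoc, hact,
      ← Category.assoc, (AlgSt.leftMul G (SGA7.pt (K := k) L)).one_act, leftUnitor_naturality]
  have hmul : (μ[G] ▷ P) ≫ act = (α_ G G P).hom ≫ (G ◁ act) ≫ act := by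
    have : Epi ((G ⊗ G) ◁ p) := epi_proj sqA
    rw [← cancel_epi ((G ⊗ G) ◁ p), whisker_exchange_assoc, hact, ← Category.assoc,
      (AlgSt.leftMul G (SGA7.pt (K := k) L)).mul_act, associator_naturality_right_assoc,
      ← MonoidalCategory.whiskerLeft_comp_assoc, hact, MonoidalCategory.whiskerLeft_comp_assoc, hact]
    simp only [Category.assoc]
  let aP : AlgGrp.Action G P := ⟨act, hone, hmul⟩
  have haP : ∀ {Z : Over (Spec (CommRingCat.of k))} (g : Z ⟶ G) (y : Z ⟶ G ⊗ (SGA7.pt (K := k) L)),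
      lift g (y ≫ p) ≫ act = lift (g * (y ≫ fst G (SGA7.pt (K := k) L))) (y ≫ snd G (SGA7.pt (K := k) L)) ≫ p := fun g y => by
    rw [← lift_whiskerLeft_assoc, hact, ← Category.assoc]
    congr 1
    apply CartesianMonoidalCategory.hom_ext <;> simp [AlgSt.leftMul, comp_mul]
  have hinv : act ≫ π = snd G P ≫ π := by
    have := epi_proj (sqA (A := G))
    rw [← cancel_epi (G ◁ p), reassoc_of% hact, sq.w, whiskerLeft_snd_assoc, sq.w]
    simp [AlgSt.leftMul]
  have key : ∀ {Z : Over (Spec (CommRingCat.of k))} (y x : Z ⟶ P), y ≫ π = x ≫ π →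
      ∃! g : Z ⟶ G, lift g x ≫ act = y := by
    intro Z y x hxy
    let q := pullback.fst (x ≫ π) (toBase k k' L)
    let q₂ := pullback.snd (x ≫ π) (toBase k k' L)
    have sZ : IsPullback q q₂ (x ≫ π) (toBase k k' L) := IsPullback.of_hasPullback _ _
    let w : (L ≃ₐ[k'] L) → (pullback (x ≫ π) (toBase k k' L) ⟶ pullback (x ≫ π) (toBase k k' L)) := fun σ =>
      sZ.lift q (q₂ ≫ gs k σ) (by rw [sZ.w, Category.assoc, gs_toBase])
    have hw₁ : ∀ σ, w σ ≫ q = q := fun σ => sZ.lift_fst _ _ _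
    have hw₂ : ∀ σ, w σ ≫ q₂ = q₂ ≫ gs k σ := fun σ => sZ.lift_snd _ _ _
    let xt := sq.lift (q ≫ x) q₂ (by rw [Category.assoc, sZ.w])
    let yt := sq.lift (q ≫ y) q₂ (by rw [Category.assoc, hxy, sZ.w])
    have hxt : xt ≫ p = q ≫ x := sq.lift_fst _ _ _
    have hyt : yt ≫ p = q ≫ y := sq.lift_fst _ _ _
    have hxt₂ : xt ≫ snd G (SGA7.pt (K := k) L) = q₂ := sq.lift_snd _ _ _
    have hyt₂ : yt ≫ snd G (SGA7.pt (K := k) L) = q₂ := sq.lift_snd _ _ _
    have hwl : ∀ (m : pullback (x ≫ π) (toBase k k' L) ⟶ G ⊗ (SGA7.pt (K := k) L)) (z : Z ⟶ P), m ≫ p = q ≫ z →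
        m ≫ snd G (SGA7.pt (K := k) L) = q₂ → ∀ σ, w σ ≫ m = m ≫ twMap (a σ) σ := fun m z hm hm₂ σ => by
      apply sq.hom_ext
      · rw [Category.assoc, hm, reassoc_of% (hw₁ σ), Category.assoc, hp, hm]
      · rw [Category.assoc, hm₂, hw₂, Category.assoc, twMap, lift_snd, reassoc_of% hm₂]
    have hinvg : ∀ σ, w σ ≫ ((yt ≫ fst G (SGA7.pt (K := k) L)) * (xt ≫ fst G (SGA7.pt (K := k) L))⁻¹) = (yt ≫ fst G (SGA7.pt (K := k) L)) * (xt ≫ fst G (SGA7.pt (K := k) L))⁻¹ :=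
      fun σ => by
      rw [comp_mul, GrpObj.comp_inv, ← Category.assoc, ← Category.assoc, hwl yt y hyt hyt₂ σ,
        hwl xt x hxt hxt₂ σ]
      simp [twMap, comp_mul, GrpObj.comp_inv, reassoc_of% hxt₂, reassoc_of% hyt₂, _root_.mul_assoc]
    obtain ⟨g, hg, -⟩ := existsUnique_desc sZ w hw₁ hw₂ _ hinvg
    replace hg : q ≫ g = (yt ≫ fst G (SGA7.pt (K := k) L)) * (xt ≫ fst G (SGA7.pt (K := k) L))⁻¹ := hg
    have := epi_proj sZ
    refine ⟨g, ?_, fun g' hg' => ?_⟩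
    · show lift g x ≫ act = y
      rw [← cancel_epi q, comp_lift_assoc, ← hxt, haP, hxt₂, hg, _root_.inv_mul_cancel_right, ← hyt₂,
        ← comp_lift, lift_fst_snd, Category.comp_id, hyt]
    · rw [← cancel_epi q, hg]
      have h' := congrArg (q ≫ ·) hg'
      simp only [comp_lift_assoc, ← hxt, haP, hxt₂, ← hyt] at h'
      have e : lift ((q ≫ g') * (xt ≫ fst G (SGA7.pt (K := k) L))) q₂ = yt := sq.hom_ext h' (by rw [lift_snd, hyt₂])
      rw [← congrArg (· ≫ fst G (SGA7.pt (K := k) L)) e, lift_fst, _root_.mul_inv_cancel_right]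
  have cart : IsPullback act (snd G P) π π := by
    refine ⟨⟨hinv⟩, ⟨PullbackCone.IsLimit.mk _
      (fun s => lift (key s.fst s.snd s.condition).choose s.snd)
      (fun s => (key s.fst s.snd s.condition).choose_spec.1) (fun s => lift_snd _ _) fun s m h₁ h₂ => ?_⟩⟩
    apply CartesianMonoidalCategory.hom_ext
    · rw [lift_fst]
      refine (key s.fst s.snd s.condition).choose_spec.2 _ ?_
      show lift (m ≫ fst G P) s.snd ≫ act = s.fst
      rw [← h₂, ← comp_lift_assoc, lift_fst_snd, Category.id_comp]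
      exact h₁
    · rw [lift_snd, h₂]
  have hta : ∀ σ, lift (a σ) t ≫ act = gs k σ ≫ t := fun σ => by
    simp only [t, haP]
    conv_lhs => rw [← hp σ]
    rw [← Category.assoc, ← Category.assoc]
    congr 1
    apply CartesianMonoidalCategory.hom_ext <;> simp [twMap, comp_mul, GrpObj.comp_inv]
  obtain ⟨φ, ⟨hφ₁, hφ₂⟩, -⟩ := existsUnique_map aP cart t htπ aX x fun σ g hg => by
    rw [act_injective aP cart (hg.trans (hta σ).symm)]
    exact hx σ
  let A : QuotObj K G aX :=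
    { base := SGA7.pt (K := k) k', P := P, act := aP, π := π, cart := cart
      loc := ⟨_, hK, fun _ f hf => by
        cases hf
        exact ⟨t.left, congrArg CommaMorphism.left htπ⟩⟩
      φ := φ, eqv := hφ₁ }
  exact ⟨⟨A, rfl⟩, ⟨t, by simp [fπ, A, htπ], a, hta⟩, rfl, hφ₂⟩

end Groth.StackCount
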