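import Groth.Agent.StackCount.Level
import Groth.Agent.StackCount.Twist
import Mathlib.FieldTheory.KrullTopology

/-!
# The groupoid `[X/G](k')` in terms of points over an algebraic closure (helper34)
-/

set_option autoImplicit false
set_option backward.isDefEq.respectTransparency false
set_option backward.isDefEq.respectTransparency.types false

universe u

open CategoryTheory CategoryTheory.Limits MonoidalCategory CartesianMonoidalCategory MonObj GrpObj AlgebraicGeometry
open AlgSt Groth.AlgGrp2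

noncomputable section

namespace Groth.StackCount

variable {k : Type u} [Field k] {k' : Type u} [Field k'] [Algebra k k'] {kb : Type u} [Field kb]
  [Algebra k kb] [Algebra k' kb] [IsScalarTower k k' kb] [IsGalois k' kb]
  {G X : Over (Spec (CommRingCat.of k))} [GrpObj G] [LocallyOfFiniteType G.hom]
  {K : Precoverage Scheme.{u}} {aX : AlgGrp.Action G X}

/-- A level splitting a finite family of points. -/
theorem exists_galois_level (S : Finset kb) :
    ∃ E : IntermediateField k' kb, FiniteDimensional k' E ∧ Normal k' E ∧ IsGalois k' E ∧ (S : Set kb) ⊆ E := by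
  obtain ⟨E, hd, hn, hS⟩ := exists_normal_level (k' := k') S
  exact ⟨E, hd, hn, isGalois_iff.2 ⟨inferInstance, hn⟩, hS⟩

/-- A locally constant function on the Galois group factors through a finite level. -/
theorem exists_level_of_isLocallyConstant {α : Type*} {f : (kb ≃ₐ[k'] kb) → α} (hf : IsLocallyConstant f) :
    ∃ S : Finset kb, ∀ τ : kb ≃ₐ[k'] kb, (∀ x ∈ S, τ x = x) → f τ = f 1 := by
  obtain ⟨E₀, _, hE₀⟩ := (krullTopology_mem_nhds_one_iff k' kb _).1
    ((hf.isOpen_fiber (f 1)).mem_nhds rfl)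
  obtain ⟨S, hS⟩ : E₀.FG := IntermediateField.essFiniteType_iff.1 inferInstance
  refine ⟨S, fun τ hτ => hE₀ ((IntermediateField.mem_fixingSubgroup_iff _ _).2 fun x hx => ?_)⟩
  rw [← hS] at hx
  induction hx using IntermediateField.adjoin_induction with
  | mem y hy => exact hτ y hy
  | algebraMap r => exact τ.commutes r
  | add a b _ _ ha hb => rw [map_add, ha, hb]
  | inv a _ ha => rw [map_inv₀, ha]
  | mul a b _ _ ha hb => rw [map_mul, ha, hb]

/-- A geometric point of an object over `Spec k'` together with its cocycle. -/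
structure KPoint (A : (QuotSt K G aX).p.Fiber (SGA7.pt (K := k) k')) (kb : Type u) [Field kb]
    [Algebra k kb] [Algebra k' kb] [IsScalarTower k k' kb] where
  /-- the point -/
  pt : SGA7.pt (K := k) kb ⟶ A.1.P
  pt_π : pt ≫ fπ A = toBase k k' kb
  /-- its cocycle -/
  a : (kb ≃ₐ[k'] kb) → (SGA7.pt (K := k) kb ⟶ G)
  ha : ∀ σ, lift (a σ) pt ≫ A.1.act.act = gs k σ ≫ pt

variable {A B : (QuotSt K G aX).p.Fiber (SGA7.pt (K := k) k')}

/-- A geometric point from a morphism. -/
def KPoint.mk' (t : SGA7.pt (K := k) kb ⟶ A.1.P) (ht : t ≫ fπ A = toBase k k' kb) : KPoint A kb where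
  pt := t
  pt_π := ht
  a σ := (exists_galois_eq A.1.act (cart_fπ A) t ht σ).choose
  ha σ := (exists_galois_eq A.1.act (cart_fπ A) t ht σ).choose_spec

omit [IsGalois k' kb] [LocallyOfFiniteType G.hom] in
theorem KPoint.cocycle (s : KPoint A kb) (σ τ : kb ≃ₐ[k'] kb) :
    s.a (σ * τ) = (gs k σ ≫ s.a τ) * s.a σ := by
  refine act_injective A.1.act (cart_fπ A) ((s.ha (σ * τ)).trans ?_)
  rw [gs_mul, Category.assoc, ← s.ha τ, comp_lift_assoc, ← s.ha σ, ← lift_mul_act]

omit [LocallyOfFiniteType G.hom] in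
/-- A geometric point at a finite level. -/
theorem KPoint.exists_splitting (s : KPoint A kb) (E : IntermediateField k' kb) [Normal k' E]
    (tE : SGA7.pt (K := k) E ⟶ A.1.P) (htE : jot E ≫ tE = s.pt) :
    ∃ sE : Splitting A E, sE.pt = tE ∧ ∀ σ : kb ≃ₐ[k'] kb, jot E ≫ sE.a (σ.restrictNormal E) = s.a σ := by
  have hπ : tE ≫ fπ A = toBase k k' E :=
    jot_injective E (by rw [← Category.assoc, htE, s.pt_π, jot_toBase])
  refine ⟨Splitting.mk' tE hπ, rfl, fun σ => act_injective A.1.act (cart_fπ A) (x := s.pt) ?_⟩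
  rw [s.ha σ, ← htE, ← comp_lift_assoc]
  show jot E ≫ lift ((Splitting.mk' tE hπ).a _) (Splitting.mk' tE hπ).pt ≫ A.1.act.act = _
  rw [(Splitting.mk' tE hπ).ha (σ.restrictNormal E), ← Category.assoc, ← gs_jot, Category.assoc]
  rfl

omit [LocallyOfFiniteType G.hom] in
theorem KPoint.isLocallyConstant (s : KPoint A kb) (hA : LocallyOfFiniteType A.1.P.hom) :
    IsLocallyConstant s.a := by
  obtain ⟨S, hS⟩ := exists_finset_level (k' := k') s.pt
  obtain ⟨E, _, _, _, hSE⟩ := exists_galois_level (k' := k') S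
  obtain ⟨tE, htE⟩ := hS E hSE
  obtain ⟨sE, -, hsE⟩ := s.exists_splitting E tE htE
  rw [IsLocallyConstant.iff_exists_open]
  intro σ
  refine ⟨(fun τ => σ⁻¹ * τ) ⁻¹' E.fixingSubgroup,
    (E.fixingSubgroup_isOpen).preimage (continuous_const_mul _), by simp, fun τ hτ => ?_⟩
  rw [← hsE τ, ← hsE σ]
  congr 2
  refine AlgEquiv.ext fun x => Subtype.ext ?_
  have h1 := (IntermediateField.mem_fixingSubgroup_iff _ _).1 hτ x x.2
  have h2 := σ.restrictNormal_commutes E x
  have h3 := τ.restrictNormal_commutes E x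
  refine h3.trans (Eq.trans ?_ h2.symm)
  exact (congrArg σ h1).symm.trans (σ.apply_symm_apply _) |>.symm

theorem exists_homEquiv_kb (hA : LocallyOfFiniteType A.1.P.hom) (hB : LocallyOfFiniteType B.1.P.hom)
    (sA : KPoint A kb) (sB : KPoint B kb) :
    ∃ e : (A ⟶ B) ≃ {g : SGA7.pt (K := k) kb ⟶ G // lift g (sB.pt ≫ B.1.φ) ≫ aX.act = sA.pt ≫ A.1.φ ∧
      ∀ σ, (gs k σ ≫ g) * sB.a σ = sA.a σ * g}, ∀ f, lift (e f).1 sB.pt ≫ B.1.act.act = sA.pt ≫ f.1.top := by
  classical
  have cA := cart_fπ A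
  have cB := cart_fπ B
  have hto : ∀ f : A ⟶ B, ∃ g, lift g sB.pt ≫ B.1.act.act = sA.pt ≫ f.1.top :=
    fun f => exists_act_eq B.1.act cB _ _ (by rw [sB.pt_π, Category.assoc, hom_π, sA.pt_π])
  choose g hg using hto
  have hmem : ∀ f, lift (g f) (sB.pt ≫ B.1.φ) ≫ aX.act = sA.pt ≫ A.1.φ ∧
      ∀ σ, (gs k σ ≫ g f) * sB.a σ = sA.a σ * g f := fun f => ⟨by
    rw [← lift_whiskerLeft_assoc, ← B.1.eqv, reassoc_of% (hg f), f.1.wφ], fun σ => by
    refine act_injective B.1.act cB (x := sB.pt) ?_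
    rw [lift_mul_act, sB.ha, ← comp_lift_assoc, hg, lift_mul_act, hg]
    rw [← lift_whiskerLeft_assoc, ← f.1.eqv, reassoc_of% (sA.ha σ)]⟩
  refine ⟨Equiv.ofBijective (fun f => ⟨g f, hmem f⟩) ⟨fun f f' h => ?_, fun q => ?_⟩, hg⟩
  · obtain ⟨S, hS⟩ := exists_finset_level (k' := k') sA.pt
    obtain ⟨E, _, _, _, hSE⟩ := exists_galois_level (k' := k') S
    obtain ⟨tE, htE⟩ := hS E hSE
    obtain ⟨sE, hsE, -⟩ := sA.exists_splitting E tE htE
    refine hom_ext_of_point sE.pt sE.pt_π (jot_injective E ?_)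
    rw [hsE, reassoc_of% htE, reassoc_of% htE, ← hg, ← hg, show g f = g f' from congrArg Subtype.val h]
  · obtain ⟨q, hq₁, hq₂⟩ := q
    obtain ⟨S₁, hS₁⟩ := exists_finset_level (k' := k') sA.pt
    obtain ⟨S₂, hS₂⟩ := exists_finset_level (k' := k') sB.pt
    obtain ⟨S₃, hS₃⟩ := exists_finset_level (k' := k') q
    obtain ⟨E, _, _, _, hSE⟩ := exists_galois_level (k' := k') (S₁ ∪ S₂ ∪ S₃)
    simp only [Finset.coe_union, Set.union_subset_iff] at hSE
    obtain ⟨tA, htA⟩ := hS₁ E hSE.1.1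
    obtain ⟨tB, htB⟩ := hS₂ E hSE.1.2
    obtain ⟨qE, hqE⟩ := hS₃ E hSE.2
    obtain ⟨sAE, hA₁, hA₂⟩ := sA.exists_splitting E tA htA
    obtain ⟨sBE, hB₁, hB₂⟩ := sB.exists_splitting E tB htB
    subst hA₁ hB₁
    obtain ⟨e, he⟩ := exists_homEquiv sAE sBE
    have hqm : lift qE (sBE.pt ≫ B.1.φ) ≫ aX.act = sAE.pt ≫ A.1.φ := jot_injective E (by
      rw [comp_lift_assoc, hqE, reassoc_of% htB, reassoc_of% htA, hq₁])
    have hqc : ∀ τ : E ≃ₐ[k'] E, (gs k τ ≫ qE) * sBE.a τ = sAE.a τ * qE := fun τ => jot_injective E (by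
      rw [comp_mul, comp_mul, hqE, show τ = (τ.liftNormal kb).restrictNormal E from
        (AlgEquiv.restrict_liftNormal τ (E := kb)).symm, hA₂, hB₂, ← Category.assoc, ← gs_jot, Category.assoc, hqE]
      exact hq₂ _)
    refine ⟨e.symm ⟨qE, hqm, hqc⟩, Subtype.ext (act_injective B.1.act cB ((hg _).trans ?_))⟩
    have h' := congrArg (jot E ≫ ·) (he (e.symm ⟨qE, hqm, hqc⟩))
    simp only [e.apply_symm_apply, comp_lift_assoc] at h'
    rw [hqE, htB, reassoc_of% htA] at h'
    exact h'.symm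

/-- Existence of objects with a prescribed cocycle and point. -/
theorem exists_obj_kb [IsAffineHom G.hom] [LocallyOfFiniteType X.hom]
    (hK : ∀ E : IntermediateField k' kb, FiniteDimensional k' E → IsGalois k' E →
      Presieve.singleton (toBase k k' E).left ∈ K (SGA7.pt (K := k) k').left)
    (a : (kb ≃ₐ[k'] kb) → (SGA7.pt (K := k) kb ⟶ G)) (hlc : IsLocallyConstant a)
    (hco : ∀ σ τ, a (σ * τ) = (gs k σ ≫ a τ) * a σ)
    (x : SGA7.pt (K := k) kb ⟶ X) (hx : ∀ σ, lift (a σ) x ≫ aX.act = gs k σ ≫ x) :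
    ∃ (A : (QuotSt K G aX).p.Fiber (SGA7.pt (K := k) k')) (s : KPoint A kb),
      s.a = a ∧ s.pt ≫ A.1.φ = x := by
  classical
  obtain ⟨S₀, hS₀⟩ := exists_level_of_isLocallyConstant hlc
  obtain ⟨S₁, hS₁⟩ := exists_finset_level (k' := k') x
  have hfin : (Set.range a).Finite := hlc.range_finite
  choose lev hlev using fun g : hfin.toFinset => exists_finset_level (k' := k') (g : SGA7.pt (K := k) kb ⟶ G)
  obtain ⟨E, hd, _, hgal, hSE⟩ := exists_galois_level (k' := k') (S₀ ∪ S₁ ∪ hfin.toFinset.attach.biUnion lev)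
  simp only [Finset.coe_union, Set.union_subset_iff, Finset.coe_biUnion, Set.iUnion_subset_iff] at hSE
  obtain ⟨xE, hxE⟩ := hS₁ E hSE.1.2
  choose aE haE using fun τ : E ≃ₐ[k'] E => hlev ⟨a (τ.liftNormal kb), hfin.mem_toFinset.2 ⟨_, rfl⟩⟩ E
    (hSE.2 _ (Finset.mem_attach _ _))
  have ha1 : a 1 = 1 := by
    have := hco 1 1
    rwa [_root_.mul_one, gs_one, Category.id_comp, left_eq_mul] at this
  have hdep : ∀ σ, jot E ≫ aE (σ.restrictNormal E) = a σ := fun σ => by
    rw [haE]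
    let σ' := (σ.restrictNormal E).liftNormal kb
    have hfix : a (σ'⁻¹ * σ) = 1 := by
      rw [← ha1]
      refine hS₀ _ fun y hy => ?_
      have hy' : y ∈ E := hSE.1.1 hy
      have e : σ y = σ' y := by
        have h1 := σ.restrictNormal_commutes E ⟨y, hy'⟩
        have h2 := (σ.restrictNormal E).liftNormal_commutes kb ⟨y, hy'⟩
        exact h1.symm.trans h2.symm
      rw [AlgEquiv.mul_apply, e, ← AlgEquiv.mul_apply, inv_mul_cancel]
      rfl
    conv_rhs => rw [← mul_inv_cancel_left σ' σ, hco, hfix, comp_one, _root_.one_mul]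
  have hcoE : ∀ τ τ', aE (τ * τ') = (gs k τ ≫ aE τ') * aE τ := fun τ τ' => jot_injective E (by
    have e : τ * τ' = (τ.liftNormal kb * τ'.liftNormal kb).restrictNormal E := by
      rw [show (τ.liftNormal kb * τ'.liftNormal kb).restrictNormal E =
        (τ.liftNormal kb).restrictNormal E * (τ'.liftNormal kb).restrictNormal E from
          map_mul (AlgEquiv.restrictNormalHom E) _ _, AlgEquiv.restrict_liftNormal,
        AlgEquiv.restrict_liftNormal]
    conv_lhs => rw [e, hdep, hco]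
    have e' : gs k (τ.liftNormal kb) ≫ a (τ'.liftNormal kb) = (jot E ≫ gs k τ) ≫ aE τ' := by
      rw [show a (τ'.liftNormal kb) = jot E ≫ aE τ' from (haE τ').symm, ← Category.assoc, gs_jot,
        AlgEquiv.restrict_liftNormal]
    rw [comp_mul, ← Category.assoc, ← e', haE])
  have hxE' : ∀ τ, lift (aE τ) xE ≫ aX.act = gs k τ ≫ xE := fun τ => jot_injective E (by
    rw [comp_lift_assoc, haE, hxE, hx, ← hxE, ← Category.assoc, gs_jot, AlgEquiv.restrict_liftNormal,
      Category.assoc])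
  obtain ⟨A, sE, hsa, hsx⟩ := exists_obj (hK E hd hgal) aE hcoE xE hxE'
  refine ⟨A, ⟨jot E ≫ sE.pt, by rw [Category.assoc, sE.pt_π, jot_toBase], a, fun σ => ?_⟩, rfl, ?_⟩
  · rw [← hdep σ, ← comp_lift_assoc, ← hsa, sE.ha (σ.restrictNormal E), ← Category.assoc, ← gs_jot,
      Category.assoc]
  · rw [Category.assoc, hsx, hxE]

end Groth.StackCount
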