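import Groth.Agent.StackCount.Dominant
import Groth.Agent.StackCount.GalDesc
import Groth.Agent.AlgGrp1.FrobPow
import Groth.Agent.AlgGrp1.Geom

/-!
# Lang's theorem for a twisted Frobenius on a smooth connected group of finite type
-/

set_option autoImplicit false
set_option backward.isDefEq.respectTransparency false
set_option backward.isDefEq.respectTransparency.types false

universe u

open CategoryTheory CategoryTheory.Limits MonoidalCategory CartesianMonoidalCategory MonObj GrpObj AlgebraicGeometry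
open Groth.AlgGrp1

noncomputable section

namespace Groth.StackCount.Lang

section Power

variable (p : ℕ) [Fact p.Prime]

theorem Fp_appTop (X : Scheme.{u}) [FrobSch.IsCharP X p] : ∀ (r : ℕ) (s : Γ(X, ⊤)),
    (FrobPow.Fp X p r).appTop s = s ^ p ^ r
  | 0, s => by
    rw [pow_zero, pow_one]
    rfl
  | r + 1, s => by
    show ((FrobPow.Fp X p r).appTop) ((FrobSch.frob X p).appTop s) = _
    rw [FrobSch.frob_appTop, map_pow, Fp_appTop X r, ← pow_mul, pow_succ]

/-- The ring map of a power of Frobenius of an affine scheme. -/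
theorem preimage_Fp_apply (R : CommRingCat.{u}) [FrobSch.IsCharP (Spec R) p] (r : ℕ) (x : R) :
    Spec.preimage (FrobPow.Fp (Spec R) p r) x = x ^ p ^ r := by
  have h := ConcreteCategory.congr_hom
    (Scheme.ΓSpecIso_inv_naturality (Spec.preimage (FrobPow.Fp (Spec R) p r))) x
  rw [CommRingCat.comp_apply, CommRingCat.comp_apply, Spec.map_preimage, Fp_appTop, ← map_pow] at h
  exact (Scheme.ΓSpecIso R).commRingCatIsoToRingEquiv.symm.injective h

end Power

variable {k : Type u} [Field k] [Finite k]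

/-- The `#k`-Frobenius of a `k`-scheme, with its defining properties. -/
theorem exists_qFrob (G : Over (Spec (CommRingCat.of k))) :
    ∃ F : G ⟶ G,
      (∀ (R S : CommRingCat.{u}) (φ : R ⟶ S), Function.Surjective φ → RingHom.ker φ.hom ^ 2 = ⊥ →
        ∀ g₁ g₂ : Spec R ⟶ G.left, g₁ ≫ G.hom = g₂ ≫ G.hom → Spec.map φ ≫ g₁ = Spec.map φ ≫ g₂ →
          g₁ ≫ F.left = g₂ ≫ F.left) ∧
      ∀ (K : Type u) [Field K] [Algebra k K] (π : K ≃ₐ[k] K), (∀ x, π x = x ^ Nat.card k) →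
        ∀ x : SGA7.pt (K := k) K ⟶ G, x ≫ F = gs k π ≫ x := by
  let := Fintype.ofFinite k
  obtain ⟨p, _, r, hp, hcard⟩ := FiniteField.card' k
  have : Fact p.Prime := ⟨hp⟩
  have hq : Nat.card k = p ^ (r : ℕ) := by rw [Nat.card_eq_fintype_card, hcard]
  have h2 : 2 ≤ Nat.card k := Finite.one_lt_card
  have : FrobSch.IsCharP G.left p := FrobSch.IsCharP.of_hom G.hom p
  have hk : FrobPow.Fp (Spec (CommRingCat.of k)) p r = 𝟙 _ := by
    rw [← Spec.map_preimage (FrobPow.Fp (Spec (CommRingCat.of k)) p r), ← Spec.map_id]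
    congr 1
    ext x
    rw [preimage_Fp_apply, ← hq, Nat.card_eq_fintype_card]
    exact FiniteField.pow_card x
  refine ⟨Over.homMk (FrobPow.Fp G.left p r) (by rw [FrobPow.Fp_comp, hk, Category.comp_id]), ?_, ?_⟩
  · intro R S φ hφ hker g₁ g₂ _ h
    have : FrobSch.IsCharP (Spec R) p := FrobSch.IsCharP.of_hom (g₁ ≫ G.hom) p
    show g₁ ≫ FrobPow.Fp G.left p r = g₂ ≫ FrobPow.Fp G.left p r
    rw [← FrobPow.Fp_comp, ← FrobPow.Fp_comp, ← Spec.map_preimage (FrobPow.Fp (Spec R) p r)]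
    let χ := (Spec.preimage (FrobPow.Fp (Spec R) p r)).hom
    have hle : RingHom.ker φ.hom ≤ RingHom.ker χ := fun x hx => by
      rw [RingHom.mem_ker]
      show Spec.preimage (FrobPow.Fp (Spec R) p r) x = 0
      rw [preimage_Fp_apply, ← hq]
      have : x ^ Nat.card k ∈ RingHom.ker φ.hom ^ 2 :=
        Ideal.pow_le_pow_right h2 (Ideal.pow_mem_pow hx _)
      rwa [hker] at this
    let ψ : S ⟶ R := CommRingCat.ofHom (RingHom.liftOfSurjective φ.hom hφ ⟨χ, hle⟩)
    have e : Spec.preimage (FrobPow.Fp (Spec R) p r) = φ ≫ ψ := by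
      ext x
      exact (RingHom.liftOfRightInverse_comp_apply φ.hom _ (Function.rightInverse_surjInv hφ) ⟨χ, hle⟩ x).symm
    rw [e, Spec.map_comp, Category.assoc, Category.assoc, h]
  · intro K _ _ π hπ x
    have : CharP K p := charP_of_injective_algebraMap (algebraMap k K).injective p
    have : FrobSch.IsCharP (SGA7.pt (K := k) K).left p := FrobSch.isCharP_Spec K p
    apply Over.OverMorphism.ext
    show x.left ≫ FrobPow.Fp G.left p r = (gs k π).left ≫ x.left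
    show x.left ≫ _ = Spec.map (CommRingCat.ofHom _) ≫ x.left
    rw [← FrobPow.Fp_comp]
    congr 1
    show FrobPow.Fp (Spec (CommRingCat.of K)) p r = Spec.map _
    rw [← Spec.map_preimage (FrobPow.Fp (Spec (CommRingCat.of K)) p r)]
    congr 1
    ext y
    rw [preimage_Fp_apply, ← hq]
    exact (hπ y).symm

/-- **Lang's theorem**: for a smooth connected group of finite type over a finite field and a family of
endomorphisms `φ` parametrised by a geometric point, every point has the form `x * φ(F x)⁻¹`. -/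
theorem exists_twisted {G : Over (Spec (CommRingCat.of k))} [GrpObj G] [Smooth G.hom] [QuasiCompact G.hom]
    [ConnectedSpace G.left] (K : Type u) [Field K] [Algebra k K] [IsAlgClosed K]
    (π : K ≃ₐ[k] K) (hπ : ∀ x, π x = x ^ Nat.card k) (φ : G ⊗ SGA7.pt (K := k) K ⟶ G)
    (hφ : ∀ x y : SGA7.pt (K := k) K ⟶ G,
      lift (x * y) (𝟙 _) ≫ φ = (lift x (𝟙 _) ≫ φ) * (lift y (𝟙 _) ≫ φ))
    (a : SGA7.pt (K := k) K ⟶ G) :
    ∃ x : SGA7.pt (K := k) K ⟶ G, x * (lift (gs k π ≫ x) (𝟙 _) ≫ φ)⁻¹ = a := by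
  let T := SGA7.pt (K := k) K
  obtain ⟨F, hFinf, hFpt⟩ := exists_qFrob G
  have := geometricallyIntegral_of_smooth G
  have : IsIntegral (G ⊗ T).left :=
    GeometricallyIntegral.geometrically_isIntegral (f := G.hom) _ _ _ (IsPullback.of_hasPullback G.hom T.hom)
  let s : (G ⊗ T).left ⟶ Spec (CommRingCat.of K) := (snd G T).left
  have : LocallyOfFiniteType s := inferInstanceAs (LocallyOfFiniteType (pullback.snd G.hom T.hom))
  let E : G ⊗ T ⟶ G := lift (fst G T ≫ F) (snd G T) ≫ φ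
  let L : (T ⟶ G) → (G ⊗ T ⟶ G ⊗ T) := fun b => lift (fst G T * (snd G T ≫ b) * E⁻¹) (snd G T)
  have hLs : ∀ b, (L b).left ≫ s = s := fun b => by
    show (L b ≫ snd G T).left = _
    rw [lift_snd]
  have hLu : ∀ b, FormallyUnramified (L b).left := fun b => by
    refine AlgebraicGeometry.FormallyUnramified.of_hom_ext _ fun R S ψ hψ hker g₁ g₂ hi hL => ?_
    have hover : g₂ ≫ (G ⊗ T).hom = g₁ ≫ (G ⊗ T).hom := by
      rw [← Over.w (L b), ← Category.assoc, ← hL, Category.assoc]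
    let Z : Over (Spec (CommRingCat.of k)) := Over.mk (g₁ ≫ (G ⊗ T).hom)
    let u₁ : Z ⟶ G ⊗ T := Over.homMk g₁ rfl
    let u₂ : Z ⟶ G ⊗ T := Over.homMk g₂ hover
    have hu : u₁ ≫ L b = u₂ ≫ L b := Over.OverMorphism.ext hL
    have hs : u₁ ≫ snd G T = u₂ ≫ snd G T := by
      simpa [L, Category.assoc] using congrArg (· ≫ snd G T) hu
    have hF : (u₁ ≫ fst G T) ≫ F = (u₂ ≫ fst G T) ≫ F := by
      apply Over.OverMorphism.ext
      refine hFinf R S ψ hψ hker _ _ ?_ ?_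
      · rw [Over.w (u₁ ≫ fst G T), Over.w (u₂ ≫ fst G T)]
      · show Spec.map ψ ≫ g₁ ≫ (fst G T).left = Spec.map ψ ≫ g₂ ≫ (fst G T).left
        rw [reassoc_of% hi]
    have hE : u₁ ≫ E = u₂ ≫ E := by
      show u₁ ≫ lift _ _ ≫ φ = u₂ ≫ lift _ _ ≫ φ
      rw [comp_lift_assoc, comp_lift_assoc, ← Category.assoc, hF, hs, ← Category.assoc u₂]
    have h1 := congrArg (· ≫ fst G T) hu
    simp only [L, Category.assoc, lift_fst, MonObj.comp_mul, GrpObj.comp_inv, hE] at h1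
    rw [← Category.assoc u₁ (snd G T), hs, Category.assoc] at h1
    have h2 := mul_right_cancel (mul_right_cancel h1)
    have : u₁ = u₂ := CartesianMonoidalCategory.hom_ext _ _ h2 hs
    exact congrArg CommaMorphism.left this
  obtain ⟨p₁, p₂, hp₁, hp₂, hpp⟩ := exists_common_value s (L 1).left (L a).left (hLs 1) (hLs a)
  have hpt : ∀ q : Spec (CommRingCat.of K) ⟶ (G ⊗ T).left, q ≫ s = 𝟙 _ → q ≫ (G ⊗ T).hom = T.hom := by
    intro q hq
    rw [← Over.w (snd G T)]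
    exact (reassoc_of% hq) _
  let x₁ : T ⟶ G ⊗ T := Over.homMk p₁ (hpt p₁ hp₁)
  let x₂ : T ⟶ G ⊗ T := Over.homMk p₂ (hpt p₂ hp₂)
  have hx₁ : x₁ ≫ snd G T = 𝟙 T := Over.OverMorphism.ext hp₁
  have hx₂ : x₂ ≫ snd G T = 𝟙 T := Over.OverMorphism.ext hp₂
  have hx : x₁ ≫ L 1 = x₂ ≫ L a := Over.OverMorphism.ext hpp
  let τ : (T ⟶ G) →* (T ⟶ G) := MonoidHom.mk' (fun u => lift (gs k π ≫ u) (𝟙 T) ≫ φ) fun u v => by
    show lift (gs k π ≫ (u * v)) _ ≫ φ = _
    rw [MonObj.comp_mul]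
    exact hφ _ _
  have hEv : ∀ x : T ⟶ G ⊗ T, x ≫ snd G T = 𝟙 T → x ≫ E = τ (x ≫ fst G T) := fun x h => by
    show x ≫ lift _ _ ≫ φ = lift _ _ ≫ φ
    rw [comp_lift_assoc, h, ← Category.assoc, hFpt K π hπ]
  have h1 := congrArg (· ≫ fst G T) hx
  simp only [L, Category.assoc, lift_fst, MonObj.comp_mul, GrpObj.comp_inv, MonObj.comp_one,
    _root_.mul_one, reassoc_of% hx₂, hEv x₁ hx₁, hEv x₂ hx₂] at h1
  refine ⟨(x₂ ≫ fst G T)⁻¹ * (x₁ ≫ fst G T), ?_⟩
  show _ * (τ _)⁻¹ = a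
  rw [map_mul, map_inv, _root_.mul_inv_rev, _root_.inv_inv]
  have key : ∀ u₁ u₂ t₁ t₂ : T ⟶ G, u₁ * t₁⁻¹ = u₂ * a * t₂⁻¹ → u₂⁻¹ * u₁ * (t₁⁻¹ * t₂) = a := by
    intro u₁ u₂ t₁ t₂ h
    calc u₂⁻¹ * u₁ * (t₁⁻¹ * t₂) = u₂⁻¹ * (u₁ * t₁⁻¹) * t₂ := by group
      _ = u₂⁻¹ * (u₂ * a * t₂⁻¹) * t₂ := by rw [h]
      _ = a := by group
  exact key _ _ _ _ h1

end Groth.StackCount.Lang
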