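import Groth.Agent.StackCount.Torsor
import Groth.Agent.StkGerb.QuotFin.RationalPoint

/-!
# Points over an algebraic closure come from finite levels (helper34)
-/

set_option autoImplicit false
set_option backward.isDefEq.respectTransparency false
set_option backward.isDefEq.respectTransparency.types false

universe u

open CategoryTheory CategoryTheory.Limits MonoidalCategory CartesianMonoidalCategory MonObj AlgebraicGeometry
open Groth.Agf

noncomputable section

namespace Groth.StackCount

variable {k : Type u} [Field k] {k' : Type u} [Field k'] [Algebra k k'] {kb : Type u} [Field kb]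
  [Algebra k kb] [Algebra k' kb] [IsScalarTower k k' kb]

instance isScalarTower_level (E : IntermediateField k' kb) : IsScalarTower k E kb :=
  IsScalarTower.of_algebraMap_eq fun x => rfl

/-- `Spec kb ⟶ Spec E` for an intermediate field. -/
abbrev jot (E : IntermediateField k' kb) : SGA7.pt (K := k) kb ⟶ SGA7.pt (K := k) E := toBase k E kb

theorem jot_toBase (E : IntermediateField k' kb) :
    jot (k := k) E ≫ toBase k k' E = toBase k k' kb := by
  apply Over.OverMorphism.ext
  show Spec.map _ ≫ Spec.map _ = Spec.map _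
  rw [← Spec.map_comp, ← CommRingCat.ofHom_comp, ← IsScalarTower.algebraMap_eq]

theorem jot_injective (E : IntermediateField k' kb) {Z : Over (Spec (CommRingCat.of k))}
    {f g : SGA7.pt (K := k) E ⟶ Z} (h : jot E ≫ f = jot E ≫ g) : f = g := by
  have : Epi (jot (k := k) E).left := Flat.epi_of_flat_of_surjective _
  have : Epi (jot (k := k) E) := Over.epi_of_epi_left _
  exact (cancel_epi _).1 h

theorem gs_jot (E : IntermediateField k' kb) [Normal k' E] (σ : kb ≃ₐ[k'] kb) :
    gs k σ ≫ jot E = jot E ≫ gs k (AlgEquiv.restrictNormal σ E) := by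
  apply Over.OverMorphism.ext
  show Spec.map _ ≫ Spec.map _ = Spec.map _ ≫ Spec.map _
  rw [← Spec.map_comp, ← Spec.map_comp, ← CommRingCat.ofHom_comp, ← CommRingCat.ofHom_comp]
  congr 2
  exact RingHom.ext fun x => (σ.restrictNormal_commutes E x).symm

/-- A point over `kb` comes from every field containing a suitable finite set. -/
theorem exists_finset_level {Z : Over (Spec (CommRingCat.of k))} [LocallyOfFiniteType Z.hom]
    (y : SGA7.pt (K := k) kb ⟶ Z) :
    ∃ S : Finset kb, ∀ E : IntermediateField k' kb, (S : Set kb) ⊆ E →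
      ∃ yE : SGA7.pt (K := k) E ⟶ Z, jot E ≫ yE = y := by
  classical
  let x : Z.left := y.left (IsLocalRing.closedPoint kb)
  obtain ⟨_, ⟨W : Z.left.Opens, hW, rfl⟩, hx, -⟩ :=
    Z.left.isBasis_affineOpens.exists_subset_of_mem_open (Set.mem_univ x) isOpen_univ
  let Y : Over (Spec (CommRingCat.of k)) := Over.mk (W.ι ≫ Z.hom)
  have : IsAffine Y.left := hW
  have : LocallyOfFiniteType Y.hom := inferInstanceAs (LocallyOfFiniteType (W.ι ≫ Z.hom))
  have hr : Set.range y.left ⊆ Set.range W.ι := by
    rintro _ ⟨z, rfl⟩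
    rw [Scheme.Opens.range_ι, show z = IsLocalRing.closedPoint kb from @Subsingleton.elim (PrimeSpectrum kb) inferInstance _ _]
    exact hx
  let y₁ : SGA7.pt (K := k) kb ⟶ Y := Over.homMk (IsOpenImmersion.lift W.ι y.left hr) (by
    show IsOpenImmersion.lift W.ι y.left hr ≫ W.ι ≫ Z.hom = _
    rw [← Category.assoc, IsOpenImmersion.lift_fac]
    exact Over.w y)
  let jW : Y ⟶ Z := Over.homMk W.ι rfl
  have hy₁ : y₁ ≫ jW = y := Over.OverMorphism.ext (IsOpenImmersion.lift_fac _ _ _)
  have : Algebra.FiniteType k (Fn Y) := fn_finiteType Y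
  obtain ⟨ψ, hψ⟩ : ∃ ψ : Fn Y →ₐ[k] kb, ptOf Y ψ = y₁ := ⟨evalPt (k := k) (B := kb) y₁, pt_ext (evalPt_ptOf _)⟩
  obtain ⟨S₀, hS₀⟩ := (‹Algebra.FiniteType k (Fn Y)›).out
  refine ⟨S₀.image ψ, fun E hE => ?_⟩
  have hmem : ∀ a : Fn Y, ψ a ∈ E := fun a => by
    have ha : a ∈ Algebra.adjoin k (S₀ : Set (Fn Y)) := hS₀ ▸ Algebra.mem_top
    induction ha using Algebra.adjoin_induction with
    | mem b hb => exact hE (Finset.mem_image_of_mem ψ hb)
    | algebraMap r =>
      rw [AlgHom.commutes, IsScalarTower.algebraMap_apply k k' kb]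
      exact E.algebraMap_mem _
    | add b c _ _ hb hc => rw [map_add]; exact E.add_mem hb hc
    | mul b c _ _ hb hc => rw [map_mul]; exact E.mul_mem hb hc
  let ψE : Fn Y →ₐ[k] E :=
    { toFun := fun a => ⟨ψ a, hmem a⟩
      map_one' := Subtype.ext ψ.map_one
      map_mul' := fun a b => Subtype.ext (map_mul ψ a b)
      map_zero' := Subtype.ext ψ.map_zero
      map_add' := fun a b => Subtype.ext (map_add ψ a b)
      commutes' := fun r => Subtype.ext ((ψ.commutes r).trans
        (IsScalarTower.algebraMap_apply k E kb r)) }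
  refine ⟨ptOf Y ψE ≫ jW, ?_⟩
  rw [← hy₁, ← hψ, ← Category.assoc]
  congr 1
  refine pt_ext (B := kb) ?_
  refine ((evalPt_ptMap (IsScalarTower.toAlgHom k E kb) (ptOf Y ψE)).trans ?_).trans (evalPt_ptOf (B := kb) ψ).symm
  rw [evalPt_ptOf]
  rfl

variable [Algebra.IsAlgebraic k' kb] [Normal k' kb]

/-- A finite normal subextension containing a finite set. -/
theorem exists_normal_level (S : Finset kb) :
    ∃ E : IntermediateField k' kb, FiniteDimensional k' E ∧ Normal k' E ∧ (S : Set kb) ⊆ E := by
  let E₀ := IntermediateField.adjoin k' (S : Set kb)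
  have : FiniteDimensional k' E₀ :=
    IntermediateField.finiteDimensional_adjoin fun x _ => Algebra.IsIntegral.isIntegral x
  refine ⟨IntermediateField.normalClosure k' E₀ kb, inferInstance, inferInstance, ?_⟩
  exact (IntermediateField.subset_adjoin k' _).trans E₀.le_normalClosure

/-- Galois invariant points over `kb` are defined over the base. -/
theorem exists_of_fixed [IsGalois k' kb] {Z : Over (Spec (CommRingCat.of k))} [LocallyOfFiniteType Z.hom]
    (y : SGA7.pt (K := k) kb ⟶ Z) (hy : ∀ σ : kb ≃ₐ[k'] kb, gs k σ ≫ y = y) :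
    ∃! z : SGA7.pt (K := k) k' ⟶ Z, toBase k k' kb ≫ z = y := by
  obtain ⟨S, hS⟩ := exists_finset_level (k' := k') y
  obtain ⟨E, _, _, hSE⟩ := exists_normal_level (k' := k') S
  obtain ⟨yE, hyE⟩ := hS E hSE
  have : IsGalois k' E := isGalois_iff.2 ⟨inferInstance, inferInstance⟩
  have sq : IsPullback (toBase k k' E) (𝟙 (SGA7.pt (K := k) E)) (𝟙 (SGA7.pt (K := k) k')) (toBase k k' E) :=
    IsPullback.of_vert_isIso ⟨by simp⟩
  have hinv : ∀ τ : E ≃ₐ[k'] E, gs k τ ≫ yE = yE := fun τ => jot_injective E (by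
    have h := hy (τ.liftNormal kb)
    rw [← hyE, ← Category.assoc, gs_jot, AlgEquiv.restrict_liftNormal, Category.assoc] at h
    exact h)
  obtain ⟨z, hz, hu⟩ := existsUnique_desc sq (fun τ => gs k τ) (fun τ => gs_toBase k τ)
    (fun τ => by simp) yE hinv
  refine ⟨z, show _ = y by rw [← jot_toBase E, Category.assoc, hz, hyE], fun z' hz' => hu _ (jot_injective E ?_)⟩
  rw [← Category.assoc, jot_toBase, hyE]
  exact hz'

end Groth.StackCount
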