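import Groth.Agent.StackCount.Flag
import Mathlib.GroupTheory.Sylow
import Mathlib.LinearAlgebra.Matrix.Charpoly.Coeff

/-!
# Masses of twisted Frobenius stable closed subgroups of `GL_N` with a unipotent subgroup of finite index
-/

set_option autoImplicit false
set_option backward.isDefEq.respectTransparency false
set_option backward.isDefEq.respectTransparency.types false

universe u

noncomputable section

open Matrix

namespace Groth.StackCount.UniTri

section Dim

variable {K : Type u} [Field K] [IsAlgClosed K] {B : Type u} [CommRing B] [Algebra K B] [Algebra.FiniteType K B]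

/-- Finitely many closed pieces covering the rational points compute the dimension. -/
theorem ringKrullDim_eq_of_cover {ι : Type*} [Finite ι] [Nonempty ι] (I : ι → Ideal B) (d : WithBot ℕ∞)
    (hcov : ∀ χ : B →ₐ[K] K, ∃ i, I i ≤ RingHom.ker χ) (hd : ∀ i, ringKrullDim (B ⧸ I i) = d) :
    ringKrullDim B = d := by
  classical
  have := Fintype.ofFinite ι
  refine le_antisymm (iSup_le fun l => ?_) ?_
  · let P := l.head.asIdeal
    have : P.IsPrime := l.head.isPrime
    obtain ⟨i, hi⟩ : ∃ i, I i ≤ P := by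
      by_contra! hc
      choose g hg hgP using fun i => SetLike.not_le_iff_exists.1 (hc i)
      have hG : Ideal.Quotient.mk P (∏ i, g i) ≠ 0 := by
        rw [Ne, Ideal.Quotient.eq_zero_iff_mem, Ideal.IsPrime.prod_mem_iff]
        rintro ⟨i, -, hi⟩
        exact hgP i hi
      obtain ⟨χ, hχ⟩ := PointsDim.exists_point_ne (K := K) hG
      obtain ⟨i, hi⟩ := hcov (χ.comp (Ideal.Quotient.mkₐ K P))
      refine hχ ?_
      rw [map_prod, map_prod]
      exact Finset.prod_eq_zero (Finset.mem_univ i) (hi (hg i))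
    rw [← hd i]
    let e := (Ideal.primeSpectrumQuotientOrderIsoZeroLocus (I i)).symm
    let l' : LTSeries (PrimeSpectrum (B ⧸ I i)) :=
      ⟨l.length, fun j => e ⟨l j, hi.trans (l.head_le j)⟩, fun j => e.strictMono (l.step j)⟩
    exact le_iSup_iff.2 fun b hb' => hb' l'
  · obtain ⟨i⟩ := ‹Nonempty ι›
    exact (hd i) ▸ ringKrullDim_quotient_le (I i)

end Dim

variable {k : Type u} [Field k] [Finite k] {K : Type u} [Field K] [IsAlgClosed K] [Algebra k K]
  [Algebra.IsAlgebraic k K] {N : ℕ}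

/-- Substitution of `a * x * b` in a polynomial in the entries. -/
def conjPoly (a b : GL (Fin N) K) : MvPolynomial (Fin N × Fin N) K →ₐ[K] MvPolynomial (Fin N × Fin N) K :=
  MvPolynomial.bind₁ fun ij => ∑ s : Fin N, ∑ t : Fin N,
    MvPolynomial.C (a.1 ij.1 s * b.1 t ij.2) * MvPolynomial.X (s, t)

omit [IsAlgClosed K] in
theorem eval_conjPoly (a b x : GL (Fin N) K) (P : MvPolynomial (Fin N × Fin N) K) :
    MvPolynomial.eval (entries x) (conjPoly a b P) = MvPolynomial.eval (entries (a * x * b)) P := by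
  rw [conjPoly, ← MvPolynomial.aeval_eq_eval, MvPolynomial.aeval_bind₁]
  show MvPolynomial.aeval _ P = MvPolynomial.aeval (entries (a * x * b)) P
  congr 2
  funext ij
  rw [MvPolynomial.aeval_eq_eval]
  simp only [entries, map_sum, map_mul, MvPolynomial.eval_C, MvPolynomial.eval_X, Units.val_mul,
    Matrix.mul_apply, Finset.sum_mul]
  rw [Finset.sum_comm]
  exact Finset.sum_congr rfl fun t _ => Finset.sum_congr rfl fun s _ => by ring

variable (k) in
/-- The twisted Frobenius is surjective on a stable subgroup. -/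
theorem exists_frob_preimage (S : Subgroup (GL (Fin N) K)) (c : GL (Fin N) K)
    (hst : ∀ x ∈ S, c * frGL k K N x * c⁻¹ ∈ S) {y : GL (Fin N) K} (hy : y ∈ S) :
    ∃ x ∈ S, c * frGL k K N x * c⁻¹ = y := by
  classical
  let E := IntermediateField.adjoin k (Set.range (entries c) ∪ Set.range (entries c⁻¹) ∪ Set.range (entries y))
  have : FiniteDimensional k E := by
    have := (((Set.finite_range (entries c)).union (Set.finite_range (entries c⁻¹))).union
      (Set.finite_range (entries y))).to_subtype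
    exact IntermediateField.finiteDimensional_adjoin fun x _ => Algebra.IsIntegral.isIntegral x
  have : Finite E := Module.finite_of_finite k
  let T := {x : GL (Fin N) K // x ∈ S ∧ ∀ i j, x.1 i j ∈ E}
  have : Finite T := Finite.of_injective (fun x : T => fun i j => (⟨x.1.1 i j, x.2.2 i j⟩ : E))
    fun a b h => Subtype.ext (Units.ext (Matrix.ext fun i j => congrArg Subtype.val (congrFun (congrFun h i) j)))
  have hc : ∀ i j, c.1 i j ∈ E := fun i j =>
    IntermediateField.subset_adjoin k _ (Or.inl (Or.inl ⟨(i, j), rfl⟩))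
  have hc' : ∀ i j, (c⁻¹ : GL (Fin N) K).1 i j ∈ E := fun i j =>
    IntermediateField.subset_adjoin k _ (Or.inl (Or.inr ⟨(i, j), rfl⟩))
  let F : T → T := fun x => ⟨c * frGL k K N x.1 * c⁻¹, hst _ x.2.1, fun i j => by
    rw [Units.val_mul, Units.val_mul, Matrix.mul_apply]
    refine sum_mem fun l _ => E.mul_mem ?_ (hc' l j)
    rw [Matrix.mul_apply]
    exact sum_mem fun m _ => E.mul_mem (hc i m) (by rw [frGL_apply]; exact pow_mem (x.2.2 m l) _)⟩
  have hF : Function.Surjective F := Finite.surjective_of_injective fun a b h => by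
    have h1 : frGL k K N a.1 = frGL k K N b.1 := mul_left_cancel (mul_right_cancel (congrArg Subtype.val h))
    exact Subtype.ext (Units.ext (Matrix.ext fun i j => (frobAut k K).injective
      (congrArg (fun z : GL (Fin N) K => z.1 i j) h1)))
  obtain ⟨x, hx⟩ := hF ⟨y, hy, fun i j => IntermediateField.subset_adjoin k _ (Or.inr ⟨(i, j), rfl⟩)⟩
  exact ⟨x.1, x.2.1, congrArg Subtype.val hx⟩

omit [IsAlgClosed K] in
/-- A matrix of order a power of the characteristic has order dividing `p ^ N`. -/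
theorem pow_eq_one_of_pow_eq_one {p : ℕ} [Fact p.Prime] [CharP K p] {x : GL (Fin N) K} {a : ℕ}
    (h : x ^ p ^ a = 1) : x ^ p ^ N = 1 := by
  rcases Nat.eq_zero_or_pos N with rfl | hN
  · exact Units.ext (Matrix.ext fun i => i.elim0)
  have : Nonempty (Fin N) := ⟨⟨0, hN⟩⟩
  have : CharP (Matrix (Fin N) (Fin N) K) p := charP_of_injective_algebraMap (algebraMap K _).injective p
  have h1 : x.1 ^ p ^ a = 1 := by
    rw [← Units.val_pow_eq_pow_val, h, Units.val_one]
  have hnil : IsNilpotent (x.1 - 1) := ⟨p ^ a, by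
    rw [sub_pow_char_pow_of_commute _ _ (Commute.one_right _), h1, one_pow, sub_self]⟩
  have h2 : (x.1 - 1) ^ N = 0 := by
    have hch := Matrix.isNilpotent_charpoly_sub_pow_of_isNilpotent hnil
    have hc : (x.1 - 1).charpoly = Polynomial.X ^ N := by
      have := hch.eq_zero
      rwa [sub_eq_zero, Fintype.card_fin] at this
    have := Matrix.aeval_self_charpoly (x.1 - 1)
    rwa [hc, map_pow, Polynomial.aeval_X] at this
  refine Units.ext ?_
  rw [Units.val_pow_eq_pow_val, Units.val_one, ← sub_eq_zero,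
    show (x.1 ^ p ^ N - 1 : Matrix (Fin N) (Fin N) K) = (x.1 - 1) ^ p ^ N by
      rw [sub_pow_char_pow_of_commute _ _ (Commute.one_right _), one_pow]]
  exact pow_eq_zero_of_le (Nat.lt_pow_self (Fact.out : p.Prime).one_lt).le h2

/-- A finitely generated algebra whose rational points are the elements of a set of matrices. -/
structure PointRing (S : Set (GL (Fin N) K)) (B : Type u) [CommRing B] [Algebra K B] where
  /-- the entries as functions -/
  ψ : MvPolynomial (Fin N × Fin N) K →ₐ[K] B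
  mem : ∀ χ : B →ₐ[K] K, ∃ x ∈ S, ∀ P, χ (ψ P) = MvPolynomial.eval (entries x) P
  exists_point : ∀ x ∈ S, ∃ χ : B →ₐ[K] K, ∀ P, χ (ψ P) = MvPolynomial.eval (entries x) P
  inj : ∀ χ χ' : B →ₐ[K] K, (∀ P, χ (ψ P) = χ' (ψ P)) → χ = χ'

/-- Coordinates compute the dimension of a point ring. -/
theorem PointRing.ringKrullDim_eq {S : Set (GL (Fin N) K)} {B : Type u} [CommRing B] [Algebra K B]
    [Algebra.FiniteType K B] (R : PointRing S B) {d : ℕ} (f : Fin d → MvPolynomial (Fin N × Fin N) K)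
    (hsurj : ∀ v : Fin d → K, ∃ x ∈ S, ∀ j, MvPolynomial.eval (entries x) (f j) = v j)
    (hfib : ∀ v : Fin d → K, {x | x ∈ S ∧ ∀ j, MvPolynomial.eval (entries x) (f j) = v j}.Finite) :
    ringKrullDim B = d := by
  rw [PointsDim.ringKrullDim_eq_card (K := K) (fun j => R.ψ (f j)) (fun v => ?_) (fun v => ?_), Fintype.card_fin]
  · obtain ⟨x, hx, hxv⟩ := hsurj v
    obtain ⟨χ, hχ⟩ := R.exists_point x hx
    exact ⟨χ, fun j => (hχ _).trans (hxv j)⟩
  · choose m hmS hm using R.mem
    refine Set.Finite.of_finite_image ((hfib v).subset ?_) (f := m) fun χ _ χ' _ h => R.inj χ χ' fun P => by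
      rw [hm, hm, h]
    rintro _ ⟨χ, hχ, rfl⟩
    exact ⟨hmS χ, fun j => (hm χ (f j)).symm.trans (hχ j)⟩

/-- The coordinate ring of a closed subgroup of exponent a power of the characteristic. -/
theorem exists_pointRing {S : Subgroup (GL (Fin N) K)} (hcl : IsClosedSG S) {p e : ℕ} [Fact p.Prime]
    [CharP K p] (hexp : ∀ x ∈ S, x ^ p ^ e = 1) :
    ∃ (B : Type u) (_ : CommRing B) (_ : Algebra K B) (_ : Algebra.FiniteType K B),
      Nonempty (PointRing (S : Set (GL (Fin N) K)) B) := by
  classical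
  obtain ⟨I, hI⟩ := hcl
  let D : MvPolynomial (Fin N × Fin N) K := (Matrix.of fun i j => MvPolynomial.X (i, j)).det - 1
  have hdetEval : ∀ w : Fin N × Fin N → K, MvPolynomial.eval w (Matrix.of fun i j => MvPolynomial.X (i, j)).det =
      (Matrix.of fun i j => w (i, j)).det := fun w => by
    rw [RingHom.map_det]
    congr 1
    ext i j
    simp
  let J := Ideal.span (I ∪ {D})
  refine ⟨MvPolynomial (Fin N × Fin N) K ⧸ J, inferInstance, inferInstance,
    Algebra.FiniteType.of_surjective (Ideal.Quotient.mkₐ K J) Ideal.Quotient.mk_surjective,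
    ⟨{ ψ := Ideal.Quotient.mkₐ K J, mem := fun χ => ?_, exists_point := fun x hx => ?_, inj := fun χ χ' h => ?_ }⟩⟩
  · let w : Fin N × Fin N → K := fun ij => χ (Ideal.Quotient.mkₐ K J (MvPolynomial.X ij))
    have hw : ∀ P, χ (Ideal.Quotient.mkₐ K J P) = MvPolynomial.eval w P := fun P => by
      have : χ.comp (Ideal.Quotient.mkₐ K J) = MvPolynomial.aeval w :=
        MvPolynomial.algHom_ext fun i => by simp [w]
      have h5 := DFunLike.congr_fun this P
      rw [MvPolynomial.aeval_eq_eval] at h5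
      exact h5
    have hT : ∀ P ∈ I ∪ {D}, MvPolynomial.eval w P = 0 := fun P hP => by
      rw [← hw]
      show χ (Ideal.Quotient.mk J P) = 0
      rw [Ideal.Quotient.eq_zero_iff_mem.2 (Ideal.subset_span hP), map_zero]
    have hdet : (Matrix.of fun i j => w (i, j)).det = 1 := by
      have := hT D (Or.inr rfl)
      rwa [map_sub, map_one, sub_eq_zero, hdetEval] at this
    let x : GL (Fin N) K :=
      Matrix.nonsingInvUnit (Matrix.of fun i j => w (i, j)) (by rw [hdet]; exact isUnit_one)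
    exact ⟨x, (hI x).2 fun P hP => hT P (Or.inl hP), hw⟩
  · refine ⟨Ideal.Quotient.liftₐ _ (MvPolynomial.aeval (entries x)) fun P hP => ?_, fun P => ?_⟩
    · refine (Ideal.span_le (I := RingHom.ker (MvPolynomial.aeval (entries x) :
        MvPolynomial (Fin N × Fin N) K →ₐ[K] K))).2 (fun Q hQ => ?_) hP
      rw [SetLike.mem_coe, RingHom.mem_ker, MvPolynomial.aeval_eq_eval]
      rcases hQ with hQ | hQ
      · exact (hI x).1 hx Q hQ
      · rw [Set.mem_singleton_iff.1 hQ]
        show MvPolynomial.eval (entries x) _ = 0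
        rw [map_sub, map_one, hdetEval, sub_eq_zero]
        exact det_eq_one hexp hx
    · show MvPolynomial.aeval (entries x) P = _
      rw [MvPolynomial.aeval_eq_eval]
  · refine AlgHom.ext fun b => ?_
    obtain ⟨P, rfl⟩ := Ideal.Quotient.mk_surjective b
    exact h P

/-- **Mass of a closed subgroup with a unipotent subgroup of finite index.** -/
theorem exists_mass {S : Subgroup (GL (Fin N) K)} (hcl : IsClosedSG S) {p e : ℕ} [Fact p.Prime] [CharP K p]
    (W : Subgroup S) [W.FiniteIndex] (hW : ∀ x ∈ W, x ^ p ^ e = 1) (c : GL (Fin N) K)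
    (hst : ∀ x ∈ S, c * frGL k K N x * c⁻¹ ∈ S) :
    ∃ d : ℕ,
      (∀ τ : S →* S, (∀ x, (τ x).1 = c * frGL k K N x.1 * c⁻¹) →
        Mass.HasMass S (TwConj τ) ((Nat.card k : ℚ) ^ d)⁻¹) ∧
      ∀ (B : Type u) [CommRing B] [Algebra K B] [Algebra.FiniteType K B],
        PointRing (S : Set (GL (Fin N) K)) B → ringKrullDim B = d := by
  classical
  -- the largest normal p-subgroup
  let W₀ := W.normalCore
  have : W₀.FiniteIndex := inferInstance
  let π := QuotientGroup.mk' W₀
  have : Finite (S ⧸ W₀) := Subgroup.finite_quotient_of_finiteIndex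
  obtain ⟨P⟩ : Nonempty (Sylow p (S ⧸ W₀)) := inferInstance
  let R : Subgroup S := P.1.normalCore.comap π
  have hRn : R.Normal := inferInstance
  have hRp : IsPGroup p R := by
    intro x
    obtain ⟨a, ha⟩ := (P.2.to_le (Subgroup.normalCore_le P.1)) ⟨π x.1, x.2⟩
    have hmem : x.1 ^ p ^ a ∈ W₀ := by
      have h1 : π (x.1 ^ p ^ a) = 1 := by rw [map_pow]; exact congrArg Subtype.val ha
      exact (QuotientGroup.eq_one_iff _).1 h1
    have := hW _ (W.normalCore_le hmem)
    exact ⟨a + e, Subtype.ext (by rw [pow_add, pow_mul]; exact this)⟩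
  have hmax : ∀ M : Subgroup S, M.Normal → IsPGroup p M → M ≤ R := by
    intro M hM hMp
    have hn : (M.map π).Normal := hM.map π (QuotientGroup.mk'_surjective W₀)
    have hp : IsPGroup p (M.map π) := hMp.map π
    obtain ⟨Q, hQ⟩ := hp.exists_le_sylow
    have hle : M.map π ≤ P.1 := by
      obtain ⟨g, hg⟩ := MulAction.exists_smul_eq (S ⧸ W₀) Q P
      intro z hz
      have h1 : g⁻¹ * z * g ∈ M.map π := by
        have := hn.conj_mem z hz g⁻¹
        rwa [inv_inv] at this
      rw [← hg]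
      have h2 := hQ h1
      rw [Sylow.coe_subgroup_smul, Subgroup.mem_pointwise_smul_iff_inv_smul_mem]
      simpa [MulAut.smul_def, MulAut.conj_symm_apply, mul_assoc] using h2
    exact Subgroup.map_le_iff_le_comap.1 (Subgroup.normal_le_normalCore.2 hle)
  have hRexp : ∀ x : S, x ∈ R → x.1 ^ p ^ N = 1 := fun x hx => by
    obtain ⟨a, ha⟩ := hRp ⟨x, hx⟩
    exact pow_eq_one_of_pow_eq_one (a := a) (by simpa using congrArg (fun y : R => y.1.1) ha)
  have : R.FiniteIndex := Subgroup.finiteIndex_of_le (Subgroup.map_le_iff_le_comap.1 (by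
    rw [QuotientGroup.map_mk'_self]; exact bot_le) : W₀ ≤ R)
  -- as a subgroup of GL
  let R' : Subgroup (GL (Fin N) K) := R.map S.subtype
  have hR'S : R' ≤ S := Subgroup.map_subtype_le R
  have hmemR' : ∀ x (hx : x ∈ S), x ∈ R' ↔ (⟨x, hx⟩ : S) ∈ R := fun x hx => by
    constructor
    · rintro ⟨y, hy, rfl⟩
      exact hy
    · exact fun h => ⟨⟨x, hx⟩, h, rfl⟩
  have hexpR' : ∀ x ∈ R', x ^ p ^ N = 1 := by
    rintro _ ⟨y, hy, rfl⟩
    exact hRexp y hy
  have hclR : IsClosedSG R' := by
    obtain ⟨I, hI⟩ := hcl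
    let V : Set (MvPolynomial (Fin N × Fin N) K) := {Q | ∀ x ∈ R', MvPolynomial.eval (entries x) Q = 0}
    let C : Set S := {x | ∀ Q ∈ V, MvPolynomial.eval (entries x.1) Q = 0}
    have hsub : ∀ x : S, x ∈ R → x ∈ C := fun x hx Q hQ => hQ _ ((hmemR' x.1 x.2).2 hx)
    have hinv : ∀ (a b : S), (∀ y : S, y ∈ R → a * y * b ∈ C) → ∀ y : S, y ∈ C → a * y * b ∈ C :=
      fun a b h y hy Q hQ => by
      rw [Subgroup.coe_mul, Subgroup.coe_mul, ← eval_conjPoly]
      refine hy _ fun z hz => ?_
      rw [eval_conjPoly]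
      exact h ⟨z, hR'S hz⟩ ((hmemR' z (hR'S hz)).1 hz) Q hQ
    have hmulR : ∀ a : S, a ∈ R → ∀ y : S, y ∈ C → a * y ∈ C := fun a ha y hy => by
      simpa using hinv a 1 (fun y hy => by rw [mul_one]; exact hsub _ (R.mul_mem ha hy)) y hy
    have hmulC : ∀ a : S, a ∈ C → ∀ y : S, y ∈ C → a * y ∈ C := fun a ha y hy => by
      simpa using hinv 1 y (fun z hz => by rw [one_mul]; exact hmulR z hz y hy) a ha
    have hexpC : ∀ a : S, a ∈ C → a.1 ^ p ^ N = 1 := fun a ha => by
      refine Units.ext (Matrix.ext fun i j => ?_)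
      let Q : MvPolynomial (Fin N × Fin N) K :=
        ((Matrix.of fun i j => MvPolynomial.X (i, j)) ^ p ^ N) i j - MvPolynomial.C ((1 : Matrix (Fin N) (Fin N) K) i j)
      have hQ : ∀ x : GL (Fin N) K, MvPolynomial.eval (entries x) Q =
          (x.1 ^ p ^ N) i j - (1 : Matrix (Fin N) (Fin N) K) i j := fun x => by
        rw [map_sub, MvPolynomial.eval_C]
        have e1 : (MvPolynomial.eval (entries x)).mapMatrix
            ((Matrix.of fun i j => MvPolynomial.X (i, j)) ^ p ^ N) = x.1 ^ p ^ N := by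
          rw [map_pow]
          congr 1
          ext a b
          simp [entries]
        rw [← e1]
        rfl
      have h0 := ha Q fun z hz => by
        rw [hQ, ← Units.val_pow_eq_pow_val, hexpR' z hz, Units.val_one, sub_self]
      rw [hQ, sub_eq_zero] at h0
      rw [Units.val_pow_eq_pow_val, Units.val_one]
      exact h0
    let M : Subgroup S :=
      { carrier := C
        one_mem' := hsub 1 R.one_mem
        mul_mem' := fun {a b} ha hb => hmulC a ha b hb
        inv_mem' := fun {a} ha => by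
          have h1 : a⁻¹ = a ^ (p ^ N - 1) := by
            rw [inv_eq_iff_mul_eq_one, ← pow_succ', Nat.sub_add_cancel (Nat.one_le_pow _ _ (Fact.out : p.Prime).pos)]
            exact Subtype.ext (hexpC a ha)
          rw [h1]
          induction p ^ N - 1 with
          | zero => rw [pow_zero]; exact hsub 1 R.one_mem
          | succ n ih => rw [pow_succ]; exact hmulC _ ih _ ha }
    have hMn : M.Normal := ⟨fun y hy g => hinv g g⁻¹ (fun z hz => hsub _ (hRn.conj_mem z hz g)) y hy⟩
    have hMp : IsPGroup p M := fun x => ⟨N, Subtype.ext (Subtype.ext (hexpC x.1 x.2))⟩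
    have hMR := hmax M hMn hMp
    refine ⟨I ∪ V, fun x => ⟨fun hx Q hQ => ?_, fun h => ?_⟩⟩
    · rcases hQ with hQ | hQ
      · exact (hI x).1 (hR'S hx) Q hQ
      · exact hQ x hx
    · have hxS : x ∈ S := (hI x).2 fun Q hQ => h Q (Or.inl hQ)
      exact (hmemR' x hxS).2 (hMR (show (⟨x, hxS⟩ : S) ∈ M from fun Q hQ => h Q (Or.inr hQ)))
  -- stability
  have hRst : ∀ x ∈ R', c * frGL k K N x * c⁻¹ ∈ R' := by
    let τ : S →* S := MonoidHom.mk' (fun x => ⟨c * frGL k K N x.1 * c⁻¹, hst _ x.2⟩) fun a b => Subtype.ext (by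
      show c * frGL k K N (a.1 * b.1) * c⁻¹ = c * frGL k K N a.1 * c⁻¹ * (c * frGL k K N b.1 * c⁻¹)
      rw [map_mul]; group)
    have hτ : Function.Surjective τ := fun y => by
      obtain ⟨x, hx, hxy⟩ := exists_frob_preimage k S c hst y.2
      exact ⟨⟨x, hx⟩, Subtype.ext hxy⟩
    have hle : R.map τ ≤ R := hmax _ (hRn.map τ hτ) (hRp.map τ)
    rintro _ ⟨y, hy, rfl⟩
    exact ⟨τ y, hle (Subgroup.mem_map_of_mem τ hy), rfl⟩
  obtain ⟨d, hco, -⟩ := exists_mass_coords (k := k) hclR hexpR' c hRst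
  refine ⟨d, fun τ hτ => ?_, fun B _ _ _ pr => ?_⟩
  · obtain ⟨BR, _, _, _, ⟨prR⟩⟩ := exists_pointRing hclR hexpR'
    obtain ⟨f, hf₁, hf₂⟩ := hco
    have hdim := prR.ringKrullDim_eq f hf₁ hf₂
    let fC : S ⧸ R →* S ⧸ R := QuotientGroup.map R R τ (fun x hx => by
      show τ x ∈ R
      have := hRst x.1 ((hmemR' x.1 x.2).2 hx)
      rw [← hτ] at this
      exact (hmemR' _ (τ x).2).1 this)
    have : Finite (S ⧸ R) := Subgroup.finite_quotient_of_finiteIndex
    have h := Mass.hasMass_extension τ fC (QuotientGroup.mk' R) (QuotientGroup.mk'_surjective R) (fun x => rfl)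
      (α := ((Nat.card k : ℚ) ^ d)⁻¹) (Mass.hasMass_twConj_finite fC) (fun b τ' hτ' => ?_)
    · rwa [mul_one] at h
    have hker : (QuotientGroup.mk' R).ker = R := QuotientGroup.ker_mk' R
    let c' := c * frGL k K N b.1
    have hst' : ∀ x ∈ R', c' * frGL k K N x * c'⁻¹ ∈ R' := fun x hx => by
      have hxS := hR'S hx
      have hbx : b.1 * x * b.1⁻¹ ∈ R' := (hmemR' _ (S.mul_mem (S.mul_mem b.2 hxS) (S.inv_mem b.2))).2
        (hRn.conj_mem ⟨x, hxS⟩ ((hmemR' x hxS).1 hx) b)
      have := hRst _ hbx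
      convert this using 1
      simp only [c', map_mul, map_inv]
      group
    obtain ⟨d', ⟨f', hf'₁, hf'₂⟩, hmass⟩ := exists_mass_coords (k := k) hclR hexpR' c' hst'
    have hdd : d' = d := by
      have h2 := (prR.ringKrullDim_eq f' hf'₁ hf'₂).symm.trans hdim
      exact_mod_cast h2
    subst hdd
    let E : (QuotientGroup.mk' R).ker ≃* R' :=
      (MulEquiv.subgroupCongr hker).trans (R.equivMapOfInjective S.subtype Subtype.val_injective)
    let τR : R' →* R' := (E.toMonoidHom.comp τ').comp E.symm.toMonoidHom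
    have hm := hmass τR fun x => by
      show (τ' (E.symm x)).1.1 = c' * frGL k K N x.1 * c'⁻¹
      rw [hτ' (E.symm x), hτ]
      have hxe : (E.symm x).1.1 = x.1 := congrArg Subtype.val (E.apply_symm_apply x)
      simp only [Subgroup.coe_mul, Subgroup.coe_inv, hxe, c', map_mul, map_inv]
      group
    refine (Mass.hasMass_iff_of_equiv (P := TwConj τR) (P' := TwConj τ')
      (fun a => (E (show (QuotientGroup.mk' R).ker from a) : R')) E.toMonoidHom E.injective (fun g a => ?_)
      (fun a => ⟨1, E.symm (show R' from a), ?_⟩) (fun a₁ a₂ g hg => ⟨E.symm g, ?_, E.apply_symm_apply g⟩)).2 hm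
    · show E (τ' g * _ * g⁻¹) = E (τ' (E.symm (E g))) * _ * (E g)⁻¹
      rw [map_mul, map_mul, map_inv, E.symm_apply_apply]
    · rw [one_smul]
      exact E.apply_symm_apply _
    · refine E.injective (Eq.trans ?_ hg)
      show E (τ' (E.symm g) * _ * (E.symm g)⁻¹) = E (τ' (E.symm g)) * _ * g⁻¹
      rw [map_mul, map_mul, map_inv, E.apply_symm_apply]
  · obtain ⟨f, hf₁, hf₂⟩ := hco
    obtain ⟨IR, hIR⟩ := hclR
    have : Finite (S ⧸ R) := Subgroup.finite_quotient_of_finiteIndex
    let g : S ⧸ R → GL (Fin N) K := fun i => i.out.1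
    let I : S ⧸ R → Ideal B := fun i => Ideal.span (pr.ψ '' (conjPoly (g i)⁻¹ 1 '' IR))
    refine ringKrullDim_eq_of_cover (K := K) I d (fun χ => ?_) fun i => ?_
    · obtain ⟨x, hx, hχ⟩ := pr.mem χ
      refine ⟨QuotientGroup.mk ⟨x, hx⟩, Ideal.span_le.2 ?_⟩
      rintro _ ⟨_, ⟨Q, hQ, rfl⟩, rfl⟩
      rw [SetLike.mem_coe, RingHom.mem_ker, hχ, eval_conjPoly, mul_one]
      refine (hIR _).1 ?_ Q hQ
      have hm : ((QuotientGroup.mk (⟨x, hx⟩ : S) : S ⧸ R).out)⁻¹ * ⟨x, hx⟩ ∈ R := by
        rw [← QuotientGroup.eq, QuotientGroup.out_eq']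
      exact ⟨_, hm, rfl⟩
    · let prI : PointRing {x : GL (Fin N) K | x ∈ S ∧ (g i)⁻¹ * x ∈ R'} (B ⧸ I i) :=
        { ψ := (Ideal.Quotient.mkₐ K (I i)).comp pr.ψ
          mem := fun χ => by
            obtain ⟨x, hx, hχ⟩ := pr.mem (χ.comp (Ideal.Quotient.mkₐ K (I i)))
            refine ⟨x, ⟨hx, (hIR _).2 fun Q hQ => ?_⟩, hχ⟩
            have h1 := hχ (conjPoly (g i)⁻¹ 1 Q)
            rw [eval_conjPoly, mul_one, AlgHom.comp_apply, show Ideal.Quotient.mkₐ K (I i) _ = 0 from
              Ideal.Quotient.eq_zero_iff_mem.2 (Ideal.subset_span ⟨_, ⟨Q, hQ, rfl⟩, rfl⟩), map_zero] at h1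
            exact h1.symm
          exists_point := fun x hx => by
            obtain ⟨χ, hχ⟩ := pr.exists_point x hx.1
            refine ⟨Ideal.Quotient.liftₐ (I i) χ fun b hb => ?_, fun Q => hχ Q⟩
            refine (Ideal.span_le (I := RingHom.ker χ)).2 ?_ hb
            rintro _ ⟨_, ⟨Q, hQ, rfl⟩, rfl⟩
            rw [SetLike.mem_coe, RingHom.mem_ker, hχ, eval_conjPoly, mul_one]
            exact (hIR _).1 hx.2 Q hQ
          inj := fun χ χ' h => Ideal.Quotient.algHom_ext K (pr.inj _ _ h) }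
      have : Algebra.FiniteType K (B ⧸ I i) :=
        Algebra.FiniteType.of_surjective (Ideal.Quotient.mkₐ K (I i)) Ideal.Quotient.mk_surjective
      refine prI.ringKrullDim_eq (fun j => conjPoly (g i)⁻¹ 1 (f j)) (fun v => ?_) fun v => ?_
      · obtain ⟨y, hy, hyv⟩ := hf₁ v
        refine ⟨g i * y, ⟨S.mul_mem i.out.2 (hR'S hy), by rwa [inv_mul_cancel_left]⟩, fun j => ?_⟩
        rw [eval_conjPoly, mul_one, inv_mul_cancel_left, hyv]
      · refine ((hf₂ v).image fun y => g i * y).subset fun x hx => ⟨(g i)⁻¹ * x, ⟨hx.1.2, fun j => ?_⟩,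
          mul_inv_cancel_left _ _⟩
        rw [← hx.2 j, eval_conjPoly, mul_one]

end Groth.StackCount.UniTri
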