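import Groth.Agent.StackCount.Common
import Groth.Agent.StackCount.LinMass
import Groth.Agent.Hopf.GLnHom
import Groth.Agent.AlgGrp1.AffineGrp
import Groth.Agent.AlgGrp2.AffinePts

/-!
# A faithful linear representation of the geometric points, and closed subgroups in it
-/

set_option autoImplicit false
set_option backward.isDefEq.respectTransparency false
set_option backward.isDefEq.respectTransparency.types false

universe u

open CategoryTheory CategoryTheory.Limits MonoidalCategory CartesianMonoidalCategory MonObj GrpObj AlgebraicGeometry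
open Opposite
open scoped TensorProduct

noncomputable section

namespace Groth.StackCount

variable {k : Type u} [Field k] {kb : Type u} [Field kb] [Algebra k kb]

theorem secOfPt_mul {G : Over (Spec (CommRingCat.of k))} [GrpObj G] (a b : SGA7.Pts kb G) :
    GalTw.secOfPt kb (a * b) = GalTw.secOfPt kb a * GalTw.secOfPt kb b :=
  (secEquiv G).symm.injective (by
    show undPt (GalTw.secOfPt kb (a * b)) = undPt (GalTw.secOfPt kb a * GalTw.secOfPt kb b)
    rw [undPt_mul]
    exact ((secEquiv G).left_inv (a * b)).trans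
      (congrArg₂ (· * ·) ((secEquiv G).left_inv a).symm ((secEquiv G).left_inv b).symm))

variable (kb) in
/-- Points as sections of the base change, multiplicatively. -/
def secHom (G : Over (Spec (CommRingCat.of k))) [GrpObj G] :
    SGA7.Pts kb G →* (𝟙_ (Over (Spec (CommRingCat.of kb))) ⟶ GalTw.bcK kb G) :=
  MonoidHom.mk' (GalTw.secOfPt kb) secOfPt_mul

/-- The geometric points of `G` lying in a subgroup of `G_kb`. -/
def subPts {G : Over (Spec (CommRingCat.of k))} [GrpObj G] {Z : Over (Spec (CommRingCat.of kb))} [GrpObj Z]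
    (s : Z ⟶ GalTw.bcK kb G) [IsMonHom s] : Subgroup (SGA7.Pts kb G) :=
  (MonoidHom.mk' (fun z : 𝟙_ (Over (Spec (CommRingCat.of kb))) ⟶ Z => z ≫ s)
    (fun a b => MonObj.mul_comp a b s)).range.comap (secHom kb G)

theorem mem_subPts {G : Over (Spec (CommRingCat.of k))} [GrpObj G] {Z : Over (Spec (CommRingCat.of kb))} [GrpObj Z]
    (s : Z ⟶ GalTw.bcK kb G) [IsMonHom s] (g : SGA7.Pts kb G) :
    g ∈ subPts s ↔ ∃ z, z ≫ s = GalTw.secOfPt kb g := Iff.rfl

section GLn

variable {n : ℕ} {R : Type u} [CommRing R]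

/-- An element of the coordinate ring of `GL_n` is a polynomial in the entries up to a power of the determinant. -/
theorem exists_mul_det_pow (f : CoordGrp.GLn n R) :
    ∃ (m : ℕ) (P : MvPolynomial (Fin n × Fin n) R),
      f * CoordGrp.GLn.det ^ m = MvPolynomial.aeval (fun ij => CoordGrp.GLn.X ij.1 ij.2) P := by
  classical
  let ev : MvPolynomial (Fin n × Fin n) R →ₐ[R] CoordGrp.GLn n R :=
    MvPolynomial.aeval (fun ij => CoordGrp.GLn.X ij.1 ij.2)
  have hdet : ev (Matrix.of fun (i j : Fin n) => MvPolynomial.X (R := R) (i, j)).det = CoordGrp.GLn.det := by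
    rw [CoordGrp.GLn.det_eq, AlgHom.map_det]
    congr 1
    ext i j
    simp [ev, CoordGrp.GLn.genMat]
  let q : MvPolynomial (CoordGrp.GLPoly.Idx n) R →ₐ[R] CoordGrp.GLn n R := CoordGrp.GLn.mk n R
  have key : ∀ f₀ : MvPolynomial (CoordGrp.GLPoly.Idx n) R, ∃ (m : ℕ) (P : MvPolynomial (Fin n × Fin n) R),
      q f₀ * CoordGrp.GLn.det ^ m = ev P := by
    intro f₀
    induction f₀ using MvPolynomial.induction_on with
    | C a =>
      refine ⟨0, MvPolynomial.C a, ?_⟩
      rw [pow_zero, _root_.mul_one]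
      exact (MvPolynomial.algHom_C ev a).symm
    | add p q hp hq =>
      obtain ⟨m, P, hP⟩ := hp
      obtain ⟨m', Q, hQ⟩ := hq
      let D := (Matrix.of fun (i j : Fin n) => MvPolynomial.X (R := R) (i, j)).det
      refine ⟨m + m', P * D ^ m' + Q * D ^ m, ?_⟩
      rw [map_add, map_add, map_mul, map_mul, map_pow, map_pow, ← hP, ← hQ, hdet, pow_add]
      ring
    | mul_X p s hp =>
      obtain ⟨m, P, hP⟩ := hp
      rcases s with ⟨i, j⟩ | ⟨⟨⟩⟩
      · refine ⟨m, P * MvPolynomial.X (i, j), ?_⟩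
        rw [map_mul, map_mul, ← hP, MvPolynomial.aeval_X]
        show _ * CoordGrp.GLn.X i j * _ = _
        ring
      · refine ⟨m + 1, P, ?_⟩
        rw [map_mul, ← hP]
        show _ * CoordGrp.GLn.Dinv * _ = _
        have h1 := CoordGrp.GLn.Dinv_mul_det (n := n) (k := R)
        rw [pow_succ]
        linear_combination (q p * CoordGrp.GLn.det ^ m) * h1
  obtain ⟨f₀, rfl⟩ := Ideal.Quotient.mk_surjective f
  exact key f₀

end GLn

/-- A faithful linear representation of the geometric points in which closed subschemes are cut out by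
polynomials and have their dimension computed by point rings. -/
theorem exists_linRep (G : Over (Spec (CommRingCat.of k))) [GrpObj G] [IsAffine G.left] [LocallyOfFiniteType G.hom] :
    ∃ (n : ℕ) (ρ : SGA7.Pts kb G →* GL (Fin n) kb), Function.Injective ρ ∧
      (∀ (σ : kb ≃ₐ[k] kb) (g : SGA7.Pts kb G) (i j : Fin n), (ρ (σ • g)).1 i j = σ ((ρ g).1 i j)) ∧
      ∀ (Z : Over (Spec (CommRingCat.of kb))) (s : Z ⟶ GalTw.bcK kb G) [IsClosedImmersion s.left],
        (∃ I : Set (MvPolynomial (Fin n × Fin n) kb), ∀ x : GL (Fin n) kb,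
          (∃ g, (∃ z, z ≫ s = GalTw.secOfPt kb g) ∧ ρ g = x) ↔ ∀ P ∈ I, MvPolynomial.eval (UniTri.entries x) P = 0) ∧
        ∃ (B : Type u) (_ : CommRing B) (_ : Algebra kb B) (_ : Algebra.FiniteType kb B),
          Nonempty (UniTri.PointRing {x | ∃ g, (∃ z, z ≫ s = GalTw.secOfPt kb g) ∧ ρ g = x} B) ∧
            ringKrullDim B = topologicalKrullDim ↥Z.left := by
  classical
  obtain ⟨A, _, _, _, e, he⟩ := Groth.AlgGrp1.exists_hopf_iso G
  obtain ⟨n, π, hπ⟩ := Groth.ComodLib.exists_surjective_bialgHom_GLn (k := k) (A := A)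
  let p : CoordGrp.GLn n k →ₐ[k] A := BialgHom.toAlgHom π
  have hp : Function.Surjective p := hπ
  -- points as algebra maps
  have hev : ∀ g : SGA7.Pts kb G, ∃ χ : A →ₐ[k] kb, (CoactBr.pt χ ≫ e.hom : SGA7.Pts kb G) = g := fun g => by
    obtain ⟨χ, hχ⟩ := Groth.AlgGrp2.pt_surjective
      (show CoactBr.sp k kb ⟶ CoactBr.sp k A from (g : CoactBr.sp k kb ⟶ G) ≫ e.inv)
    exact ⟨χ, by rw [hχ]; exact (Category.assoc _ _ _).trans (by rw [e.inv_hom_id]; exact Category.comp_id _)⟩
  choose χ hχ using hev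
  have hχu : ∀ (g : SGA7.Pts kb G) (ψ : A →ₐ[k] kb), (CoactBr.pt ψ ≫ e.hom : SGA7.Pts kb G) = g → χ g = ψ :=
    fun g ψ h => CoactBr.pt_injective (by
      rw [← cancel_mono e.hom]
      exact (hχ g).trans h.symm)
  let M : SGA7.Pts kb G → Matrix (Fin n) (Fin n) kb := fun g i j => χ g (p (CoordGrp.GLn.X i j))
  have hM1 : M 1 = 1 := by
    have h1 : χ 1 = (Algebra.ofId k kb).comp (Bialgebra.counitAlgHom k A) := hχu 1 _ (by
      rw [← CoactBr.one_eq_pt]
      exact MonObj.one_comp e.hom)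
    ext i j
    show χ 1 (π (CoordGrp.GLn.X i j)) = _
    rw [h1, AlgHom.comp_apply, Bialgebra.counitAlgHom_apply, CoalgHomClass.counit_comp_apply,
      CoordGrp.GLn.counit_X, Matrix.one_apply]
    split_ifs <;> simp
  have hMmul : ∀ g h, M (g * h) = M g * M h := fun g h => by
    have h1 : χ (g * h) =
        (Algebra.TensorProduct.lift (χ g) (χ h) fun _ _ => .all _ _).comp (Bialgebra.comulAlgHom k A) :=
      hχu (g * h) _ (by
        rw [← CoactBr.pt_mul_pt]
        exact (MonObj.mul_comp _ _ e.hom).trans (congrArg₂ (· * ·) (hχ g) (hχ h)))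
    ext i j
    show χ (g * h) (π (CoordGrp.GLn.X i j)) = ∑ l, M g i l * M h l j
    rw [h1, AlgHom.comp_apply, Bialgebra.comulAlgHom_apply, ← CoalgHomClass.map_comp_comul_apply π,
      CoordGrp.GLn.comul_X, map_sum, map_sum]
    simp [M, p]
  let Mh : SGA7.Pts kb G →* Matrix (Fin n) (Fin n) kb := { toFun := M, map_one' := hM1, map_mul' := hMmul }
  let ρ : SGA7.Pts kb G →* GL (Fin n) kb := Mh.toHomUnits
  have hρ : ∀ g i j, (ρ g).1 i j = χ g (p (CoordGrp.GLn.X i j)) := fun g i j => rfl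
  have hinj : Function.Injective ρ := fun g h hgh => by
    have e1 : χ g = χ h := by
      refine AlgHom.ext fun a => ?_
      obtain ⟨b, rfl⟩ := hp a
      exact DFunLike.congr_fun (Groth.ComodLib.glnAlgHom_ext (f := (χ g).comp p) (g := (χ h).comp p) fun i j => by
        rw [AlgHom.comp_apply, AlgHom.comp_apply, ← hρ, ← hρ, hgh]) b
    rw [← hχ g, ← hχ h, e1]
  refine ⟨n, ρ, hinj, fun σ g i j => ?_, ?_⟩
  · rw [hρ, hρ]
    have h1 : χ (σ • g) = (σ : kb →ₐ[k] kb).comp (χ g) := hχu _ _ (by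
      rw [CoactBr.pt_comp, Category.assoc, hχ]
      rfl)
    rw [h1]
    rfl
  intro Z s _
  -- the coordinate ring of the closed subscheme
  let T := SGA7.pt (K := k) kb
  have hG : e.hom.left ≫ G.hom = Spec.map (CommRingCat.ofHom (algebraMap k A)) := Over.w e.hom
  have hσ : (Spec.map (CommRingCat.ofHom (Algebra.TensorProduct.includeRight (R := k) (A := kb) (B := A)).toRingHom) ≫
      e.hom.left) ≫ G.hom =
      Spec.map (CommRingCat.ofHom (Algebra.TensorProduct.includeLeftRingHom (R := k) (A := kb) (B := A))) ≫ T.hom := by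
    rw [Category.assoc, hG, ← Spec.map_comp]
    show _ = _ ≫ Spec.map _
    rw [← Spec.map_comp, ← CommRingCat.ofHom_comp, ← CommRingCat.ofHom_comp]
    congr 2
    ext a
    show (1 : kb) ⊗ₜ[k] algebraMap k A a = algebraMap k kb a ⊗ₜ[k] (1 : A)
    rw [Algebra.algebraMap_eq_smul_one, Algebra.algebraMap_eq_smul_one, TensorProduct.smul_tmul]
  let J : Spec (CommRingCat.of (kb ⊗[k] A)) ⟶ pullback G.hom T.hom := pullback.lift _ _ hσ
  have hJi : IsIso J := by
    have : IsIso e.hom.left := inferInstanceAs (IsIso ((Over.forget _).map e.hom))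
    let m : pullback (Spec.map (CommRingCat.ofHom (algebraMap k A))) T.hom ⟶ pullback G.hom T.hom :=
      pullback.map _ _ _ _ e.hom.left (𝟙 _) (𝟙 _) (by rw [Category.comp_id, hG]) (by simp)
    have : IsIso m := inferInstanceAs (IsIso (pullback.map _ _ _ _ _ _ _ _ _))
    have eJ : J = (pullbackSpecIso k kb A).inv ≫ (pullbackSymmetry _ _).hom ≫ m := by
      apply pullback.hom_ext
      · simp only [J, m, Category.assoc, pullback.lift_fst]
        erw [pullbackSymmetry_hom_comp_fst_assoc]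
        erw [reassoc_of% (pullbackSpecIso_inv_snd k kb A)]
        rfl
      · simp only [J, m, Category.assoc, pullback.lift_snd, Category.comp_id]
        erw [pullbackSymmetry_hom_comp_snd]
        erw [pullbackSpecIso_inv_fst]
    rw [eJ]
    infer_instance
  let fZ : Z.left ⟶ Spec (CommRingCat.of (kb ⊗[k] A)) := s.left ≫ inv J
  obtain ⟨I, ez, hez⟩ := (IsClosedImmersion.Spec_iff (R := CommRingCat.of (kb ⊗[k] A)) (f := fZ)).1
    (inferInstanceAs (IsClosedImmersion (s.left ≫ inv J)))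
  let C := (kb ⊗[k] A) ⧸ I
  let φ : A →ₐ[k] C := ((Ideal.Quotient.mkₐ k I).comp Algebra.TensorProduct.includeRight)
  have hs : s.left = ez.hom ≫ Spec.map (CommRingCat.ofHom (Ideal.Quotient.mk I)) ≫ J := by
    have : fZ ≫ J = s.left := by simp [fZ]
    rw [← this, hez]
    exact Category.assoc _ _ _
  have hsfst : s.left ≫ pullback.fst G.hom T.hom =
      ez.hom ≫ Spec.map (CommRingCat.ofHom φ.toRingHom) ≫ e.hom.left := by
    rw [hs, Category.assoc, Category.assoc]
    congr 1
    simp only [J, pullback.lift_fst]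
    rw [← Category.assoc, ← Spec.map_comp]
    rfl
  have hZ : Z.hom = ez.hom ≫ Spec.map (CommRingCat.ofHom (algebraMap kb C)) := by
    rw [← Over.w s]
    show s.left ≫ pullback.snd G.hom T.hom = _
    rw [hs, Category.assoc, Category.assoc]
    congr 1
    simp only [J, pullback.lift_snd]
    rw [← Spec.map_comp]
    rfl
  -- points of the subscheme as algebra maps
  have hfw : ∀ (ω : C →ₐ[kb] kb) (g : SGA7.Pts kb G), χ g = (ω.restrictScalars k).comp φ →
      ∃ z, z ≫ s = GalTw.secOfPt kb g := fun ω g hg => by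
    have hw : (Spec.map (CommRingCat.ofHom ω.toRingHom) ≫ ez.inv) ≫ Z.hom = 𝟙 _ := by
      rw [hZ, Category.assoc, ez.inv_hom_id_assoc, ← Spec.map_comp, ← Spec.map_id, ← CommRingCat.ofHom_comp]
      congr 1
      ext x
      exact ω.commutes x
    refine ⟨Over.homMk (Spec.map (CommRingCat.ofHom ω.toRingHom) ≫ ez.inv) hw, ?_⟩
    apply Over.OverMorphism.ext
    apply pullback.hom_ext
    · rw [GalTw.secOfPt_left, pullback.lift_fst, Over.comp_left, Category.assoc, hsfst]
      show (Spec.map _ ≫ ez.inv) ≫ ez.hom ≫ _ = g.left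
      rw [Category.assoc, ez.inv_hom_id_assoc, ← Category.assoc, ← Spec.map_comp, ← hχ g, hg]
      rfl
    · rw [GalTw.secOfPt_left, pullback.lift_snd, Over.comp_left, Category.assoc]
      show _ ≫ s.left ≫ (GalTw.bcK kb G).hom = _
      rw [Over.w s]
      exact hw
  have hbw : ∀ (g : SGA7.Pts kb G) (z), z ≫ s = GalTw.secOfPt kb g →
      ∃ ω : C →ₐ[kb] kb, χ g = (ω.restrictScalars k).comp φ ∧
        z.left = Spec.map (CommRingCat.ofHom ω.toRingHom) ≫ ez.inv := fun g z hz => by
    obtain ⟨q, hq⟩ : ∃ q : CommRingCat.of C ⟶ CommRingCat.of kb, Spec.map q = z.left ≫ ez.hom :=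
      ⟨Spec.preimage _, Spec.map_preimage _⟩
    have hqc : ∀ x, q.hom (algebraMap kb C x) = x := by
      have h1 : Spec.map (CommRingCat.ofHom (algebraMap kb C) ≫ q) = Spec.map (𝟙 (CommRingCat.of kb)) := by
        rw [Spec.map_comp, hq, Category.assoc, ← hZ, Spec.map_id]
        exact Over.w z
      exact fun x => ConcreteCategory.congr_hom (Spec.map_injective h1) x
    refine ⟨{ q.hom with commutes' := hqc }, hχu _ _ ?_, ?_⟩
    · apply Over.OverMorphism.ext
      have h2 : z.left ≫ s.left ≫ pullback.fst G.hom T.hom = g.left := by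
        rw [← Category.assoc, ← Over.comp_left, hz, GalTw.secOfPt_left, pullback.lift_fst]
      rw [hsfst, ← Category.assoc, ← hq, ← Category.assoc, ← Spec.map_comp] at h2
      exact h2
    · show z.left = Spec.map q ≫ ez.inv
      rw [hq, Category.assoc, ez.hom_inv_id, Category.comp_id]
  have hωinj : ∀ ω ω' : C →ₐ[kb] kb, (ω.restrictScalars k).comp φ = (ω'.restrictScalars k).comp φ → ω = ω' :=
    fun ω ω' h => by
      refine Ideal.Quotient.algHom_ext kb (Algebra.TensorProduct.ext (Subsingleton.elim _ _) (AlgHom.ext fun a => ?_))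
      exact DFunLike.congr_fun h a
  -- generators
  let Mc : Matrix (Fin n) (Fin n) C := fun i j => φ (p (CoordGrp.GLn.X i j))
  have hd : Mc.det * φ (p CoordGrp.GLn.Dinv) = 1 := by
    have h := congrArg (φ.comp p) (CoordGrp.GLn.det_mul_Dinv (n := n) (k := k))
    rw [map_mul, map_one, CoordGrp.GLn.det_eq, AlgHom.map_det] at h
    exact h
  let Φ : CoordGrp.GLn n kb →ₐ[kb] C := CoordGrp.GLn.pt n kb Mc _ hd
  have hΦ : Function.Surjective Φ := by
    have hX : ∀ i j, φ (p (CoordGrp.GLn.X i j)) = Φ (CoordGrp.GLn.X i j) := fun i j =>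
      (CoordGrp.GLn.pt_X Mc _ hd i j).symm
    have hmem : ∀ b : CoordGrp.GLn n k, φ (p b) ∈ Set.range Φ := by
      let S : Subalgebra k C := Φ.range.restrictScalars k
      let M' : Matrix (Fin n) (Fin n) S := fun i j => ⟨Mc i j, _, CoordGrp.GLn.pt_X Mc _ hd i j⟩
      let d' : S := ⟨φ (p CoordGrp.GLn.Dinv), _, CoordGrp.GLn.pt_Dinv Mc _ hd⟩
      have hd' : M'.det * d' = 1 := Subtype.ext (by
        show S.val (M'.det * d') = (1 : C)
        rw [map_mul, AlgHom.map_det]
        exact hd)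
      have hθ : φ.comp p = S.val.comp (CoordGrp.GLn.pt n k M' d' hd') :=
        Groth.ComodLib.glnAlgHom_ext fun i j => by
          show Mc i j = S.val (CoordGrp.GLn.pt n k M' d' hd' (CoordGrp.GLn.X i j))
          rw [CoordGrp.GLn.pt_X]
          rfl
      intro b
      rw [show φ (p b) = _ from DFunLike.congr_fun hθ b]
      exact (CoordGrp.GLn.pt n k M' d' hd' b).2
    intro y
    obtain ⟨x, rfl⟩ := Ideal.Quotient.mk_surjective y
    induction x using TensorProduct.induction_on with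
    | zero => exact ⟨0, by rw [map_zero, map_zero]⟩
    | tmul c a =>
      obtain ⟨b, rfl⟩ := hp a
      obtain ⟨y, hy⟩ := hmem b
      refine ⟨c • y, ?_⟩
      rw [map_smul, hy]
      show c • Ideal.Quotient.mk I ((1 : kb) ⊗ₜ[k] p b) = _
      rw [← Ideal.Quotient.mkₐ_eq_mk kb, ← map_smul, TensorProduct.smul_tmul', smul_eq_mul, _root_.mul_one]
    | add x y hx hy =>
      obtain ⟨a, ha⟩ := hx
      obtain ⟨b, hb⟩ := hy
      exact ⟨a + b, by rw [map_add, map_add, ha, hb]⟩
  let ψ : MvPolynomial (Fin n × Fin n) kb →ₐ[kb] C := MvPolynomial.aeval fun ij => Mc ij.1 ij.2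
  have hψ : ∀ (ω : C →ₐ[kb] kb) (g : SGA7.Pts kb G), χ g = (ω.restrictScalars k).comp φ →
      ∀ P, ω (ψ P) = MvPolynomial.eval (UniTri.entries (ρ g)) P := fun ω g hg P => by
    show ω (MvPolynomial.aeval _ P) = _
    rw [MvPolynomial.comp_aeval_apply, MvPolynomial.aeval_eq_eval]
    show MvPolynomial.eval _ P = _
    refine congrArg (fun f => MvPolynomial.eval f P) (funext fun ij => ?_)
    show ω (φ (p (CoordGrp.GLn.X ij.1 ij.2))) = _
    rw [UniTri.entries, hρ, hg]
    rfl
  have hgpt : ∀ ω : C →ₐ[kb] kb, ∃ g : SGA7.Pts kb G, χ g = (ω.restrictScalars k).comp φ := fun ω =>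
    ⟨CoactBr.pt ((ω.restrictScalars k).comp φ) ≫ e.hom, hχu _ _ rfl⟩
  refine ⟨⟨{P | ψ P = 0}, fun x => ⟨?_, fun hx => ?_⟩⟩, C, inferInstance, inferInstance,
    inferInstance, ⟨{ ψ := ψ, mem := fun ω => ?_, exists_point := ?_, inj := fun ω ω' h => ?_ }⟩, ?_⟩
  · rintro ⟨g, ⟨z, hz⟩, rfl⟩ P hP
    obtain ⟨ω, hω, -⟩ := hbw g z hz
    rw [← hψ ω g hω, show ψ P = 0 from hP, map_zero]
  · have hdx : x.1.det * (x⁻¹).1.det = 1 := by
      rw [← Matrix.det_mul, ← Units.val_mul, mul_inv_cancel, Units.val_one, Matrix.det_one]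
    let px : CoordGrp.GLn n kb →ₐ[kb] kb := CoordGrp.GLn.pt n kb x.1 (x⁻¹).1.det hdx
    have hker : ∀ f : CoordGrp.GLn n kb, Φ f = 0 → px f = 0 := fun f hf => by
      obtain ⟨m, P, hP⟩ := exists_mul_det_pow f
      have h1 : ψ P = 0 := by
        have h2 := congrArg Φ hP
        rw [map_mul, hf, zero_mul, MvPolynomial.comp_aeval_apply] at h2
        rw [h2]
        show MvPolynomial.aeval _ P = MvPolynomial.aeval _ P
        congr 2
        funext ij
        exact (CoordGrp.GLn.pt_X Mc _ hd ij.1 ij.2).symm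
      have h3 := congrArg px hP
      rw [map_mul, map_pow, MvPolynomial.comp_aeval_apply, MvPolynomial.aeval_eq_eval] at h3
      have h4 : MvPolynomial.eval (fun ij => px (CoordGrp.GLn.X ij.1 ij.2)) P = 0 := by
        have h5 := hx P h1
        convert h5 using 3
        funext ij
        exact CoordGrp.GLn.pt_X x.1 _ hdx ij.1 ij.2
      rw [h4] at h3
      refine (mul_eq_zero.1 h3).resolve_right (pow_ne_zero _ ?_)
      rw [CoordGrp.GLn.pt_det]
      exact left_ne_zero_of_mul_eq_one hdx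
    let ω : C →ₐ[kb] kb := AlgHom.liftOfSurjective Φ hΦ px fun f hf => hker f hf
    obtain ⟨g, hg⟩ := hgpt ω
    refine ⟨g, hfw ω g hg, Units.ext (Matrix.ext fun i j => ?_)⟩
    rw [hρ, hg]
    show ω (φ (p (CoordGrp.GLn.X i j))) = x.1 i j
    rw [← CoordGrp.GLn.pt_X (k := kb) x.1 _ hdx i j]
    have h6 : φ (p (CoordGrp.GLn.X i j)) = Φ (CoordGrp.GLn.X i j) := (CoordGrp.GLn.pt_X Mc _ hd i j).symm
    rw [h6]
    exact AlgHom.liftOfSurjective_apply _ _ _ _ _
  · obtain ⟨g, hg⟩ := hgpt ω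
    exact ⟨ρ g, ⟨g, hfw ω g hg, rfl⟩, hψ ω g hg⟩
  · rintro _ ⟨g, ⟨z, hz⟩, rfl⟩
    obtain ⟨ω, hω, -⟩ := hbw g z hz
    exact ⟨ω, hψ ω g hω⟩
  · obtain ⟨g, hg⟩ := hgpt ω
    obtain ⟨g', hg'⟩ := hgpt ω'
    have e1 : ρ g = ρ g' := Units.ext (Matrix.ext fun i j => by
      have h1 := h (MvPolynomial.X (i, j))
      rw [hψ ω g hg, hψ ω' g' hg', MvPolynomial.eval_X, MvPolynomial.eval_X] at h1
      exact h1)
    refine hωinj ω ω' ?_
    rw [← hg, ← hg', hinj e1]
  · rw [IsHomeomorph.topologicalKrullDim_eq _ ez.hom.homeomorph.isHomeomorph]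
    exact (PrimeSpectrum.topologicalKrullDim_eq_ringKrullDim C).symm

end Groth.StackCount
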