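import Groth.Agent.StackCount.Mass

/-!
# Multiplicativity of masses of twisted conjugation in extensions
-/

set_option autoImplicit false

noncomputable section

universe u

namespace Groth.StackCount.Mass

open MulAction

variable {Γ C : Type u} [Group Γ] [Group C]

/-- Twisted conjugation on a quotient, acted upon by the group. -/
def PushTw (_π : Γ →* C) (fC : C →* C) : Type u := TwConj fC

instance (π : Γ →* C) (fC : C →* C) : MulAction Γ (PushTw π fC) where
  smul g c := (π g • (show TwConj fC from c) : TwConj fC)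
  one_smul c := show π 1 • (show TwConj fC from c) = c by rw [map_one, one_smul]
  mul_smul g h c := show π (g * h) • (show TwConj fC from c) = π g • π h • (show TwConj fC from c) by
    rw [map_mul, mul_smul]

/-- The mass of a twisted conjugation is multiplicative in extensions, when all twists of the kernel
have the same mass. -/
theorem hasMass_extension (f : Γ →* Γ) (fC : C →* C) (π : Γ →* C) (hπ : Function.Surjective π)
    (hf : ∀ x, π (f x) = fC (π x)) {α mC : ℚ} (hC : HasMass C (TwConj fC) mC)
    (hα : ∀ (b : Γ) (τ : π.ker →* π.ker), (∀ a : π.ker, (τ a).1 = f (b * a.1 * b⁻¹)) →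
      HasMass π.ker (TwConj τ) α) :
    HasMass Γ (TwConj f) (α * mC) := by
  let p : TwConj f →[Γ] PushTw π fC := ⟨fun a => (π (show Γ from a) : C), fun g a => by
    show π (f g * (show Γ from a) * g⁻¹) = fC (π g) * π (show Γ from a) * (π g)⁻¹
    rw [map_mul, map_mul, map_inv, hf]⟩
  let Φ : orbitRel.Quotient Γ (PushTw π fC) → orbitRel.Quotient C (TwConj fC) :=
    Quotient.map' (fun c => (show TwConj fC from c)) (fun a b hab => by
      obtain ⟨g, hg⟩ := orbitRel_apply.1 hab
      exact orbitRel_apply.2 ⟨π g, hg⟩)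
  have hΦ : Function.Bijective Φ := by
    constructor
    · rintro ⟨a⟩ ⟨b⟩ hab
      obtain ⟨c, hc⟩ := orbitRel_apply.1 (Quotient.eq''.1 hab)
      obtain ⟨g, rfl⟩ := hπ c
      exact Quotient.sound' (orbitRel_apply.2 ⟨g, hc⟩)
    · rintro ⟨a⟩
      exact ⟨Quotient.mk'' (show PushTw π fC from a), rfl⟩
  have := hC.1
  have := Finite.of_equiv _ (Equiv.ofBijective Φ hΦ).symm
  have key : ∀ q : orbitRel.Quotient Γ (PushTw π fC), HasMass (stabilizer Γ q.out) (Fib p q.out)
      (α / Nat.card (stabilizer C (Φ q).out)) := by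
    intro q
    set c : PushTw π fC := q.out
    obtain ⟨b, hb⟩ := hπ (show C from c)
    let D := stabilizer Γ c
    let A' : Subgroup D := π.ker.subgroupOf D
    let πD : D →* stabilizer C (show TwConj fC from c) :=
      (π.comp D.subtype).codRestrict _ fun d => d.2
    have hπD : Function.Surjective πD := fun x => by
      obtain ⟨g, hg⟩ := hπ x.1
      exact ⟨⟨g, by show π g • (show TwConj fC from c) = (show TwConj fC from c); rw [hg]; exact x.2⟩, Subtype.ext hg⟩
    have hker : πD.ker = A' := by
      ext d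
      exact ⟨fun h => congrArg Subtype.val h, fun h => Subtype.ext h⟩
    let e₀ : D ⧸ A' ≃ stabilizer C (show TwConj fC from c) :=
      ((QuotientGroup.quotientMulEquivOfEq hker).symm.trans
        (QuotientGroup.quotientKerEquivOfSurjective πD hπD)).toEquiv
    have hfinC : Finite (stabilizer C (show TwConj fC from c)) := hC.2.1 _
    have : Finite (D ⧸ A') := Finite.of_equiv _ e₀.symm
    have hcard : Nat.card (stabilizer C (Φ q).out) = Nat.card (D ⧸ A') := by
      rw [Nat.card_congr e₀]
      conv_lhs => rw [← Quotient.out_eq' q]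
      exact card_stabilizer_out (show TwConj fC from c)
    rw [hcard]
    refine hasMass_of_index A' ?_
    have hmem : ∀ x : π.ker, f (b⁻¹ * x.1 * b) ∈ π.ker := fun x => by
      rw [MonoidHom.mem_ker, hf]
      simp [MonoidHom.mem_ker.1 x.2]
    let τ : π.ker →* π.ker := MonoidHom.mk' (fun x => ⟨f (b⁻¹ * x.1 * b), hmem x⟩) fun x y => Subtype.ext (by
      show f (b⁻¹ * (x.1 * y.1) * b) = f (b⁻¹ * x.1 * b) * f (b⁻¹ * y.1 * b)
      rw [← map_mul]
      congr 1
      group)
    have hτ : HasMass π.ker (TwConj τ) α := hα b⁻¹ τ fun a => by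
      show f (b⁻¹ * a.1 * b) = _
      rw [inv_inv]
    have hjD : ∀ x : π.ker, b⁻¹ * x.1 * b ∈ D := fun x => by
      show π (b⁻¹ * x.1 * b) • (show TwConj fC from c) = c
      rw [show π (b⁻¹ * x.1 * b) = 1 by simp [MonoidHom.mem_ker.1 x.2]]
      exact one_smul C (show TwConj fC from c)
    let j : π.ker →* A' := MonoidHom.mk' (fun x => ⟨⟨b⁻¹ * x.1 * b, hjD x⟩, by
      show b⁻¹ * x.1 * b ∈ π.ker
      simp [MonoidHom.mem_ker, MonoidHom.mem_ker.1 x.2]⟩) fun x y => Subtype.ext (Subtype.ext (by
      show b⁻¹ * (x.1 * y.1) * b = b⁻¹ * x.1 * b * (b⁻¹ * y.1 * b)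
      group))
    let e : TwConj τ → Fib p c := fun a => ⟨((show π.ker from a).1 * b : Γ), by
      show π ((show π.ker from a).1 * b) = _
      rw [map_mul, MonoidHom.mem_ker.1 (show π.ker from a).2, one_mul]
      exact hb⟩
    have hj : Function.Bijective j := by
      refine ⟨fun x y h => Subtype.ext ?_, fun y => ⟨⟨b * y.1.1 * b⁻¹, ?_⟩, Subtype.ext (Subtype.ext ?_)⟩⟩
      · have := congrArg (fun z => z.1.1) h
        exact mul_left_cancel (mul_right_cancel this)
      · have : π y.1.1 = 1 := y.2
        simp [MonoidHom.mem_ker, this]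
      · show b⁻¹ * (b * y.1.1 * b⁻¹) * b = y.1.1
        group
    have hcomp : ∀ (x : π.ker) (a : TwConj τ), e (x • a) = j x • e a := fun x a => Subtype.ext (by
      show (f (b⁻¹ * x.1 * b) * (show π.ker from a).1 * x.1⁻¹) * b =
        f (b⁻¹ * x.1 * b) * ((show π.ker from a).1 * b) * (b⁻¹ * x.1 * b)⁻¹
      group)
    have he : Function.Injective e := fun a a' h =>
      Subtype.ext (mul_right_cancel (congrArg Subtype.val h : (show π.ker from a).1 * b = (show π.ker from a').1 * b))
    refine (hasMass_iff_of_equiv e j hj.1 hcomp (fun x => ?_) (fun a₁ a₂ g hg => ?_)).1 hτ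
    · refine ⟨1, (⟨(show Γ from x.1) * b⁻¹, ?_⟩ : π.ker), ?_⟩
      · rw [MonoidHom.mem_ker, map_mul, map_inv, hb]
        exact mul_inv_eq_one.2 x.2
      · rw [one_smul]
        exact Subtype.ext (inv_mul_cancel_right (show Γ from x.1) b)
    · obtain ⟨x, rfl⟩ := hj.2 g
      exact ⟨x, he ((hcomp x a₁).trans hg), rfl⟩
  have h := hasMass_of_fibres p _ key
  convert h using 1
  have := Fintype.ofFinite (orbitRel.Quotient Γ (PushTw π fC))
  have := Fintype.ofFinite (orbitRel.Quotient C (TwConj fC))
  rw [← hC.2.2, ← finsum_comp_equiv (Equiv.ofBijective Φ hΦ)]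
  simp only [finsum_eq_sum_of_fintype, Finset.mul_sum, Equiv.ofBijective_apply, div_eq_mul_inv]

/-- The mass of twisted conjugation on a finite group is one. -/
theorem hasMass_twConj_finite [Finite Γ] (f : Γ →* Γ) : HasMass Γ (TwConj f) 1 := by
  have : Finite (TwConj f) := ‹Finite Γ›
  have h := hasMass_finite Γ (TwConj f)
  rwa [show Nat.card (TwConj f) = Nat.card Γ from rfl, div_self (Nat.cast_ne_zero.2 Nat.card_pos.ne')] at h

end Groth.StackCount.Mass
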