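import Groth.Agent.StackCount.Dominant
import Mathlib

/-!
# Finitely generated algebras over an algebraically closed field through their rational points:
values of one function, and the dimension through coordinates.
-/

set_option autoImplicit false

universe u

noncomputable section

namespace Groth.StackCount.PointsDim

open Polynomial

variable {K : Type u} [Field K] [IsAlgClosed K] {B : Type u} [CommRing B] [Algebra K B] [Algebra.FiniteType K B]

/-- Every maximal ideal is the kernel of a rational point. -/
theorem exists_point (m : Ideal B) [m.IsMaximal] : ∃ χ : B →ₐ[K] K, RingHom.ker χ = m := by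
  let : Field (B ⧸ m) := Ideal.Quotient.field m
  have : Module.Finite K (B ⧸ m) := finite_of_finite_type_of_isJacobsonRing K (B ⧸ m)
  let e : K ≃ₐ[K] B ⧸ m := AlgEquiv.ofBijective (Algebra.ofId K _)
    (IsAlgClosed.algebraMap_bijective_of_isIntegral (k := K) (K := B ⧸ m))
  refine ⟨e.symm.toAlgHom.comp (Ideal.Quotient.mkₐ K m), ?_⟩
  ext x
  simp [RingHom.mem_ker, Ideal.Quotient.eq_zero_iff_mem]

/-- A function annihilating every rational point outside a set on which another does not vanish. -/
theorem exists_point_ne [IsReduced B] {b : B} (hb : b ≠ 0) : ∃ χ : B →ₐ[K] K, χ b ≠ 0 := by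
  have : IsJacobsonRing B := isJacobsonRing_of_finiteType (A := K)
  have hJ : (⊥ : Ideal B).jacobson = ⊥ :=
    IsJacobsonRing.out' _ (Ideal.isRadical_iff_quotient_reduced _ |>.2
      (isReduced_of_injective (RingEquiv.quotientBot B) (RingEquiv.injective _)))
  by_contra! hc
  refine hb ((Submodule.mem_bot B).1 (hJ ▸ ?_))
  rw [Ideal.jacobson, Submodule.mem_sInf]
  intro m hm
  have := hm.2
  obtain ⟨χ, hχ⟩ := exists_point (K := K) m
  rw [← hχ, RingHom.mem_ker]
  exact hc χ

/-- The values of a function at the rational points form a finite or cofinite set. -/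
theorem finite_or_cofinite_values (f : B) :
    (Set.range fun χ : B →ₐ[K] K => χ f).Finite ∨ (Set.range fun χ : B →ₐ[K] K => χ f)ᶜ.Finite := by
  classical
  have hN : IsNoetherianRing B := Algebra.FiniteType.isNoetherianRing K B
  let φ : K[X] →ₐ[K] B := aeval f
  by_cases h : ∃ P ∈ minimalPrimes B, ∀ g : K[X], φ g ∈ P → g = 0
  · right
    obtain ⟨P, hP, hPinj⟩ := h
    have : P.IsPrime := hP.1.1
    let ψ : K[X] →ₐ[K] B ⧸ P := (Ideal.Quotient.mkₐ K P).comp φ
    have hψ : Function.Injective ψ := (injective_iff_map_eq_zero ψ).2 fun g hg =>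
      hPinj g (Ideal.Quotient.eq_zero_iff_mem.1 hg)
    obtain ⟨r, hr, hrange⟩ := Groth.Agf.exists_ne_zero_of_bot_mem
      (s := Set.range (PrimeSpectrum.comap ψ.toRingHom))
      (PrimeSpectrum.isConstructible_range_comap ((RingHom.FinitePresentation.of_finiteType).1
        (RingHom.FiniteType.of_comp_finiteType (f := algebraMap K K[X]) (g := ψ.toRingHom)
          (by rw [AlgHom.toRingHom_eq_coe, ψ.comp_algebraMap]; exact RingHom.finiteType_algebraMap.2 inferInstance))))
      ⟨⊥, by ext x; simp [map_eq_zero_iff ψ hψ]⟩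
    refine Set.Finite.subset (Polynomial.finite_setOfPred_isRoot hr) fun v hv => ?_
    by_contra hne
    refine hv ?_
    let m : Ideal K[X] := Ideal.span {X - C v}
    have hm : m.IsMaximal := PrincipalIdealRing.isMaximal_of_irreducible (irreducible_X_sub_C v)
    obtain ⟨Q, hQ⟩ := hrange ⟨m, hm.isPrime⟩ (fun hrm => hne (by
      obtain ⟨c, hc⟩ := Ideal.mem_span_singleton'.1 hrm
      simp [IsRoot, ← hc]))
    obtain ⟨M, hM, hQM⟩ := Ideal.exists_le_maximal Q.asIdeal Q.isPrime.ne_top
    obtain ⟨χ, hχ⟩ := exists_point (K := K) M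
    refine ⟨χ.comp (Ideal.Quotient.mkₐ K P), ?_⟩
    have hmem : X - C v ∈ Q.asIdeal.comap ψ.toRingHom := by
      rw [show Q.asIdeal.comap ψ.toRingHom = m from congrArg PrimeSpectrum.asIdeal hQ]
      exact Ideal.mem_span_singleton_self _
    have h0 : χ (ψ (X - C v)) = 0 := by
      rw [← RingHom.mem_ker, hχ]
      exact hQM hmem
    simpa [ψ, φ, sub_eq_zero] using h0
  · left
    push Not at h
    choose g hg hg0 using h
    have hfin : (minimalPrimes B).Finite := minimalPrimes.finite_of_isNoetherianRing B
    let G : K[X] := ∏ P ∈ hfin.toFinset.attach, g P.1 (hfin.mem_toFinset.1 P.2)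
    have hG0 : G ≠ 0 := Finset.prod_ne_zero_iff.2 fun P _ => hg0 _ _
    refine Set.Finite.subset (Polynomial.finite_setOfPred_isRoot hG0) ?_
    rintro _ ⟨χ, rfl⟩
    have : (RingHom.ker χ).IsPrime := RingHom.ker_isPrime _
    obtain ⟨P, hP, hPle⟩ := Ideal.exists_minimalPrimes_le (I := (⊥ : Ideal B)) (J := RingHom.ker χ) bot_le
    have h1 : φ G ∈ P := by
      have := hP.1.1
      refine Ideal.mem_of_dvd P (map_dvd φ (Finset.dvd_prod_of_mem _ (Finset.mem_attach _ ⟨P, hfin.mem_toFinset.2 hP⟩)))
        (hg P hP)
    have h2 : χ (φ G) = 0 := hPle h1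
    show G.IsRoot (χ f)
    rwa [IsRoot, ← coe_aeval_eq_eval, aeval_algHom_apply]

/-- Coordinates with finite fibres on points make each component algebraic over the coordinates. -/
theorem ringKrullDim_quotient_eq_range {J : Type} [Fintype J] (f : J → B)
    (hfib : ∀ v : J → K, {χ : B →ₐ[K] K | ∀ j, χ (f j) = v j}.Finite) (P : Ideal B) [P.IsPrime] :
    ringKrullDim (B ⧸ P) = ringKrullDim ((Ideal.Quotient.mkₐ K P).comp (MvPolynomial.aeval f)).range := by
  classical
  let ψ := (Ideal.Quotient.mkₐ K P).comp (MvPolynomial.aeval f)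
  let R := ψ.range
  let D := B ⧸ P
  have : Algebra.FiniteType K R := Algebra.FiniteType.of_surjective ψ.rangeRestrict ψ.rangeRestrict_surjective
  have : IsNoetherianRing R := Algebra.FiniteType.isNoetherianRing K R
  have halg : Algebra.IsAlgebraic R D := by
    refine ⟨fun t => ?_⟩
    by_contra ht
    have hinj : Function.Injective (aeval (R := R) t) := transcendental_iff_injective.1 ht
    let g : R[X] →ₐ[K] D := (aeval (R := R) t).restrictScalars K
    have : Algebra.FiniteType K R[X] := Algebra.FiniteType.trans (S := R) inferInstance inferInstance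
    obtain ⟨r, hr, hrange⟩ := Groth.Agf.exists_ne_zero_of_bot_mem
      (s := Set.range (PrimeSpectrum.comap g.toRingHom))
      (PrimeSpectrum.isConstructible_range_comap ((RingHom.FinitePresentation.of_finiteType).1
        (RingHom.FiniteType.of_comp_finiteType (f := algebraMap K R[X]) (g := g.toRingHom)
          (by rw [AlgHom.toRingHom_eq_coe, g.comp_algebraMap]; exact RingHom.finiteType_algebraMap.2 inferInstance))))
      ⟨⊥, by ext x; simp [map_eq_zero_iff g hinj]⟩
    obtain ⟨v, hv⟩ := exists_point_ne (K := K) (B := R) (b := r.leadingCoeff) (leadingCoeff_ne_zero.2 hr)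
    have hrv : r.map v.toRingHom ≠ 0 := fun h => hv (by
      simpa using congrArg (fun q : K[X] => q.coeff r.natDegree) h)
    let e : ∀ j, R := fun j => ⟨Ideal.Quotient.mkₐ K P (f j), MvPolynomial.X j, by simp [ψ]⟩
    let bad : Set K := {x | (r.map v.toRingHom).IsRoot x}
    have key : ∀ x : K, x ∉ bad → ∃ χ : B →ₐ[K] K, (∀ j, χ (f j) = v (e j)) ∧
        ∃ χD : D →ₐ[K] K, χD.comp (Ideal.Quotient.mkₐ K P) = χ ∧ χD t = x := by
      intro x hx
      let ev : R[X] →ₐ[K] K := Polynomial.aevalTower v x
      have hev : Function.Surjective ev := fun c => ⟨algebraMap K _ c, ev.commutes c⟩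
      have hm : (RingHom.ker ev).IsMaximal := RingHom.ker_isMaximal_of_surjective _ hev
      obtain ⟨Q, hQ⟩ := hrange ⟨RingHom.ker ev, hm.isPrime⟩ (fun h => hx (by
        have : ev r = 0 := RingHom.mem_ker.1 h
        show (r.map v.toRingHom).eval x = 0
        rw [eval_map]
        exact this))
      obtain ⟨M, hM, hQM⟩ := Ideal.exists_le_maximal Q.asIdeal Q.isPrime.ne_top
      obtain ⟨χD, hχD⟩ := exists_point (K := K) M
      have hcomp : χD.comp g = ev := by
        refine AlgHom.ext fun y => ?_
        have hy : y - algebraMap K _ (ev y) ∈ RingHom.ker ev := by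
          rw [RingHom.mem_ker, map_sub, AlgHom.commutes]
          simp
        rw [show RingHom.ker ev = Q.asIdeal.comap g.toRingHom from (congrArg PrimeSpectrum.asIdeal hQ).symm] at hy
        have h0 : χD (g (y - algebraMap K _ (ev y))) = 0 := by
          rw [← RingHom.mem_ker, hχD]
          exact hQM hy
        rw [map_sub, map_sub, AlgHom.commutes, AlgHom.commutes, sub_eq_zero] at h0
        exact h0
      refine ⟨χD.comp (Ideal.Quotient.mkₐ K P), fun j => ?_, χD, rfl, ?_⟩
      · have := DFunLike.congr_fun hcomp (C (e j))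
        simpa [g, ev, e, D] using this
      · simpa [g, ev] using DFunLike.congr_fun hcomp X
    obtain ⟨tB, htB⟩ := Ideal.Quotient.mk_surjective t
    have hfin := (hfib fun j => v (e j)).image fun χ => χ tB
    have : (Set.univ : Set K).Finite := by
      refine Set.Finite.subset ((Polynomial.finite_setOfPred_isRoot hrv).union hfin) fun x _ => ?_
      by_cases hx : x ∈ bad
      · exact Or.inl hx
      · obtain ⟨χ, h1, χD, h2, h3⟩ := key x hx
        refine Or.inr ⟨χ, h1, ?_⟩
        rw [← h2, ← h3, ← htB]
        rfl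
    exact Set.infinite_univ this
  obtain ⟨n, hn, hn', -⟩ := Groth.Variety2.Dim.exists_dim K R
  obtain ⟨m, hm, hm', -⟩ := Groth.Variety2.Dim.exists_dim K D
  rw [hm', hn']
  have h1 := trdeg_add_eq K R (A := D)
  rw [trdeg_eq_zero (R := R) (A := D), add_zero] at h1
  have h2 := trdeg_add_eq K R (A := FractionRing R)
  have : Algebra.IsAlgebraic R (FractionRing R) := IsLocalization.isAlgebraic _ (nonZeroDivisors R)
  rw [trdeg_eq_zero (R := R) (A := FractionRing R), add_zero] at h2
  have h4 := trdeg_add_eq K D (A := FractionRing D)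
  have : Algebra.IsAlgebraic D (FractionRing D) := IsLocalization.isAlgebraic _ (nonZeroDivisors D)
  rw [trdeg_eq_zero (R := D) (A := FractionRing D), add_zero] at h4
  rw [← h4, ← h1, h2, hn] at hm
  have : n = m := by exact_mod_cast hm
  rw [this]

/-- Coordinates which are surjective with finite fibres on rational points compute the dimension. -/
theorem ringKrullDim_eq_card {J : Type} [Fintype J] (f : J → B)
    (hsurj : ∀ v : J → K, ∃ χ : B →ₐ[K] K, ∀ j, χ (f j) = v j)
    (hfib : ∀ v : J → K, {χ : B →ₐ[K] K | ∀ j, χ (f j) = v j}.Finite) :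
    ringKrullDim B = Fintype.card J := by
  classical
  have hN : IsNoetherianRing B := Algebra.FiniteType.isNoetherianRing K B
  have hdimJ : ringKrullDim (MvPolynomial J K) = Fintype.card J := by
    rw [MvPolynomial.ringKrullDim_of_isNoetherianRing, ringKrullDim_eq_zero_of_field]
    simp
  refine le_antisymm ?_ ?_
  · refine iSup_le fun l => ?_
    let P := l.head.asIdeal
    have : P.IsPrime := l.head.isPrime
    have hle : ∀ i, P ≤ (l i).asIdeal := fun i => (l.head_le i)
    have hb : ringKrullDim (B ⧸ P) ≤ Fintype.card J := by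
      rw [ringKrullDim_quotient_eq_range f hfib P, ← hdimJ]
      exact ringKrullDim_le_of_surjective (((Ideal.Quotient.mkₐ K P).comp (MvPolynomial.aeval f)).rangeRestrict).toRingHom
        (AlgHom.rangeRestrict_surjective _)
    refine le_trans ?_ hb
    let e := (Ideal.primeSpectrumQuotientOrderIsoZeroLocus P).symm
    let l' : LTSeries (PrimeSpectrum (B ⧸ P)) :=
      ⟨l.length, fun i => e ⟨l i, hle i⟩, fun i => e.strictMono (l.step i)⟩
    exact le_iSup_iff.2 fun b hb' => hb' l'
  · by_cases h : ∃ P ∈ minimalPrimes B, ∀ g : MvPolynomial J K, MvPolynomial.aeval f g ∈ P → g = 0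
    · obtain ⟨P, hP, hinj⟩ := h
      have : P.IsPrime := hP.1.1
      refine le_trans (le_of_eq ?_) (ringKrullDim_quotient_le P)
      rw [ringKrullDim_quotient_eq_range f hfib P, ← hdimJ]
      refine ringKrullDim_eq_of_ringEquiv (AlgEquiv.ofInjective _ ((injective_iff_map_eq_zero _).2 fun g hg =>
        hinj g (Ideal.Quotient.eq_zero_iff_mem.1 hg))).toRingEquiv
    · exfalso
      push Not at h
      choose g hg hg0 using h
      have hfin : (minimalPrimes B).Finite := minimalPrimes.finite_of_isNoetherianRing B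
      let G : MvPolynomial J K := ∏ P ∈ hfin.toFinset.attach, g P.1 (hfin.mem_toFinset.1 P.2)
      have hG0 : G ≠ 0 := Finset.prod_ne_zero_iff.2 fun P _ => hg0 _ _
      refine hG0 (MvPolynomial.funext fun v => ?_)
      obtain ⟨χ, hχ⟩ := hsurj v
      have : (RingHom.ker χ).IsPrime := RingHom.ker_isPrime _
      obtain ⟨P, hP, hPle⟩ := Ideal.exists_minimalPrimes_le (I := (⊥ : Ideal B)) (J := RingHom.ker χ) bot_le
      have h1 : MvPolynomial.aeval f G ∈ P := Ideal.mem_of_dvd P
        (map_dvd (MvPolynomial.aeval f) (Finset.dvd_prod_of_mem _ (Finset.mem_attach _ ⟨P, hfin.mem_toFinset.2 hP⟩)))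
        (hg P hP)
      have h2 : χ (MvPolynomial.aeval f G) = 0 := hPle h1
      rw [← AlgHom.comp_apply, MvPolynomial.comp_aeval, funext hχ] at h2
      simpa using h2

end Groth.StackCount.PointsDim
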