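import Groth.Agent.StackCount.GalDesc
import Groth.Agent.StkGerb.QuotFin.TrivTorsor

/-!
# Torsors over `Spec k'` split by a Galois extension `L`: morphisms in terms of `L`-points (helper34)
-/

set_option autoImplicit false
set_option backward.isDefEq.respectTransparency false
set_option backward.isDefEq.respectTransparency.types false

universe u

open CategoryTheory CategoryTheory.Limits MonoidalCategory CartesianMonoidalCategory MonObj GrpObj AlgebraicGeometry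
open AlgSt Groth.AlgGrp2

noncomputable section

namespace Groth.StackCount

variable {k : Type u} [Field k] {k' : Type u} [Field k'] [Algebra k k'] {L : Type u} [Field L]
  [Algebra k L] [Algebra k' L] [IsScalarTower k k' L]
  {G X : Over (Spec (CommRingCat.of k))} [GrpObj G]


section Pseudo

variable {P : Over (Spec (CommRingCat.of k))} (aP : AlgGrp.Action G P) {π : P ⟶ (SGA7.pt (K := k) k')}
  (cart : IsPullback aP.act (snd G P) π π)

/-- The orbit map of a point. -/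
def orb {Z : Over (Spec (CommRingCat.of k))} (aZ : AlgGrp.Action G Z) (z : (SGA7.pt (K := k) L) ⟶ Z) : G ⊗ (SGA7.pt (K := k) L) ⟶ Z :=
  lift (fst G (SGA7.pt (K := k) L)) (snd G (SGA7.pt (K := k) L) ≫ z) ≫ aZ.act

theorem one_orb {Z : Over (Spec (CommRingCat.of k))} (aZ : AlgGrp.Action G Z) (z : (SGA7.pt (K := k) L) ⟶ Z) :
    lift (1 : (SGA7.pt (K := k) L) ⟶ G) (𝟙 (SGA7.pt (K := k) L)) ≫ orb aZ z = z := by
  simp only [orb, comp_lift_assoc, lift_fst, lift_snd_assoc, Category.id_comp]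
  exact lift_one_act aZ z

theorem whiskerLeft_act {Z : Over (Spec (CommRingCat.of k))} (aZ : AlgGrp.Action G Z) (z : (SGA7.pt (K := k) L) ⟶ Z) :
    (G ◁ z) ≫ aZ.act = orb aZ z := by
  show (G ◁ z) ≫ aZ.act = lift _ _ ≫ aZ.act
  rw [show G ◁ z = lift (fst G (SGA7.pt (K := k) L)) (snd G (SGA7.pt (K := k) L) ≫ z) from
    CartesianMonoidalCategory.hom_ext _ _ (by simp) (by simp)]

include cart in
theorem isPullback_orb (t : (SGA7.pt (K := k) L) ⟶ P) (ht : t ≫ π = toBase k k' L) :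
    IsPullback (orb aP t) (snd G (SGA7.pt (K := k) L)) π (toBase k k' L) := by
  rw [← ht, ← whiskerLeft_act]
  exact (AlgSt.isPullback_whiskerLeft (G := G) t).paste_horiz cart

include cart in
theorem act_injective {Z : Over (Spec (CommRingCat.of k))} {g g' : Z ⟶ G} {x : Z ⟶ P}
    (h : lift g x ≫ aP.act = lift g' x ≫ aP.act) : g = g' := by
  have e : lift g x = lift g' x := cart.hom_ext h (by simp)
  simpa using congrArg (· ≫ fst G P) e

include cart in
theorem exists_act_eq {Z : Over (Spec (CommRingCat.of k))} (x y : Z ⟶ P) (h : x ≫ π = y ≫ π) :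
    ∃ g : Z ⟶ G, lift g x ≫ aP.act = y := by
  refine ⟨cart.lift y x h.symm ≫ fst G P, ?_⟩
  have e : lift (cart.lift y x h.symm ≫ fst G P) x = cart.lift y x h.symm := by
    apply CartesianMonoidalCategory.hom_ext <;> simp
  rw [e]
  exact cart.lift_fst _ _ _

include cart in
theorem exists_galois_eq (t : (SGA7.pt (K := k) L) ⟶ P) (ht : t ≫ π = toBase k k' L) (σ : L ≃ₐ[k'] L) :
    ∃ g : (SGA7.pt (K := k) L) ⟶ G, lift g t ≫ aP.act = gs k σ ≫ t :=
  exists_act_eq aP cart t _ (by rw [Category.assoc, ht, gs_toBase])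

/-- The semilinear automorphism of the trivial torsor attached to a point of the group. -/
def twMap (a : (SGA7.pt (K := k) L) ⟶ G) (σ : L ≃ₐ[k'] L) : G ⊗ (SGA7.pt (K := k) L) ⟶ G ⊗ (SGA7.pt (K := k) L) :=
  lift (fst G (SGA7.pt (K := k) L) * (snd G (SGA7.pt (K := k) L) ≫ a⁻¹)) (snd G (SGA7.pt (K := k) L) ≫ gs k σ)

theorem twMap_orb {Z : Over (Spec (CommRingCat.of k))} (aZ : AlgGrp.Action G Z) {a : (SGA7.pt (K := k) L) ⟶ G}
    {σ : L ≃ₐ[k'] L} {z : (SGA7.pt (K := k) L) ⟶ Z} (h : lift a z ≫ aZ.act = gs k σ ≫ z) :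
    twMap a σ ≫ orb aZ z = orb aZ z := by
  simp only [twMap, orb, comp_lift_assoc, lift_fst, lift_snd_assoc, Category.assoc, ← h]
  rw [← lift_mul_act, GrpObj.comp_inv, _root_.inv_mul_cancel_right]

section Descend

variable [FiniteDimensional k' L] [IsGalois k' L]

include cart in
/-- Equivariant morphisms out of a split torsor are the compatible points. -/
theorem existsUnique_map (t : (SGA7.pt (K := k) L) ⟶ P) (ht : t ≫ π = toBase k k' L)
    {Z : Over (Spec (CommRingCat.of k))} (aZ : AlgGrp.Action G Z) (z : (SGA7.pt (K := k) L) ⟶ Z)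
    (hz : ∀ (σ : L ≃ₐ[k'] L) (g : (SGA7.pt (K := k) L) ⟶ G), lift g t ≫ aP.act = gs k σ ≫ t →
      lift g z ≫ aZ.act = gs k σ ≫ z) :
    ∃! f : P ⟶ Z, aP.act ≫ f = (G ◁ f) ≫ aZ.act ∧ t ≫ f = z := by
  choose a ha using exists_galois_eq aP cart t ht
  have sq := isPullback_orb aP cart t ht
  obtain ⟨f, hf, -⟩ := existsUnique_desc sq (fun σ => twMap (a σ) σ) (fun σ => twMap_orb aP (ha σ))
    (fun σ => lift_snd _ _) (orb aZ z) (fun σ => twMap_orb aZ (hz σ _ (ha σ)))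
  replace hf : orb aP t ≫ f = orb aZ z := hf
  have := epi_proj sq
  have : Epi (G ◁ orb aP t) := epi_proj ((AlgSt.isPullback_whiskerLeft (G := G) (orb aP t)).paste_vert sq)
  refine ⟨f, ⟨?_, ?_⟩, fun f' hf' => ?_⟩
  · rw [← cancel_epi (G ◁ orb aP t), ← MonoidalCategory.whiskerLeft_comp_assoc, hf]
    have e : ∀ {Y : Over (Spec (CommRingCat.of k))} (aY : AlgGrp.Action G Y) (y : (SGA7.pt (K := k) L) ⟶ Y),
        (G ◁ orb aY y) ≫ aY.act =
          lift (fst G (G ⊗ (SGA7.pt (K := k) L)) * (snd G (G ⊗ (SGA7.pt (K := k) L)) ≫ fst G (SGA7.pt (K := k) L))) (snd G (G ⊗ (SGA7.pt (K := k) L)) ≫ snd G (SGA7.pt (K := k) L)) ≫ orb aY y := by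
      intro Y aY y
      have hw : ∀ m : G ⊗ (SGA7.pt (K := k) L) ⟶ Y,
          G ◁ m = lift (fst G _) (snd G (G ⊗ (SGA7.pt (K := k) L)) ≫ m) :=
        fun m => CartesianMonoidalCategory.hom_ext _ _ (by simp) (by simp)
      simp only [orb, comp_lift_assoc, lift_fst, lift_snd_assoc]
      rw [lift_mul_act, hw]
      simp only [comp_lift_assoc, Category.assoc]
    rw [e aZ z, ← Category.assoc, e aP t, Category.assoc, hf]
  · conv_lhs => rw [← one_orb aP t]
    rw [Category.assoc, hf, one_orb]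
  · rw [← cancel_epi (orb aP t), hf]
    show (lift (fst G (SGA7.pt (K := k) L)) (snd G (SGA7.pt (K := k) L) ≫ t) ≫ aP.act) ≫ f' = _
    rw [Category.assoc, hf'.1, lift_whiskerLeft_assoc, Category.assoc, hf'.2]
    rfl

include cart in
/-- The map of `existsUnique_map` lies over the base. -/
theorem map_π (t : (SGA7.pt (K := k) L) ⟶ P) (ht : t ≫ π = toBase k k' L)
    {Q : Over (Spec (CommRingCat.of k))} (aQ : AlgGrp.Action G Q) {π' : Q ⟶ (SGA7.pt (K := k) k')}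
    (cart' : IsPullback aQ.act (snd G Q) π' π') (f : P ⟶ Q)
    (hf : aP.act ≫ f = (G ◁ f) ≫ aQ.act) (hz : (t ≫ f) ≫ π' = toBase k k' L) : f ≫ π' = π := by
  have := epi_proj (isPullback_orb aP cart t ht)
  rw [← cancel_epi (orb aP t), (isPullback_orb aP cart t ht).w]
  show (lift (fst G (SGA7.pt (K := k) L)) (snd G (SGA7.pt (K := k) L) ≫ t) ≫ aP.act) ≫ f ≫ π' = _
  rw [Category.assoc, reassoc_of% hf, cart'.w, lift_whiskerLeft_assoc, lift_snd_assoc, Category.assoc,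
    Category.assoc, ← Category.assoc t, hz]

end Descend

end Pseudo

variable {K : Precoverage Scheme.{u}} {aX : AlgGrp.Action G X}

/-- The structure map of the torsor of an object over `Spec k'`. -/
abbrev fπ (A : (QuotSt K G aX).p.Fiber (SGA7.pt (K := k) k')) : A.1.P ⟶ (SGA7.pt (K := k) k') := A.1.π ≫ eqToHom A.2

theorem cart_fπ (A : (QuotSt K G aX).p.Fiber (SGA7.pt (K := k) k')) : IsPullback A.1.act.act (snd G A.1.P) (fπ A) (fπ A) := by
  exact A.1.cart.of_iso (Iso.refl _) (Iso.refl _) (Iso.refl _) (eqToIso A.2)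
    (by simp) (by simp) (by simp [fπ]) (by simp [fπ])

theorem hom_π {A B : (QuotSt K G aX).p.Fiber (SGA7.pt (K := k) k')} (f : A ⟶ B) : f.1.top ≫ fπ B = fπ A := by
  have hb : f.1.base = eqToHom (A.2.trans B.2.symm) := by
    have := f.2
    exact (IsHomLift.fac' (QuotSt K G aX).p (𝟙 (SGA7.pt (K := k) k')) f.1).trans (by simp)
  rw [fπ, ← Category.assoc, f.1.cart.w, hb, Category.assoc]
  exact congrArg (A.1.π ≫ ·) (eqToHom_trans _ _)

variable [FiniteDimensional k' L] [IsGalois k' L]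

theorem hom_ext_of_point {A B : (QuotSt K G aX).p.Fiber (SGA7.pt (K := k) k')} (t : (SGA7.pt (K := k) L) ⟶ A.1.P)
    (ht : t ≫ fπ A = toBase k k' L) {f f' : A ⟶ B} (h : t ≫ f.1.top = t ≫ f'.1.top) : f = f' := by
  refine Subtype.ext (QuotObj.hom_ext ?_ ?_)
  · have := f.2
    have := f'.2
    exact (IsHomLift.fac' (QuotSt K G aX).p (𝟙 (SGA7.pt (K := k) k')) f.1).trans
      (IsHomLift.fac' (QuotSt K G aX).p (𝟙 (SGA7.pt (K := k) k')) f'.1).symm
  · refine (existsUnique_map A.1.act (cart_fπ A) t ht B.1.act (t ≫ f.1.top) fun σ g hg => ?_).unique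
      ⟨f.1.eqv, rfl⟩ ⟨f'.1.eqv, h.symm⟩
    rw [← lift_whiskerLeft_assoc, ← f.1.eqv, reassoc_of% hg]

theorem exists_iso {A B : (QuotSt K G aX).p.Fiber (SGA7.pt (K := k) k')} (t : (SGA7.pt (K := k) L) ⟶ A.1.P) (z : (SGA7.pt (K := k) L) ⟶ B.1.P)
    (ht : t ≫ fπ A = toBase k k' L) (hz : z ≫ fπ B = toBase k k' L) (hφ : z ≫ B.1.φ = t ≫ A.1.φ)
    (hc : ∀ (σ : L ≃ₐ[k'] L) (g : (SGA7.pt (K := k) L) ⟶ G), lift g t ≫ A.1.act.act = gs k σ ≫ t →
      lift g z ≫ B.1.act.act = gs k σ ≫ z) :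
    ∃ i : A ≅ B, t ≫ i.hom.1.top = z := by
  have cA := cart_fπ A
  have cB := cart_fπ B
  have hc' : ∀ (σ : L ≃ₐ[k'] L) (g : (SGA7.pt (K := k) L) ⟶ G), lift g z ≫ B.1.act.act = gs k σ ≫ z →
      lift g t ≫ A.1.act.act = gs k σ ≫ t := fun σ g hg => by
    obtain ⟨g', hg'⟩ := exists_galois_eq A.1.act cA t ht σ
    rwa [act_injective B.1.act cB (hg.trans (hc σ g' hg').symm)]
  obtain ⟨f, ⟨hf, htf⟩, -⟩ := existsUnique_map A.1.act cA t ht B.1.act z hc
  obtain ⟨f', ⟨hf', hzf⟩, -⟩ := existsUnique_map B.1.act cB z hz A.1.act t hc'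
  have h₁ : f ≫ f' = 𝟙 _ := (existsUnique_map A.1.act cA t ht A.1.act t fun _ _ h => h).unique
    ⟨by rw [reassoc_of% hf, hf', ← MonoidalCategory.whiskerLeft_comp_assoc],
      by rw [reassoc_of% htf, hzf]⟩ ⟨by simp, Category.comp_id t⟩
  have h₂ : f' ≫ f = 𝟙 _ := (existsUnique_map B.1.act cB z hz B.1.act z fun _ _ h => h).unique
    ⟨by rw [reassoc_of% hf', hf, ← MonoidalCategory.whiskerLeft_comp_assoc],
      by rw [reassoc_of% hzf, htf]⟩ ⟨by simp, Category.comp_id z⟩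
  have hπ : f ≫ fπ B = fπ A := map_π A.1.act cA t ht B.1.act cB f hf (by rw [htf]; exact hz)
  have hφ' : f ≫ B.1.φ = A.1.φ :=
    (existsUnique_map A.1.act cA t ht aX (t ≫ A.1.φ) fun σ g hg => by
      rw [← lift_whiskerLeft_assoc, ← A.1.eqv, reassoc_of% hg]).unique
      ⟨by rw [reassoc_of% hf, B.1.eqv, ← MonoidalCategory.whiskerLeft_comp_assoc],
        by rw [reassoc_of% htf, hφ]⟩ ⟨A.1.eqv, rfl⟩
  exact ⟨Groth.StkGerb.QuotFin.fibIso ⟨f, f', h₁, h₂⟩ hf (by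
    rw [← cancel_mono (eqToHom B.2), Category.assoc, Category.assoc, eqToHom_trans]
    exact hπ) hφ', htf⟩

/-- Cocycle data of a chosen point of an object. -/
structure Splitting (A : (QuotSt K G aX).p.Fiber (SGA7.pt (K := k) k')) (L : Type u) [Field L] [Algebra k L] [Algebra k' L]
    [IsScalarTower k k' L] where
  /-- the point -/
  pt : SGA7.pt (K := k) L ⟶ A.1.P
  pt_π : pt ≫ fπ A = toBase k k' L
  /-- its cocycle -/
  a : (L ≃ₐ[k'] L) → (SGA7.pt (K := k) L ⟶ G)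
  ha : ∀ σ, lift (a σ) pt ≫ A.1.act.act = gs k σ ≫ pt

/-- A splitting from a point. -/
def Splitting.mk' {A : (QuotSt K G aX).p.Fiber (SGA7.pt (K := k) k')} (t : (SGA7.pt (K := k) L) ⟶ A.1.P) (ht : t ≫ fπ A = toBase k k' L) :
    Splitting A L where
  pt := t
  pt_π := ht
  a σ := (exists_galois_eq A.1.act (cart_fπ A) t ht σ).choose
  ha σ := (exists_galois_eq A.1.act (cart_fπ A) t ht σ).choose_spec

/-- Morphisms in the fibre, as points of the group. -/
theorem exists_homEquiv {A B : (QuotSt K G aX).p.Fiber (SGA7.pt (K := k) k')} (sA : Splitting A L) (sB : Splitting B L) :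
    ∃ e : (A ⟶ B) ≃ {g : (SGA7.pt (K := k) L) ⟶ G // lift g (sB.pt ≫ B.1.φ) ≫ aX.act = sA.pt ≫ A.1.φ ∧
      ∀ σ, (gs k σ ≫ g) * sB.a σ = sA.a σ * g}, ∀ f, lift (e f).1 sB.pt ≫ B.1.act.act = sA.pt ≫ f.1.top := by
  have cA := cart_fπ A
  have cB := cart_fπ B
  have key : ∀ (g : (SGA7.pt (K := k) L) ⟶ G) (σ : L ≃ₐ[k'] L),
      (lift (sA.a σ) (lift g sB.pt ≫ B.1.act.act) ≫ B.1.act.act = gs k σ ≫ lift g sB.pt ≫ B.1.act.act) ↔
        (gs k σ ≫ g) * sB.a σ = sA.a σ * g := fun g σ => by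
    rw [← lift_mul_act, comp_lift_assoc, ← sB.ha σ, ← lift_mul_act]
    exact ⟨fun h => (act_injective B.1.act cB h).symm, fun h => by rw [h]⟩
  have hto : ∀ f : A ⟶ B, ∃ g : (SGA7.pt (K := k) L) ⟶ G, lift g sB.pt ≫ B.1.act.act = sA.pt ≫ f.1.top :=
    fun f => exists_act_eq B.1.act cB _ _ (by rw [sB.pt_π, Category.assoc, hom_π, sA.pt_π])
  choose g hg using hto
  have hφ : ∀ (g : (SGA7.pt (K := k) L) ⟶ G), (lift g sB.pt ≫ B.1.act.act) ≫ B.1.φ = lift g (sB.pt ≫ B.1.φ) ≫ aX.act :=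
    fun g => by rw [Category.assoc, B.1.eqv, lift_whiskerLeft_assoc]
  have hmem : ∀ f, lift (g f) (sB.pt ≫ B.1.φ) ≫ aX.act = sA.pt ≫ A.1.φ ∧
      ∀ σ, (gs k σ ≫ g f) * sB.a σ = sA.a σ * g f := fun f => ⟨by
    rw [← hφ, hg, Category.assoc, f.1.wφ], fun σ => (key _ σ).1 (by
    rw [hg, ← lift_whiskerLeft_assoc, ← f.1.eqv, reassoc_of% sA.ha σ])⟩
  have hinv : ∀ q : {g : (SGA7.pt (K := k) L) ⟶ G // lift g (sB.pt ≫ B.1.φ) ≫ aX.act = sA.pt ≫ A.1.φ ∧
      ∀ σ, (gs k σ ≫ g) * sB.a σ = sA.a σ * g},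
      ∃ f : A ⟶ B, sA.pt ≫ f.1.top = lift q.1 sB.pt ≫ B.1.act.act := fun q => by
    obtain ⟨i, hi⟩ := exists_iso sA.pt (lift q.1 sB.pt ≫ B.1.act.act) sA.pt_π
      (by rw [Category.assoc, (cart_fπ B).w, lift_snd_assoc, sB.pt_π]) ((hφ _).trans q.2.1)
      fun σ g' hg' => by
        rw [act_injective A.1.act cA (hg'.trans (sA.ha σ).symm)]
        exact (key _ σ).2 (q.2.2 σ)
    exact ⟨i.hom, hi⟩
  choose f hf using hinv
  exact ⟨⟨fun x => ⟨g x, hmem x⟩, f,
    fun x => hom_ext_of_point sA.pt sA.pt_π ((hf _).trans (hg x)),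
    fun q => Subtype.ext (act_injective B.1.act cB ((hg _).trans (hf q)))⟩, hg⟩

end Groth.StackCount
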