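import Groth.Agent.StackCount.MassExt
import Groth.Agent.StackCount.PointsDim
import Groth.Agent.StackCount.Common
import Groth.Agent.SGA7.QLinear

/-!
# Masses of Frobenius stable closed subgroups of the unitriangular group
-/

set_option autoImplicit false
set_option backward.isDefEq.respectTransparency false
set_option backward.isDefEq.respectTransparency.types false

universe u

noncomputable section

namespace Groth.StackCount.UniTri

variable {k : Type u} [Field k] [Finite k] {K : Type u} [Field K] [Algebra k K] [Algebra.IsAlgebraic k K]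
  {N : ℕ}

variable (k K N) in
/-- The entrywise Frobenius. -/
def frGL : GL (Fin N) K →* GL (Fin N) K :=
  Units.map (frobAut k K).toRingEquiv.toRingHom.mapMatrix.toMonoidHom

theorem frGL_apply (x : GL (Fin N) K) (i j : Fin N) : (frGL k K N x).1 i j = x.1 i j ^ Nat.card k := by
  show frobAut k K (x.1 i j) = _
  rw [frobAut_apply]

/-- Upper unitriangular. -/
def IsUni (x : GL (Fin N) K) : Prop := (∀ i, x.1 i i = 1) ∧ ∀ i j, j < i → x.1 i j = 0

/-- The entries of a matrix. -/
def entries (x : GL (Fin N) K) : Fin N × Fin N → K := fun ij => x.1 ij.1 ij.2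

/-- A subgroup cut out by polynomial equations in the entries. -/
def IsClosedSG (S : Subgroup (GL (Fin N) K)) : Prop :=
  ∃ I : Set (MvPolynomial (Fin N × Fin N) K), ∀ x, x ∈ S ↔ ∀ P ∈ I, MvPolynomial.eval (entries x) P = 0

/-- The subgroup has coordinates `d`: polynomials which are surjective with finite fibres. -/
def HasCoords (S : Subgroup (GL (Fin N) K)) (d : ℕ) : Prop :=
  ∃ f : Fin d → MvPolynomial (Fin N × Fin N) K,
    (∀ v : Fin d → K, ∃ x ∈ S, ∀ j, MvPolynomial.eval (entries x) (f j) = v j) ∧
    ∀ v : Fin d → K, {x | x ∈ S ∧ ∀ j, MvPolynomial.eval (entries x) (f j) = v j}.Finite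

section Entries

/-- The `m`-th entry above the diagonal, in the ordering by distance to the diagonal. -/
def chi (m : ℕ) (x : GL (Fin N) K) : K :=
  if h : m % N + m / N < N ∧ 1 ≤ m / N then x.1 ⟨m % N, by omega⟩ ⟨m % N + m / N, h.1⟩ else 0

/-- The polynomial computing the `m`-th entry. -/
def chiPoly (m : ℕ) : MvPolynomial (Fin N × Fin N) K :=
  if h : m % N + m / N < N ∧ 1 ≤ m / N then MvPolynomial.X (⟨m % N, by omega⟩, ⟨m % N + m / N, h.1⟩) else 0

theorem eval_chiPoly (m : ℕ) (x : GL (Fin N) K) :
    MvPolynomial.eval (entries x) (chiPoly m) = chi m x := by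
  unfold chi chiPoly
  split <;> simp [entries]

theorem chi_one (m : ℕ) : chi m (1 : GL (Fin N) K) = 0 := by
  unfold chi
  split
  · rename_i h
    exact Matrix.one_apply_ne fun e => by
      have : m % N = m % N + m / N := congrArg Fin.val e
      omega
  · rfl

theorem chi_mul {x y : GL (Fin N) K} (hy : IsUni y) (hx : IsUni x) {m : ℕ} (hx0 : ∀ l < m, chi l x = 0)
    {l : ℕ} (hl : l ≤ m) : chi l (y * x) = chi l y + chi l x ∧ chi l (x * y) = chi l x + chi l y := by
  unfold chi
  split
  case isFalse => simp
  case isTrue h =>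
    let a : Fin N := ⟨l % N, by omega⟩
    let b : Fin N := ⟨l % N + l / N, h.1⟩
    have hab : a ≠ b := fun e => by
      have : l % N = l % N + l / N := congrArg Fin.val e
      omega
    have zero : ∀ c d : Fin N, a.1 ≤ c.1 → c < d → d.1 ≤ b.1 → d.1 - c.1 < l / N → x.1 c d = 0 := by
      intro c d _ hcd _ hdist
      have hN : 0 < N := by omega
      have h1 : ((d.1 - c.1) * N + c.1) % N = c.1 := by
        rw [Nat.mul_comm, Nat.mul_add_mod, Nat.mod_eq_of_lt c.2]
      have h2 : ((d.1 - c.1) * N + c.1) / N = d.1 - c.1 := by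
        rw [Nat.mul_comm, Nat.mul_add_div hN, Nat.div_eq_of_lt c.2, Nat.add_zero]
      have hlt : (d.1 - c.1) * N + c.1 < m := by
        have h3 : (d.1 - c.1 + 1) * N ≤ l / N * N := Nat.mul_le_mul_right _ hdist
        have h4 := Nat.div_mul_le_self l N
        have h5 := c.2
        rw [Nat.succ_mul] at h3
        omega
      have := hx0 _ hlt
      unfold chi at this
      rw [dif_pos ⟨by rw [h1, h2]; omega, by rw [h2]; omega⟩] at this
      convert this using 3 <;> simp only [h1, h2] <;> omega
    have hb : a.1 < b.1 := show l % N < l % N + l / N by omega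
    have hbv : b.1 = a.1 + l / N := rfl
    constructor
    · show (y.1 * x.1) a b = y.1 a b + x.1 a b
      rw [Matrix.mul_apply, Finset.sum_eq_add a b hab ?_ (by simp) (by simp), hx.1, hy.1, one_mul, mul_one,
        add_comm]
      rintro s - ⟨hsa, hsb⟩
      rcases lt_or_gt_of_ne hsa with h' | h'
      · rw [hy.2 _ _ h', zero_mul]
      · rcases lt_or_gt_of_ne hsb with h'' | h''
        · rw [zero s b (le_of_lt h') h'' le_rfl (by
            have : a.1 < s.1 := h'
            have : s.1 < b.1 := h''
            omega), mul_zero]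
        · rw [hx.2 _ _ h'', mul_zero]
    · show (x.1 * y.1) a b = x.1 a b + y.1 a b
      rw [Matrix.mul_apply, Finset.sum_eq_add a b hab ?_ (by simp) (by simp), hx.1, hy.1, one_mul, mul_one,
        add_comm]
      rintro s - ⟨hsa, hsb⟩
      rcases lt_or_gt_of_ne hsa with h' | h'
      · rw [hx.2 _ _ h', zero_mul]
      · rcases lt_or_gt_of_ne hsb with h'' | h''
        · rw [zero a s le_rfl h' (le_of_lt h'') (by
            have : a.1 < s.1 := h'
            have : s.1 < b.1 := h''
            omega), zero_mul]
        · rw [hy.2 _ _ h'', mul_zero]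

theorem eq_one_of_chi {x : GL (Fin N) K} (hx : IsUni x) (h : ∀ l < N * N, chi l x = 0) : x = 1 := by
  refine Units.ext (Matrix.ext fun i j => ?_)
  rcases lt_trichotomy i j with hij | hij | hij
  · rw [Units.val_one, Matrix.one_apply_ne hij.ne]
    have hN : 0 < N := i.pos
    have h1 : ((j.1 - i.1) * N + i.1) % N = i.1 := by
      rw [Nat.mul_comm, Nat.mul_add_mod, Nat.mod_eq_of_lt i.2]
    have h2 : ((j.1 - i.1) * N + i.1) / N = j.1 - i.1 := by
      rw [Nat.mul_comm, Nat.mul_add_div hN, Nat.div_eq_of_lt i.2, Nat.add_zero]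
    have hlt : (j.1 - i.1) * N + i.1 < N * N := by
      have h3 : (j.1 - i.1 + 1) * N ≤ N * N := Nat.mul_le_mul_right _ (by omega)
      have h5 := i.2
      rw [Nat.succ_mul] at h3
      omega
    have := h _ hlt
    unfold chi at this
    have hlt' : i.1 < j.1 := hij
    rw [dif_pos ⟨by rw [h1, h2]; omega, by rw [h2]; omega⟩] at this
    convert this using 3 <;> simp only [h1, h2] <;> omega
  · subst hij
    rw [Units.val_one, Matrix.one_apply_eq, hx.1]
  · rw [Units.val_one, Matrix.one_apply_ne hij.ne', hx.2 _ _ hij]

end Entries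

section Filtration

variable (S : Subgroup (GL (Fin N) K)) (hU : ∀ x ∈ S, IsUni x)

/-- The filtration of `S` by the vanishing of the first entries. -/
def layer (m : ℕ) : Subgroup (GL (Fin N) K) where
  carrier := {x | x ∈ S ∧ ∀ l < m, chi l x = 0}
  one_mem' := ⟨S.one_mem, fun l _ => chi_one l⟩
  mul_mem' {a b} ha hb := ⟨S.mul_mem ha.1 hb.1, fun l hl => by
    rw [(chi_mul (hU a ha.1) (hU b hb.1) hb.2 hl.le).1, ha.2 l hl, hb.2 l hl, add_zero]⟩
  inv_mem' {a} ha := ⟨S.inv_mem ha.1, fun l hl => by
    have h := (chi_mul (hU _ (S.inv_mem ha.1)) (hU a ha.1) ha.2 hl.le).1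
    rw [inv_mul_cancel, chi_one, ha.2 l hl, add_zero] at h
    exact h.symm⟩

theorem mem_layer {m : ℕ} {x : GL (Fin N) K} : x ∈ layer S hU m ↔ x ∈ S ∧ ∀ l < m, chi l x = 0 := Iff.rfl

theorem layer_succ {m : ℕ} {x : GL (Fin N) K} :
    x ∈ layer S hU (m + 1) ↔ x ∈ layer S hU m ∧ chi m x = 0 := by
  rw [mem_layer, mem_layer, and_assoc]
  refine and_congr_right fun _ => ⟨fun h => ⟨fun l hl => h l (by omega), h m (by omega)⟩, fun h l hl => ?_⟩
  rcases Nat.lt_succ_iff_lt_or_eq.1 hl with hl' | rfl
  · exact h.1 l hl'
  · exact h.2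

include hU in
theorem chi_conj {m : ℕ} {c x : GL (Fin N) K} (hc : c ∈ S) (hx : x ∈ layer S hU m) :
    ∀ l ≤ m, chi l (c * x * c⁻¹) = chi l x := by
  intro l
  induction l using Nat.strong_induction_on with
  | _ l ih =>
    intro hl
    have hmem : c * x * c⁻¹ ∈ S := S.mul_mem (S.mul_mem hc hx.1) (S.inv_mem hc)
    have h0 : ∀ l' < l, chi l' (c * x * c⁻¹) = 0 := fun l' hl' => by
      rw [ih l' hl' (by omega), hx.2 l' (by omega)]
    have h1 := (chi_mul (hU c hc) (hU _ hmem) h0 le_rfl).2
    have h2 := (chi_mul (hU c hc) (hU x hx.1) hx.2 hl).1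
    rw [inv_mul_cancel_right] at h1
    rw [h1] at h2
    linear_combination h2

/-- The `m`-th entry is a homomorphism on the `m`-th layer. -/
def chiHom (m : ℕ) : layer S hU m →* Multiplicative K :=
  MonoidHom.mk' (fun x => Multiplicative.ofAdd (chi m x.1)) fun a b => by
    rw [← ofAdd_add]
    exact congrArg Multiplicative.ofAdd (chi_mul (hU a.1 a.2.1) (hU b.1 b.2.1) b.2.2 le_rfl).1

/-- The steps at which the entry takes every value. -/
def full (m : ℕ) : Prop := ∀ v : K, ∃ x ∈ layer S hU m, chi m x = v

variable {S} (hcl : IsClosedSG S) {p e : ℕ} [Fact p.Prime] [CharP K p] (hexp : ∀ x ∈ S, x ^ p ^ e = 1)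

include hexp in
theorem det_eq_one {x : GL (Fin N) K} (hx : x ∈ S) : x.1.det = 1 := by
  have h := congrArg (fun y : GL (Fin N) K => y.1.det) (hexp x hx)
  simp only [Units.val_pow_eq_pow_val, Matrix.det_pow, Units.val_one, Matrix.det_one] at h
  have h2 : (x.1.det - 1) ^ p ^ e = 0 := by rw [sub_pow_char_pow, h, one_pow, sub_self]
  exact sub_eq_zero.1 (eq_zero_of_pow_eq_zero h2)

variable [IsAlgClosed K]

include hU hexp hcl in
/-- The entry takes finitely many values unless it takes all. -/
theorem finite_range_of_not_full {m : ℕ} (h : ¬ full S hU m) : Set.Finite (chi m '' (layer S hU m : Set (GL (Fin N) K))) := by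
  classical
  obtain ⟨I, hI⟩ := hcl
  let T : Set (MvPolynomial (Fin N × Fin N) K) :=
    I ∪ {(Matrix.of fun i j => MvPolynomial.X (i, j)).det - 1} ∪ chiPoly '' {l | l < m}
  let B := MvPolynomial (Fin N × Fin N) K ⧸ Ideal.span T
  let fB : B := Ideal.Quotient.mk _ (chiPoly m)
  have hdetEval : ∀ w : Fin N × Fin N → K, MvPolynomial.eval w (Matrix.of fun i j => MvPolynomial.X (i, j)).det =
      (Matrix.of fun i j => w (i, j)).det := fun w => by
    rw [RingHom.map_det]
    congr 1
    ext i j
    simp
  have hrange : (Set.range fun χ : B →ₐ[K] K => χ fB) = chi m '' (layer S hU m : Set (GL (Fin N) K)) := by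
    ext v
    constructor
    · rintro ⟨χ, rfl⟩
      let w : Fin N × Fin N → K := fun ij => χ (Ideal.Quotient.mk _ (MvPolynomial.X ij))
      have hw : ∀ P : MvPolynomial (Fin N × Fin N) K, χ (Ideal.Quotient.mk _ P) = MvPolynomial.eval w P := fun P => by
        have : χ.comp (Ideal.Quotient.mkₐ K _) = MvPolynomial.aeval w :=
          MvPolynomial.algHom_ext fun i => by simp [w]; rfl
        have h5 := DFunLike.congr_fun this P
        rw [MvPolynomial.aeval_eq_eval] at h5
        exact h5
      have hT : ∀ P ∈ T, MvPolynomial.eval w P = 0 := fun P hP => by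
        rw [← hw, Ideal.Quotient.eq_zero_iff_mem.2 (Ideal.subset_span hP), map_zero]
      have hdet : (Matrix.of fun i j => w (i, j)).det = 1 := by
        have := hT _ (Or.inl (Or.inr rfl))
        rwa [map_sub, map_one, sub_eq_zero, hdetEval] at this
      let x : GL (Fin N) K :=
        Matrix.nonsingInvUnit (Matrix.of fun i j => w (i, j)) (by rw [hdet]; exact isUnit_one)
      have hent : entries x = w := funext fun ij => rfl
      refine ⟨x, ⟨(hI x).2 fun P hP => ?_, fun l hl => ?_⟩, ?_⟩
      · rw [hent]
        exact hT P (Or.inl (Or.inl hP))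
      · rw [← eval_chiPoly, hent]
        exact hT _ (Or.inr ⟨l, hl, rfl⟩)
      · show chi m x = χ fB
        rw [← eval_chiPoly, hent, ← hw]
    · rintro ⟨x, hx, rfl⟩
      refine ⟨Ideal.Quotient.liftₐ _ (MvPolynomial.aeval (entries x)) fun P hP => ?_, ?_⟩
      · refine (Ideal.span_le (I := RingHom.ker (MvPolynomial.aeval (entries x) :
          MvPolynomial (Fin N × Fin N) K →ₐ[K] K))).2 (fun Q hQ => ?_) hP
        rw [SetLike.mem_coe, RingHom.mem_ker, MvPolynomial.aeval_eq_eval]
        rcases hQ with (hQ | hQ) | ⟨l, hl, rfl⟩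
        · exact (hI x).1 hx.1 Q hQ
        · rw [Set.mem_singleton_iff.1 hQ]
          show MvPolynomial.eval (entries x) _ = 0
          rw [map_sub, map_one, hdetEval, sub_eq_zero]
          exact det_eq_one hexp hx.1
        · exact (eval_chiPoly l x).trans (hx.2 l hl)
      · show MvPolynomial.aeval (entries x) (chiPoly m) = chi m x
        rw [MvPolynomial.aeval_eq_eval]
        exact eval_chiPoly m x
  rcases PointsDim.finite_or_cofinite_values (K := K) fB with hf | hf
  · rwa [hrange] at hf
  · rw [hrange] at hf
    exfalso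
    refine h fun v => ?_
    -- a subgroup with finite complement is everything
    by_contra! hv
    let V := chi m '' (layer S hU m : Set (GL (Fin N) K))
    have hsub : ∀ w ∈ V, v + w ∈ Vᶜ := by
      rintro _ ⟨x, hx, rfl⟩ ⟨y, hy, hyv⟩
      refine hv (y * x⁻¹) ((layer S hU m).mul_mem hy ((layer S hU m).inv_mem hx)) ?_
      have h1 := (chiHom S hU m).map_mul ⟨y, hy⟩ (⟨x, hx⟩⁻¹)
      rw [map_inv] at h1
      show Multiplicative.toAdd ((chiHom S hU m) (⟨y, hy⟩ * ⟨x, hx⟩⁻¹)) = v
      rw [h1]
      show chi m y + -chi m x = v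
      rw [hyv]
      ring
    have hV : V.Finite := (hf.image (fun z => z - v)).subset fun w hw => ⟨v + w, hsub w hw, by ring⟩
    exact Set.infinite_univ (by rw [← Set.union_compl_self V]; exact hV.union hf)

end Filtration

section Main

variable {S : Subgroup (GL (Fin N) K)} (hU : ∀ x ∈ S, IsUni x) (hcl : IsClosedSG S) {p e : ℕ} [Fact p.Prime]
  [CharP K p] [IsAlgClosed K] (hexp : ∀ x ∈ S, x ^ p ^ e = 1) (hfr : ∀ x ∈ S, frGL k K N x ∈ S)

open Classical in
/-- The exponent in the mass of the `m`-th layer. -/
def expo (m : ℕ) : ℕ := ((Finset.Ico m (N * N)).filter (full S hU)).card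

theorem chi_frGL (m : ℕ) (x : GL (Fin N) K) : chi m (frGL k K N x) = chi m x ^ Nat.card k := by
  unfold chi
  split
  · rw [frGL_apply]
  · rw [zero_pow Nat.card_pos.ne']

include hcl hexp hfr in
theorem hasMass_layer (m : ℕ) (hm : m ≤ N * N) :
    ∀ c ∈ S, ∀ τ : layer S hU m →* layer S hU m, (∀ x, (τ x).1 = frGL k K N (c * x.1 * c⁻¹)) →
      Mass.HasMass (layer S hU m) (TwConj τ) ((Nat.card k : ℚ) ^ expo hU m)⁻¹ := by
  classical
  induction hm using Nat.decreasingInduction with
  | self =>
    intro c hc τ _
    have : Subsingleton (layer S hU (N * N)) := ⟨fun a b => Subtype.ext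
      ((eq_one_of_chi (hU a.1 a.2.1) a.2.2).trans (eq_one_of_chi (hU b.1 b.2.1) b.2.2).symm)⟩
    simpa [expo] using Mass.hasMass_twConj_finite τ
  | of_succ m hm ih =>
    intro c hc τ hτ
    have := Fintype.ofFinite k
    obtain ⟨q, hq⟩ : ∃ q, q = Nat.card k := ⟨_, rfl⟩
    let A := layer S hU m
    let χ := (chiHom S hU m).rangeRestrict
    have hχτ : ∀ x : A, chi m (τ x).1 = chi m x.1 ^ q := fun x => by
      rw [hτ, chi_frGL, chi_conj S hU hc x.2 m le_rfl, hq]
    let fC : (chiHom S hU m).range →* (chiHom S hU m).range :=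
      MonoidHom.mk' (fun v => ⟨Multiplicative.ofAdd (Multiplicative.toAdd v.1 ^ q), by
          obtain ⟨x, hx⟩ := v.2
          refine ⟨τ x, ?_⟩
          rw [← hx]
          exact congrArg Multiplicative.ofAdd (hχτ x)⟩) fun v w => Subtype.ext (by
        show Multiplicative.ofAdd ((Multiplicative.toAdd v.1 + Multiplicative.toAdd w.1) ^ q) = _
        have : (Multiplicative.toAdd v.1 + Multiplicative.toAdd w.1) ^ q =
            Multiplicative.toAdd v.1 ^ q + Multiplicative.toAdd w.1 ^ q := by
          rw [hq, ← frobAut_apply k K, ← frobAut_apply k K, ← frobAut_apply k K, map_add]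
        rw [this, ofAdd_add]
        rfl)
    have hf : ∀ x, χ (τ x) = fC (χ x) := fun x => Subtype.ext (congrArg Multiplicative.ofAdd (hχτ x))
    have hα : ∀ (b : A) (τ' : χ.ker →* χ.ker), (∀ a : χ.ker, (τ' a).1 = τ (b * a.1 * b⁻¹)) →
        Mass.HasMass χ.ker (TwConj τ') ((Nat.card k : ℚ) ^ expo hU (m + 1))⁻¹ := by
      intro b τ' hτ'
      have hker : ∀ a : A, a ∈ χ.ker ↔ a.1 ∈ layer S hU (m + 1) := fun a => by
        rw [MonoidHom.mem_ker, layer_succ, and_iff_right a.2]
        exact ⟨fun h => congrArg (fun v => Multiplicative.toAdd v.1) h, fun h => Subtype.ext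
          (congrArg Multiplicative.ofAdd h)⟩
      let E : layer S hU (m + 1) ≃* χ.ker :=
        { toFun := fun a => ⟨⟨a.1, ((layer_succ S hU).1 a.2).1⟩, (hker _).2 a.2⟩
          invFun := fun a => ⟨a.1.1, (hker a.1).1 a.2⟩
          left_inv := fun a => rfl
          right_inv := fun a => rfl
          map_mul' := fun a b => rfl }
      let τ'' : layer S hU (m + 1) →* layer S hU (m + 1) := (E.symm.toMonoidHom.comp τ').comp E.toMonoidHom
      have h := ih (c * b.1) (S.mul_mem hc b.2.1) τ'' fun x => by
        show (τ' (E x)).1.1 = _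
        rw [hτ' (E x), hτ]
        show frGL k K N (c * (b.1 * x.1 * b.1⁻¹) * c⁻¹) = _
        congr 1
        group
      refine (Mass.hasMass_iff_of_equiv (P := TwConj τ') (P' := TwConj τ'')
        (fun a => (E (show layer S hU (m + 1) from a) : χ.ker)) E.toMonoidHom E.injective (fun d a => ?_)
        (fun a => ⟨1, E.symm (show χ.ker from a), ?_⟩) (fun a₁ a₂ g hg => ⟨E.symm g, ?_, E.apply_symm_apply g⟩)).1 h
      · show E (τ'' d * (show layer S hU (m + 1) from a) * d⁻¹) = τ' (E d) * E _ * (E d)⁻¹
        rw [map_mul, map_mul, map_inv]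
        congr 2
      · rw [one_smul]
        exact E.apply_symm_apply _
      · refine E.injective (Eq.trans ?_ hg)
        show E (τ'' (E.symm g) * (show layer S hU (m + 1) from a₁) * (E.symm g)⁻¹) = τ' g * _ * g⁻¹
        rw [map_mul, map_mul, map_inv, E.apply_symm_apply]
        congr 2
    by_cases hfull : full S hU m
    · have hrange : ∀ v : K, Multiplicative.ofAdd v ∈ (chiHom S hU m).range := fun v => by
        obtain ⟨x, hx, hxv⟩ := hfull v
        exact ⟨⟨x, hx⟩, congrArg Multiplicative.ofAdd hxv⟩
      have hC : Mass.HasMass (chiHom S hU m).range (TwConj fC) (Nat.card k : ℚ)⁻¹ := by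
        have hsm : ∀ g a : (chiHom S hU m).range, Multiplicative.toAdd
            (show (chiHom S hU m).range from (g • (show TwConj fC from a))).1 =
            Multiplicative.toAdd g.1 ^ q + Multiplicative.toAdd a.1 - Multiplicative.toAdd g.1 := fun g a =>
          (sub_eq_add_neg _ _).symm
        have hsub : Subsingleton (MulAction.orbitRel.Quotient (chiHom S hU m).range (TwConj fC)) := ⟨by
          rintro ⟨a⟩ ⟨b⟩
          refine Quotient.sound' (MulAction.orbitRel_apply.2 ?_)
          obtain ⟨z, hz⟩ := Groth.SGA7.QLin.exists_pow_sub_eq (k := K) (q := q) (hq ▸ Finite.one_lt_card)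
            (by rw [hq, Nat.card_eq_fintype_card, ← map_natCast (algebraMap k K), Nat.cast_card_eq_zero, map_zero])
            (Multiplicative.toAdd (show (chiHom S hU m).range from a).1 -
              Multiplicative.toAdd (show (chiHom S hU m).range from b).1)
          refine ⟨⟨_, hrange z⟩, Subtype.ext (Multiplicative.toAdd.injective ?_)⟩
          refine (hsm _ _).trans ?_
          show z ^ q + _ - z = _
          linear_combination hz⟩
        have hst : ∀ a : TwConj fC, Nat.card (MulAction.stabilizer (chiHom S hU m).range a) = Nat.card k := fun a => by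
          refine (Nat.card_congr (Equiv.ofBijective
            (fun c : k => (⟨⟨_, hrange (algebraMap k K c)⟩, ?_⟩ : MulAction.stabilizer (chiHom S hU m).range a)) ⟨?_, ?_⟩)).symm
          · refine Subtype.ext (Multiplicative.toAdd.injective ((hsm _ _).trans ?_))
            show algebraMap k K c ^ q + _ - algebraMap k K c = _
            rw [← map_pow, hq, Nat.card_eq_fintype_card, FiniteField.pow_card]
            ring
          · intro c c' h
            exact (algebraMap k K).injective (congrArg (fun v => Multiplicative.toAdd v.1.1) h)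
          · intro g
            let z := Multiplicative.toAdd g.1.1
            have hz : z ^ q = z := by
              have h := congrArg (fun v => Multiplicative.toAdd (show (chiHom S hU m).range from v).1) g.2
              rw [hsm] at h
              linear_combination h
            have hfix : z ∈ (⊥ : IntermediateField k K) := by
              have : IsAlgClosure k K := ⟨inferInstance, inferInstance⟩
              have : IsGalois k K := ⟨⟩
              rw [← InfiniteGalois.fixedField_fixingSubgroup (⊥ : IntermediateField k K)]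
              rintro ⟨σ, -⟩
              show σ z = z
              haveI := IntermediateField.adjoin.finiteDimensional (Algebra.IsIntegral.isIntegral (R := k) z)
              obtain ⟨i, hi⟩ := FrobGen.exists_pow_agree (frobAut_apply k K) (IntermediateField.adjoin k {z}) σ
              have h1 := (IntermediateField.mem_fixingSubgroup_iff _ _).1 hi z
                (IntermediateField.mem_adjoin_simple_self k z)
              rw [AlgEquiv.mul_apply] at h1
              have h2 : (frobAut k K ^ i) z = z := by
                rw [FrobGen.pow_apply (frobAut_apply k K)]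
                clear h1 hi
                induction i with
                | zero => simp
                | succ i ih => rw [pow_succ, pow_mul, ih, ← hq, hz]
              calc σ z = (frobAut k K ^ i) (((frobAut k K ^ i)⁻¹) (σ z)) := by
                    rw [← AlgEquiv.mul_apply, mul_inv_cancel]; rfl
                _ = z := by rw [h1, h2]
            obtain ⟨c, hc'⟩ := IntermediateField.mem_bot.1 hfix
            exact ⟨c, Subtype.ext (Subtype.ext (by simp [hc', z]))⟩
        have hne : Nonempty (MulAction.orbitRel.Quotient (chiHom S hU m).range (TwConj fC)) :=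
          ⟨Quotient.mk'' (show TwConj fC from (1 : (chiHom S hU m).range))⟩
        refine ⟨inferInstance, fun a => ?_, ?_⟩
        · exact Nat.finite_of_card_ne_zero (by rw [hst]; exact Nat.card_pos.ne')
        · obtain ⟨ω⟩ := hne
          rw [finsum_eq_single _ ω fun x hx => absurd (Subsingleton.elim x ω) hx, hst]
      have h := Mass.hasMass_extension τ fC χ (chiHom S hU m).rangeRestrict_surjective hf hC hα
      convert h using 1
      have he : expo hU m = expo hU (m + 1) + 1 := by
        unfold expo
        rw [← Finset.insert_Ico_add_one_left_eq_Ico hm, Finset.filter_insert, if_pos hfull,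
          Finset.card_insert_of_notMem (by simp)]
      rw [he, pow_succ, mul_inv]
    · have hV : Finite (chiHom S hU m).range := by
        have hfin := finite_range_of_not_full hU hcl hexp hfull
        have : Finite (chi m '' (layer S hU m : Set (GL (Fin N) K)) : Set K) := hfin.to_subtype
        refine Finite.of_injective (β := (chi m '' (layer S hU m : Set (GL (Fin N) K)) : Set K))
          (fun v => ⟨Multiplicative.toAdd v.1, ?_⟩) fun v w h => Subtype.ext (Multiplicative.toAdd.injective (congrArg Subtype.val h :))
        obtain ⟨x, hx⟩ := v.2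
        exact ⟨x.1, x.2, by rw [← hx]; rfl⟩
      have h := Mass.hasMass_extension τ fC χ (chiHom S hU m).rangeRestrict_surjective hf
        (Mass.hasMass_twConj_finite fC) hα
      convert h using 1
      have he : expo hU m = expo hU (m + 1) := by
        unfold expo
        rw [← Finset.insert_Ico_add_one_left_eq_Ico hm, Finset.filter_insert, if_neg hfull]
      rw [he, mul_one]

include hcl hexp in
theorem hasCoords : HasCoords S (expo hU 0) := by
  classical
  let J : Finset ℕ := (Finset.Ico 0 (N * N)).filter (full S hU)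
  let ι : Fin (expo hU 0) ≃ J := (Finset.equivFin J).symm
  refine ⟨fun j => chiPoly (ι j).1, fun v => ?_, fun v => ?_⟩
  · have step : ∀ m, ∃ x ∈ S, ∀ j, (ι j).1 < m → chi (ι j).1 x = v j := by
      intro m
      induction m with
      | zero => exact ⟨1, S.one_mem, fun j hj => absurd hj (by omega)⟩
      | succ m ih =>
        obtain ⟨x, hx, hxv⟩ := ih
        by_cases hj : ∃ j, (ι j).1 = m
        · obtain ⟨j₀, hj₀⟩ := hj
          have hf : full S hU m := hj₀ ▸ (Finset.mem_filter.1 (ι j₀).2).2
          obtain ⟨z, hz, hzv⟩ := hf (v j₀ - chi m x)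
          refine ⟨x * z, S.mul_mem hx hz.1, fun j hjm => ?_⟩
          rw [(chi_mul (hU x hx) (hU z hz.1) hz.2 (Nat.lt_succ_iff.1 hjm)).1]
          rcases Nat.lt_succ_iff_lt_or_eq.1 hjm with h | h
          · rw [hz.2 _ h, add_zero, hxv j h]
          · have : j = j₀ := ι.injective (Subtype.ext (h.trans hj₀.symm))
            subst this
            rw [h, hzv]
            ring
        · refine ⟨x, hx, fun j hjm => hxv j ?_⟩
          rcases Nat.lt_succ_iff_lt_or_eq.1 hjm with h | h
          · exact h
          · exact absurd ⟨j, h⟩ hj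
    obtain ⟨x, hx, hxv⟩ := step (N * N)
    refine ⟨x, hx, fun j => ?_⟩
    rw [eval_chiPoly]
    exact hxv j (Finset.mem_Ico.1 (Finset.mem_filter.1 (ι j).2).1).2
  · simp only [eval_chiPoly]
    let X := {x : GL (Fin N) K | x ∈ S ∧ ∀ j, chi (ι j).1 x = v j}
    have step : ∀ m ≤ N * N, ((fun x : GL (Fin N) K => fun l : Fin m => chi l.1 x) '' X).Finite := by
      intro m
      induction m with
      | zero => exact fun _ => Set.toFinite _
      | succ m ih =>
        intro hm
        by_cases hf : full S hU m
        · obtain ⟨j₀, hj₀⟩ := ι.surjective ⟨m, Finset.mem_filter.2 ⟨Finset.mem_Ico.2 ⟨by omega, by omega⟩, hf⟩⟩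
          refine ((ih (by omega)).image (fun w : Fin m → K => (Fin.snoc w (v j₀) : Fin (m + 1) → K))).subset ?_
          rintro _ ⟨x, hx, rfl⟩
          refine ⟨_, ⟨x, hx, rfl⟩, funext fun l => ?_⟩
          induction l using Fin.lastCases with
          | last =>
            dsimp only
            rw [Fin.snoc_last, ← hx.2 j₀, hj₀]
            rfl
          | cast l => dsimp only; rw [Fin.snoc_castSucc]; rfl
        · -- one value modulo a finite set
          have hV := finite_range_of_not_full hU hcl hexp hf
          have ih' := ih (by omega)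
          choose! pick hpick using fun w (hw : w ∈ (fun x : GL (Fin N) K => fun l : Fin m => chi l.1 x) '' X) => hw
          refine ((ih'.prod hV).image (fun wd : (Fin m → K) × K =>
            (Fin.snoc wd.1 (chi m (pick wd.1) + wd.2) : Fin (m + 1) → K))).subset ?_
          rintro _ ⟨x, hx, rfl⟩
          let w : Fin m → K := fun l => chi l.1 x
          obtain ⟨hy, hyw⟩ := hpick w ⟨x, hx, rfl⟩
          let z := (pick w)⁻¹ * x
          have hzS : z ∈ S := S.mul_mem (S.inv_mem hy.1) hx.1
          have hz : ∀ l, l < m → chi l z = 0 := by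
            intro l
            induction l using Nat.strong_induction_on with
            | _ l ihl =>
              intro hl
              have h := (chi_mul (hU _ hy.1) (hU z hzS) (m := l) (fun l' hl' => ihl l' hl' (by omega)) le_rfl).1
              have h3 : chi l (pick w) = chi l x := congrFun hyw ⟨l, hl⟩
              rw [mul_inv_cancel_left, h3] at h
              linear_combination -h
          have h := (chi_mul (hU _ hy.1) (hU z hzS) hz le_rfl).1
          rw [mul_inv_cancel_left] at h
          refine ⟨(w, chi m z), ⟨⟨x, hx, rfl⟩, z, ⟨hzS, hz⟩, rfl⟩, funext fun l => ?_⟩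
          induction l using Fin.lastCases with
          | last => dsimp only; rw [Fin.snoc_last]; exact h.symm
          | cast l => dsimp only; rw [Fin.snoc_castSucc]; rfl
    refine Set.Finite.of_finite_image (step (N * N) le_rfl) fun x hx y hy hxy => ?_
    have hzS : x⁻¹ * y ∈ S := S.mul_mem (S.inv_mem hx.1) hy.1
    have : x⁻¹ * y = 1 := eq_one_of_chi (hU _ hzS) fun l => by
      induction l using Nat.strong_induction_on with
      | _ l ihl =>
        intro hl
        have h := (chi_mul (hU x hx.1) (hU _ hzS) (m := l) (fun l' hl' => ihl l' hl' (by omega)) le_rfl).1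
        rw [mul_inv_cancel_left, show chi l x = chi l y from congrFun hxy ⟨l, hl⟩] at h
        linear_combination -h
    exact inv_mul_eq_one.1 this

end Main

end Groth.StackCount.UniTri
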